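import Groth.Agent.L27.EtSite.Points
import Mathlib.CategoryTheory.Sites.Point.Comap
import Mathlib.CategoryTheory.Sites.Point.Category
import Mathlib.CategoryTheory.Abelian.Exact

/-! # Stalks of inverse images on small etale sites -/

universe u v w

open CategoryTheory CategoryTheory.Limits AlgebraicGeometry Opposite

set_option backward.isDefEq.respectTransparency.types false

namespace Groth.L27.EtSite

theorem initiallySmall_elements_of_iso {C : Type*} [Category C] {F G : C ⥤ Type w} (e : F ≅ G)
    [InitiallySmall.{u} F.Elements] : InitiallySmall.{u} G.Elements := by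
  have : (CategoryOfElements.map e.hom).IsEquivalence :=
    { faithful := ⟨fun {a b} g g' h => Subtype.ext (show g.1 = g'.1 from congrArg (fun m => m.1) h)⟩
      full := ⟨fun {a b} g => ⟨⟨g.1, by
        have h1 : G.map g.1 (e.hom.app a.1 a.2) = e.hom.app b.1 b.2 := g.2
        have h2 : e.hom.app b.1 (F.map g.1 a.2) = e.hom.app b.1 b.2 :=
          (NatTrans.naturality_apply e.hom g.1 a.2).trans h1
        have h3 := congrArg (e.inv.app b.1) h2
        simp at h3
        exact h3⟩, Subtype.ext rfl⟩⟩
      essSurj := ⟨fun ⟨X, x⟩ => ⟨⟨X, e.inv.app X x⟩, ⟨eqToIso (by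
        show (⟨X, e.hom.app X (e.inv.app X x)⟩ : G.Elements) = ⟨X, x⟩
        simp)⟩⟩⟩ }
  exact initiallySmall_of_initial_of_initiallySmall (CategoryOfElements.map e.hom)

variable {X Y : Scheme.{u}} (f : X ⟶ Y) {Ω : Type u} [Field Ω] [IsSepClosed Ω]
  (ξ : Spec (CommRingCat.of Ω) ⟶ X)

/-- Geometric fibres of base changes. -/
noncomputable def fiberBcIso :
    EtCoh.bc f ⋙ (Scheme.pointSmallEtale ξ).fiber ≅ (Scheme.pointSmallEtale (ξ ≫ f)).fiber :=
  NatIso.ofComponents (fun V => Equiv.toIso
    { toFun := fun y => Over.homMk (y.left ≫ pullback.fst V.hom f)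
        ((Category.assoc _ _ _).trans ((congrArg (y.left ≫ ·) pullback.condition).trans
          ((Category.assoc _ _ _).symm.trans (congrArg (· ≫ f) (Over.w y)))))
      invFun := fun z => Over.homMk (pullback.lift z.left ξ (Over.w z)) (pullback.lift_snd _ _ _)
      left_inv := fun y => by
        apply Over.OverMorphism.ext
        exact pullback.hom_ext ((pullback.lift_fst _ _ _).trans rfl)
          ((pullback.lift_snd _ _ _).trans (Over.w y).symm)
      right_inv := fun z => by
        apply Over.OverMorphism.ext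
        exact pullback.lift_fst _ _ _ })
    fun {V W} g => by
      ext y
      apply Over.OverMorphism.ext
      show (y.left ≫ ((EtCoh.bc f).map g).left) ≫ pullback.fst W.hom f =
        (y.left ≫ pullback.fst V.hom f) ≫ g.left
      exact (Category.assoc _ _ _).trans ((congrArg (y.left ≫ ·) (EtCoh.isPullback_bc_map f g).w).trans
        (Category.assoc _ _ _).symm)

instance : InitiallySmall.{u} (EtCoh.bc f ⋙ (Scheme.pointSmallEtale ξ).fiber).Elements :=
  initiallySmall_elements_of_iso (fiberBcIso f ξ).symm

/-- The point `ξ` pushed forward along `f` is the point `ξ ≫ f`. -/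
noncomputable def comapPointIso :
    Scheme.pointSmallEtale (ξ ≫ f) ≅
      (Scheme.pointSmallEtale ξ).comap (EtCoh.bc f) (EtCoh.coverPreserving_bc f) where
  hom := ⟨(fiberBcIso f ξ).hom⟩
  inv := ⟨(fiberBcIso f ξ).inv⟩
  hom_inv_id := GrothendieckTopology.Point.hom_ext (fiberBcIso f ξ).inv_hom_id
  inv_hom_id := GrothendieckTopology.Point.hom_ext (fiberBcIso f ξ).hom_inv_id

section

variable (A : Type w) [Category.{v} A] [HasColimitsOfSize.{u, u} A]

/-- Stalks at isomorphic points agree. -/
noncomputable def sheafFiberCongr {C : Type*} [Category C] {J : GrothendieckTopology C}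
    {Φ Ψ : GrothendieckTopology.Point.{u} J} (e : Φ ≅ Ψ) : Ψ.sheafFiber (A := A) ≅ Φ.sheafFiber where
  hom := GrothendieckTopology.Point.Hom.sheafFiber e.hom
  inv := GrothendieckTopology.Point.Hom.sheafFiber e.inv
  hom_inv_id := by
    rw [← GrothendieckTopology.Point.Hom.sheafFiber_comp, e.inv_hom_id,
      GrothendieckTopology.Point.Hom.sheafFiber_id]
  inv_hom_id := by
    rw [← GrothendieckTopology.Point.Hom.sheafFiber_comp, e.hom_inv_id,
      GrothendieckTopology.Point.Hom.sheafFiber_id]

end

/-- Stalks of inverse images. -/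
noncomputable def stalkPullIso : EtCoh.pull f ⋙ EtCoh.stalk ξ ≅ EtCoh.stalk (ξ ≫ f) :=
  ((Scheme.pointSmallEtale ξ).sheafFiberComapIso (EtCoh.bc f) (EtCoh.coverPreserving_bc f)
    AddCommGrpCat.{u + 1}).symm ≪≫ sheafFiberCongr _ (comapPointIso f ξ)

/-- Stalks of inverse images of sheaves of sets. -/
noncomputable def stalkPullShIso :
    (EtCoh.bc f).sheafPullback (Type (u + 1)) Y.smallEtaleTopology X.smallEtaleTopology ⋙
      (Scheme.pointSmallEtale ξ).sheafFiber ≅ (Scheme.pointSmallEtale (ξ ≫ f)).sheafFiber :=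
  ((Scheme.pointSmallEtale ξ).sheafFiberComapIso (EtCoh.bc f) (EtCoh.coverPreserving_bc f)
    (Type (u + 1))).symm ≪≫ sheafFiberCongr _ (comapPointIso f ξ)

instance additive_pull : (EtCoh.pull f).Additive := (EtCoh.pullPushAdj f).left_adjoint_additive

/-- Inverse image preserves monomorphisms. -/
theorem mono_pull_map {F G : EtCoh.Ab Y} (φ : F ⟶ G) [Mono φ] : Mono ((EtCoh.pull f).map φ) := by
  refine (mono_iff_stalks _).2 fun Ω _ _ ξ => ?_
  have h : Mono ((EtCoh.pull f ⋙ EtCoh.stalk ξ).map φ) :=
    ((MorphismProperty.monomorphisms _).arrow_mk_iso_iff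
      (((Functor.mapArrowFunctor _ _).mapIso (stalkPullIso f ξ)).app (Arrow.mk φ))).2
      (show Mono ((EtCoh.stalk (ξ ≫ f)).map φ) from inferInstance)
  exact (AddCommGrpCat.mono_iff_injective _).1 h

/-- Inverse image of abelian sheaves is exact. -/
theorem preservesFiniteLimits_pull : PreservesFiniteLimits (EtCoh.pull f) := by
  have : (EtCoh.pull f).PreservesMonomorphisms := ⟨fun φ _ => mono_pull_map f φ⟩
  have : PreservesFiniteColimits (EtCoh.pull f) := by
    have : PreservesColimitsOfSize.{0, 0} (EtCoh.pull f) := (EtCoh.pullPushAdj f).leftAdjoint_preservesColimits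
    exact PreservesColimitsOfSize.preservesFiniteColimits _
  have : (EtCoh.pull f).PreservesHomology :=
    Functor.preservesHomology_of_preservesMonos_and_cokernels _
  exact (EtCoh.pull f).preservesFiniteLimits_of_preservesHomology

end Groth.L27.EtSite
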