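import Groth.Agent.L27.EtSite.SplitCover
import Groth.Agent.L23.SourceReduce
import Groth.Prelude.Def_BigSite
import Mathlib.AlgebraicGeometry.Morphisms.Integral
import Mathlib.AlgebraicGeometry.Morphisms.Etale
import Mathlib.AlgebraicGeometry.Morphisms.FlatMono
import Mathlib.AlgebraicGeometry.Pullbacks

/-! # Integral morphisms have property (B) -/

universe u

open CategoryTheory CategoryTheory.Limits AlgebraicGeometry TopologicalSpace TensorProduct

set_option backward.isDefEq.respectTransparency.types false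
set_option linter.style.haveILetI false

namespace Groth.L27.EtSite

theorem exists_lift_affine (A B : Type u) [CommRing A] [CommRing B] [Algebra A B] [Algebra.IsIntegral A B]
    {Z : Scheme.{u}} (χ : Z ⟶ Spec (CommRingCat.of B)) [Etale χ] [Surjective χ]
    (x : Spec (CommRingCat.of A)) :
    ∃ (A' : Type u) (_ : CommRing A') (_ : Algebra A A') (_ : Algebra.Etale A A')
      (x' : Spec (CommRingCat.of A')), (Spec.map (CommRingCat.ofHom (algebraMap A A'))).base x' = x ∧
      ∃ h : pullback (Spec.map (CommRingCat.ofHom (algebraMap A B)))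
          (Spec.map (CommRingCat.ofHom (algebraMap A A'))) ⟶ Z,
        h ≫ χ = pullback.fst _ _ := by
  obtain ⟨n, V, hV, hs⟩ := Groth.L23.exists_affine_refinement χ
  have : ∀ i, IsAffine (V i : Scheme.{u}) := hV
  let T := ∐ fun i => (V i : Scheme.{u})
  let π : T ⟶ Spec (CommRingCat.of B) := Sigma.desc fun i => (V i).ι ≫ χ
  have he : Etale π := IsZariskiLocalAtSource.sigmaDesc fun i => inferInstance
  obtain ⟨φ, hφ⟩ : ∃ φ : CommRingCat.of B ⟶ Γ(T, ⊤), Spec.map φ = T.isoSpec.inv ≫ π :=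
    Spec.map_surjective _
  have het : φ.hom.Etale := (HasRingHomProperty.Spec_iff (P := @Etale)).1 (hφ ▸ inferInstance)
  letI : Algebra B Γ(T, ⊤) := φ.hom.toAlgebra
  haveI : Algebra.Etale B Γ(T, ⊤) := het
  haveI : Surjective π := hs
  haveI : Surjective (Spec.map φ) := hφ ▸ inferInstance
  haveI : Module.FaithfullyFlat B Γ(T, ⊤) :=
    .of_comap_surjective fun q => (Spec.map φ).surjective q
  obtain ⟨A', i1, i2, i3, q, hq, ⟨σ⟩⟩ := exists_etale_splitting A B Γ(T, ⊤) x
  refine ⟨A', i1, i2, i3, q, hq, (pullbackSpecIso A B A').hom ≫ Spec.map (CommRingCat.ofHom σ.toRingHom) ≫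
    T.isoSpec.inv ≫ Sigma.desc (fun i => (V i).ι), ?_⟩
  have e1 : Sigma.desc (fun i => (V i).ι) ≫ χ = π := Sigma.hom_ext _ _ fun i => by simp [π]
  have e2 : φ ≫ CommRingCat.ofHom σ.toRingHom = CommRingCat.ofHom (algebraMap B (B ⊗[A] A')) :=
    CommRingCat.hom_ext (RingHom.ext fun b => σ.commutes b)
  rw [Category.assoc, Category.assoc, Category.assoc, e1, ← hφ, ← Spec.map_comp, e2,
    ← pullbackSpecIso_inv_fst' (R := A) (S := B) (T := A'), Iso.hom_inv_id_assoc]

/-- Splitting of etale covers of schemes integral over an affine scheme. -/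
theorem exists_lift_of_isIntegralHom (A : Type u) [CommRing A] {Q : Scheme.{u}}
    (p : Q ⟶ Spec (CommRingCat.of A)) [IsIntegralHom p]
    {Z : Scheme.{u}} (χ : Z ⟶ Q) [Etale χ] [Surjective χ] (x : Spec (CommRingCat.of A)) :
    ∃ (A' : Type u) (_ : CommRing A') (_ : Algebra A A') (_ : Algebra.Etale A A')
      (x' : Spec (CommRingCat.of A')), (Spec.map (CommRingCat.ofHom (algebraMap A A'))).base x' = x ∧
      ∃ h : pullback p (Spec.map (CommRingCat.ofHom (algebraMap A A'))) ⟶ Z,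
        h ≫ χ = pullback.fst _ _ := by
  haveI : IsAffine Q := isAffine_of_isAffineHom p
  obtain ⟨φ, hφ⟩ : ∃ φ : CommRingCat.of A ⟶ Γ(Q, ⊤), Spec.map φ = Q.isoSpec.inv ≫ p :=
    Spec.map_surjective _
  letI : Algebra A Γ(Q, ⊤) := φ.hom.toAlgebra
  haveI : Algebra.IsIntegral A Γ(Q, ⊤) := ⟨IsIntegralHom.SpecMap_iff.1 (hφ ▸ inferInstance)⟩
  obtain ⟨A', i1, i2, i3, x', hx', h, hh⟩ := exists_lift_affine A Γ(Q, ⊤) (χ ≫ Q.isoSpec.hom) x
  refine ⟨A', i1, i2, i3, x', hx', pullback.map p (Spec.map (CommRingCat.ofHom (algebraMap A A')))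
    (Spec.map φ) _ Q.isoSpec.hom (𝟙 _) (𝟙 _) ((Category.comp_id _).trans (by rw [hφ, Iso.hom_inv_id_assoc]))
      ((Category.comp_id _).trans (Category.id_comp _).symm) ≫ h, ?_⟩
  apply (cancel_mono Q.isoSpec.hom).1
  rw [Category.assoc, Category.assoc, hh]
  exact pullback.lift_fst _ _ _

/-- Integral morphisms satisfy condition (B). -/
theorem propB_of_isIntegralHom {X Y : Scheme.{u}} (f : X ⟶ Y) [IsIntegralHom f] : BigSite.PropB f := by
  intro V v _ ι U g hg hcov
  let π : (∐ U) ⟶ pullback f v := Sigma.desc g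
  haveI : Etale π := IsZariskiLocalAtSource.sigmaDesc hg
  haveI : Surjective π := ⟨fun x => by
    obtain ⟨i, u, rfl⟩ := hcov x
    exact ⟨Sigma.ι U i u, by rw [← Scheme.Hom.comp_apply, Sigma.ι_desc]⟩⟩
  have key : ∀ y : V, ∃ (V' : Scheme.{u}) (v' : V' ⟶ V) (_ : Etale v') (_ : y ∈ Set.range v'.base),
      ∃ h : pullback f (v' ≫ v) ⟶ ∐ U,
        h ≫ π = pullback.map f (v' ≫ v) f v (𝟙 X) v' (𝟙 Y) (by simp) (by simp) := fun y => by
    obtain ⟨_, ⟨W, hW, rfl⟩, hyW, -⟩ := V.isBasis_affineOpens.exists_subset_of_mem_open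
      (Set.mem_univ y) isOpen_univ
    let j : Spec (CommRingCat.of Γ(V, W)) ⟶ V := hW.fromSpec
    obtain ⟨x, hx⟩ : y ∈ Set.range j.base := hW.range_fromSpec.symm ▸ hyW
    let q1 := pullback.fst (pullback.snd f v) j
    let q2 := pullback.snd (pullback.snd f v) j
    obtain ⟨A', _, _, _, x', hx', h, hh⟩ := exists_lift_of_isIntegralHom Γ(V, W) q2
      (pullback.fst q1 π) x
    let a := Spec.map (CommRingCat.ofHom (algebraMap Γ(V, W) A'))
    haveI : Etale a := (HasRingHomProperty.Spec_iff (P := @Etale)).2 (RingHom.etale_algebraMap.mpr inferInstance)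
    have w1 : pullback.fst f ((a ≫ j) ≫ v) ≫ f = (pullback.snd f ((a ≫ j) ≫ v) ≫ a ≫ j) ≫ v := by
      rw [pullback.condition]; simp only [Category.assoc]
    let u : pullback f ((a ≫ j) ≫ v) ⟶ pullback q2 a :=
      pullback.lift (pullback.lift (pullback.lift (pullback.fst _ _) (pullback.snd _ _ ≫ a ≫ j) w1)
        (pullback.snd _ _ ≫ a) ((pullback.lift_snd _ _ _).trans (Category.assoc _ _ _).symm))
        (pullback.snd _ _) (pullback.lift_snd _ _ _)
    refine ⟨Spec (CommRingCat.of A'), a ≫ j, inferInstance, ⟨x', ?_⟩, u ≫ h ≫ pullback.snd q1 π, ?_⟩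
    · rw [Scheme.Hom.comp_apply, hx', hx]
    · rw [Category.assoc u, Category.assoc h, ← pullback.condition, reassoc_of% hh]
      have e1 : u ≫ pullback.fst q2 a ≫ q1 = pullback.lift (pullback.fst _ _) (pullback.snd _ _ ≫ a ≫ j) w1 := by
        simp only [u, q1]
        rw [pullback.lift_fst_assoc, pullback.lift_fst]
      refine e1.trans ?_
      exact pullback.hom_ext (by rw [pullback.lift_fst, pullback.lift_fst, Category.comp_id]) (by rw [pullback.lift_snd, pullback.lift_snd])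
  choose V' v' he hy h hh using key
  refine ⟨V, V', v', he, fun y => ⟨y, hy y⟩, fun y =>
    ⟨ι, fun i => (h y) ⁻¹ᵁ (Sigma.ι U i).opensRange, ?_, ?_, fun i => ?_⟩⟩
  · intro i i' hii'
    rw [disjoint_iff, ← Scheme.Hom.preimage_inf, disjoint_iff.1 (disjoint_opensRange_sigmaι U i i' hii'),
      Scheme.Hom.preimage_bot]
  · rw [← Scheme.Hom.preimage_iSup]
    refine eq_top_iff.2 fun z _ => ?_
    obtain ⟨i, u, hu⟩ := (sigmaOpenCover U).exists_eq (h y z)
    exact Opens.mem_iSup.2 ⟨i, u, hu⟩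
  · let k := IsOpenImmersion.lift (Sigma.ι U i) ((h y ⁻¹ᵁ (Sigma.ι U i).opensRange).ι ≫ h y) (by
      rintro _ ⟨z, rfl⟩
      exact z.2)
    refine ⟨i, k, ?_⟩
    have hk : k ≫ Sigma.ι U i = _ := IsOpenImmersion.lift_fac _ _ _
    rw [← hh y, ← reassoc_of% hk, Sigma.ι_desc]

end Groth.L27.EtSite
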