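import Groth.Agent.L27.EtSite.EtalePiece
import Groth.Agent.L27.EtSite.PropB
import Groth.Agent.L27.ProEt.Glue
import Mathlib.AlgebraicGeometry.Morphisms.ClosedImmersion

/-! # Integral morphisms have property (A); with a closed embedding also property (C) -/

universe u

open CategoryTheory CategoryTheory.Limits AlgebraicGeometry TopologicalSpace TensorProduct

set_option backward.isDefEq.respectTransparency.types false
set_option linter.style.haveILetI false

namespace Groth.L27.EtSite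

theorem exists_piece_affine (A B : Type u) [CommRing A] [CommRing B] [Algebra A B] [Algebra.IsIntegral A B]
    {Z : Scheme.{u}} (χ : Z ⟶ Spec (CommRingCat.of B)) [Etale χ] (z : Z) :
    ∃ (A' : Type u) (_ : CommRing A') (_ : Algebra A A') (_ : Algebra.Etale A A') (W : Scheme.{u})
      (i : W ⟶ pullback (Spec.map (CommRingCat.ofHom (algebraMap A B)))
        (Spec.map (CommRingCat.ofHom (algebraMap A A')))) (_ : IsOpenImmersion i) (_ : IsClosedImmersion i)
      (h : W ⟶ Z), h ≫ χ = i ≫ pullback.fst _ _ ∧ z ∈ Set.range h.base := by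
  obtain ⟨_, ⟨Z₀, hZ₀, rfl⟩, hz, -⟩ := Z.isBasis_affineOpens.exists_subset_of_mem_open
    (Set.mem_univ z) isOpen_univ
  let j : Spec Γ(Z, Z₀) ⟶ Z := hZ₀.fromSpec
  obtain ⟨z', hz'⟩ : z ∈ Set.range j.base := hZ₀.range_fromSpec.symm ▸ hz
  obtain ⟨φ, hφ⟩ : ∃ φ : CommRingCat.of B ⟶ Γ(Z, Z₀), Spec.map φ = j ≫ χ := Spec.map_surjective _
  letI : Algebra B Γ(Z, Z₀) := φ.hom.toAlgebra
  have het : φ.hom.Etale := (HasRingHomProperty.Spec_iff (P := @Etale)).1 (hφ ▸ inferInstance)
  haveI : Algebra.Etale B Γ(Z, Z₀) := het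
  obtain ⟨A', i1, i2, i3, e, h, P, he, hP⟩ := exists_etale_piece A B Γ(Z, Z₀) z'
  let D := B ⊗[A] A'
  let I := Ideal.span ({1 - e} : Set D)
  let m : CommRingCat.of D ⟶ CommRingCat.of (D ⧸ I) := CommRingCat.ofHom (Ideal.Quotient.mk I)
  haveI : IsClosedImmersion (Spec.map m) := IsClosedImmersion.spec_of_surjective m Ideal.Quotient.mk_surjective
  haveI : IsLocalization.Away e (D ⧸ I) :=
    IsLocalization.away_of_isIdempotentElem he (Ideal.mk_ker) Ideal.Quotient.mk_surjective
  haveI : IsOpenImmersion (Spec.map m) := IsOpenImmersion.of_isLocalization (S := D ⧸ I) e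
  refine ⟨A', i1, i2, i3, Spec (CommRingCat.of (D ⧸ I)), Spec.map m ≫ (pullbackSpecIso A B A').inv,
    inferInstance, inferInstance, Spec.map (CommRingCat.ofHom h.toRingHom) ≫ j, ?_, ?_⟩
  · rw [Category.assoc, ← hφ, Category.assoc, pullbackSpecIso_inv_fst' (R := A) (S := B) (T := A'),
      ← Spec.map_comp, ← Spec.map_comp]
    exact congrArg Spec.map (CommRingCat.hom_ext (RingHom.ext fun b => h.commutes b))
  · exact ⟨P, by rw [Scheme.Hom.comp_apply, ← hz']; exact congrArg j.base hP⟩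

theorem exists_piece_of_isIntegralHom (A : Type u) [CommRing A] {Q : Scheme.{u}}
    (p : Q ⟶ Spec (CommRingCat.of A)) [IsIntegralHom p]
    {Z : Scheme.{u}} (χ : Z ⟶ Q) [Etale χ] (z : Z) :
    ∃ (A' : Type u) (_ : CommRing A') (_ : Algebra A A') (_ : Algebra.Etale A A') (W : Scheme.{u})
      (i : W ⟶ pullback p (Spec.map (CommRingCat.ofHom (algebraMap A A')))) (_ : IsOpenImmersion i)
      (_ : IsClosedImmersion i) (h : W ⟶ Z), h ≫ χ = i ≫ pullback.fst _ _ ∧ z ∈ Set.range h.base := by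
  haveI : IsAffine Q := isAffine_of_isAffineHom p
  obtain ⟨φ, hφ⟩ : ∃ φ : CommRingCat.of A ⟶ Γ(Q, ⊤), Spec.map φ = Q.isoSpec.inv ≫ p :=
    Spec.map_surjective _
  letI : Algebra A Γ(Q, ⊤) := φ.hom.toAlgebra
  haveI : Algebra.IsIntegral A Γ(Q, ⊤) := ⟨IsIntegralHom.SpecMap_iff.1 (hφ ▸ inferInstance)⟩
  obtain ⟨A', i1, i2, i3, W, i, hio, hic, h, hh, hz⟩ := exists_piece_affine A Γ(Q, ⊤) (χ ≫ Q.isoSpec.hom) z
  let ψ := pullback.map (Spec.map φ) (Spec.map (CommRingCat.ofHom (algebraMap A A'))) p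
    (Spec.map (CommRingCat.ofHom (algebraMap A A'))) Q.isoSpec.inv (𝟙 _) (𝟙 _)
      ((Category.comp_id _).trans hφ) ((Category.comp_id _).trans (Category.id_comp _).symm)
  refine ⟨A', i1, i2, i3, W, i ≫ ψ, inferInstance, inferInstance, h, ?_, hz⟩
  apply (cancel_mono Q.isoSpec.hom).1
  rw [Category.assoc, hh, Category.assoc, Category.assoc, pullback.lift_fst_assoc, Category.assoc,
    Iso.inv_hom_id, Category.comp_id]
  rfl

/-- Integral morphisms satisfy condition (A). -/
theorem propA_of_isIntegralHom {X Y : Scheme.{u}} (f : X ⟶ Y) [IsIntegralHom f] : BigSite.PropA f := by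
  intro U g _ u
  obtain ⟨_, ⟨W, hW, rfl⟩, hy, -⟩ := Y.isBasis_affineOpens.exists_subset_of_mem_open
    (Set.mem_univ (f (g u))) isOpen_univ
  let j : Spec (CommRingCat.of Γ(Y, W)) ⟶ Y := hW.fromSpec
  obtain ⟨y, hy'⟩ : f (g u) ∈ Set.range j.base := hW.range_fromSpec.symm ▸ hy
  obtain ⟨q, hq, -⟩ := Scheme.Pullback.exists_preimage_pullback (f := f) (g := j) (g u) y hy'.symm
  obtain ⟨z, hz, -⟩ := Scheme.Pullback.exists_preimage_pullback (f := g) (g := pullback.fst f j) u q hq.symm
  obtain ⟨A', _, _, _, W', i, _, _, h, hh, hz'⟩ :=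
    exists_piece_of_isIntegralHom Γ(Y, W) (pullback.snd f j) (pullback.snd g (pullback.fst f j)) z
  let a := Spec.map (CommRingCat.ofHom (algebraMap Γ(Y, W) A'))
  haveI : Etale a := (HasRingHomProperty.Spec_iff (P := @Etale)).2 (RingHom.etale_algebraMap.mpr inferInstance)
  let i' : W' ⟶ pullback f (a ≫ j) := i ≫ (pullbackLeftPullbackSndIso f j a).hom
  refine ⟨Spec (CommRingCat.of A'), a ≫ j, inferInstance, i'.opensRange, ?_,
    i'.isoOpensRange.inv ≫ h ≫ pullback.fst g (pullback.fst f j), ?_, ?_⟩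
  · haveI : IsClosedImmersion i' := inferInstance
    exact i'.isClosedEmbedding.isClosed_range
  · rw [Category.assoc, Category.assoc, pullback.condition, reassoc_of% hh]
    rw [← Scheme.Hom.isoOpensRange_inv_comp i', Category.assoc]
    refine congrArg (i'.isoOpensRange.inv ≫ ·) ?_
    rw [show i' = i ≫ (pullbackLeftPullbackSndIso f j a).hom from rfl, Category.assoc,
      pullbackLeftPullbackSndIso_hom_fst]
  · obtain ⟨w, hw⟩ := hz'
    refine ⟨i'.isoOpensRange.hom w, ?_⟩
    rw [← Scheme.Hom.comp_apply, Iso.hom_inv_id_assoc, Scheme.Hom.comp_apply, hw, hz]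

/-- Integral morphisms which are closed embeddings satisfy condition (C). -/
theorem propC_of_isIntegralHom {X Y : Scheme.{u}} (f : X ⟶ Y) [IsIntegralHom f]
    (hf : Topology.IsClosedEmbedding f.base) : BigSite.PropC f := by
  intro U g _
  let O : Set X := Set.range g.base
  have hO : IsOpen O := g.isOpenMap.isOpen_range
  let Y₀ : Y.Opens := ⟨(f.base '' Oᶜ)ᶜ, (hf.isClosedMap _ hO.isClosed_compl).isOpen_compl⟩
  have key : ∀ u : U, ∃ (V : Scheme.{u}) (v : V ⟶ Y) (_ : Etale v) (h : pullback f v ⟶ U),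
      h ≫ g = pullback.fst f v ∧ u ∈ Set.range h.base := fun u => by
    obtain ⟨V, v, _, W, hWc, h, hh, w₁, hw₁⟩ := propA_of_isIntegralHom f U g u
    let V₂ : V.Opens := v ⁻¹ᵁ Y₀
    let v₂ : (V₂ : Scheme.{u}) ⟶ Y := V₂.ι ≫ v
    let G := pullback.snd g (pullback.fst f v₂)
    have hsurj : ∀ x : ↥(pullback f v₂), x ∈ Set.range G.base := fun x => by
      have hx : pullback.fst f v₂ x ∈ O := by
        by_contra hx
        have h1 : f (pullback.fst f v₂ x) = v₂ (pullback.snd f v₂ x) := by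
          rw [← Scheme.Hom.comp_apply, pullback.condition, Scheme.Hom.comp_apply]
        have h2 : v (V₂.ι (pullback.snd f v₂ x)) ∈ Y₀ := (pullback.snd f v₂ x).2
        exact h2 ⟨_, hx, h1.trans (Scheme.Hom.comp_apply _ _ _)⟩
      obtain ⟨u', hu'⟩ := hx
      obtain ⟨r, -, hr⟩ := Scheme.Pullback.exists_preimage_pullback (f := g) (g := pullback.fst f v₂) u' x hu'
      exact ⟨r, hr⟩
    haveI : Etale v₂ := inferInstance
    obtain ⟨κ, V', v', hv'et, hv'surj, hpieces⟩ := propB_of_isIntegralHom f (V₂ : Scheme.{u}) v₂ PUnit.{u + 1}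
      (fun _ => pullback g (pullback.fst f v₂)) (fun _ => G) (fun _ => inferInstance)
      (fun x => ⟨PUnit.unit, hsurj x⟩)
    -- the point of `V` under the chosen point of the piece
    let w := W.ι w₁
    have hwu : pullback.fst f v w = g u := by
      rw [← hw₁, ← Scheme.Hom.comp_apply, ← Scheme.Hom.comp_apply, hh]
    have hq : pullback.snd f v w ∈ V₂ := by
      show v (pullback.snd f v w) ∉ f.base '' Oᶜ
      rintro ⟨x, hx, hxe⟩
      refine hx ⟨u, hwu.symm.trans (hf.injective ?_)⟩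
      rw [hxe, ← Scheme.Hom.comp_apply, pullback.condition, Scheme.Hom.comp_apply]
    obtain ⟨j, y', hy'⟩ := hv'surj ⟨_, hq⟩
    haveI := hv'et j
    obtain ⟨μ, P, hd, hP, hfac⟩ := hpieces j
    choose i₀ k hk using hfac
    let v₃ := v' j ≫ v₂
    obtain ⟨kj, hkj⟩ := Groth.L27.ProEt.exists_glue P (fun a b hab => by
        exact Set.disjoint_left.2 fun x ha hb => (hd a b hab).le_bot (⟨ha, hb⟩ : x ∈ P a ⊓ P b))
      (Set.eq_univ_of_forall fun x => Set.mem_iUnion.2 (Opens.mem_iSup.1 (hP.ge (Opens.mem_top x))))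
      fun a => k a ≫ pullback.fst g (pullback.fst f v₂)
    let μV : pullback f v₃ ⟶ pullback f v := pullback.map f v₃ f v (𝟙 X) (v' j ≫ V₂.ι) (𝟙 Y)
      (by simp) (by simp [v₃, v₂])
    let W' : (pullback f v₃).Opens := μV ⁻¹ᵁ W
    let W'' : (pullback f v₃).Opens := ⟨(W' : Set ↥(pullback f v₃))ᶜ, (hWc.preimage μV.continuous).isOpen_compl⟩
    obtain ⟨H, hH⟩ := Groth.L27.ProEt.exists_glue (fun b : Bool => bif b then W' else W'')
      (by
        intro a b hab
        cases a <;> cases b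
        · exact absurd rfl hab
        · exact disjoint_compl_left
        · exact disjoint_compl_right
        · exact absurd rfl hab)
      (Set.eq_univ_of_forall fun x => Set.mem_iUnion.2 (by
        by_cases hx : x ∈ W'
        · exact ⟨true, hx⟩
        · exact ⟨false, hx⟩))
      (fun b => match b with
        | true => (μV ∣_ W) ≫ h
        | false => W''.ι ≫ kj)
    have hkj' : kj ≫ g = pullback.fst f v₃ := by
      refine Groth.L27.ProEt.hom_ext_of_iUnion P
        (Set.eq_univ_of_forall fun x => Set.mem_iUnion.2 (Opens.mem_iSup.1 (hP.ge (Opens.mem_top x)))) fun a => ?_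
      refine (Category.assoc _ _ _).symm.trans ((congrArg (· ≫ g) (hkj a)).trans ?_)
      refine (Category.assoc _ _ _).trans ((congrArg (k a ≫ ·) pullback.condition).trans ?_)
      refine (Category.assoc _ _ _).symm.trans ((congrArg (· ≫ pullback.fst f v₂) (hk a)).trans ?_)
      exact (Category.assoc _ _ _).trans (congrArg ((P a).ι ≫ ·)
        ((pullback.lift_fst _ _ _).trans (Category.comp_id _)))
    refine ⟨V' j, v₃, inferInstance, H, ?_, ?_⟩
    · refine Groth.L27.ProEt.hom_ext_of_iUnion (fun b : Bool => bif b then W' else W'')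
        (Set.eq_univ_of_forall fun x => Set.mem_iUnion.2 (by
          by_cases hx : x ∈ W'
          · exact ⟨true, hx⟩
          · exact ⟨false, hx⟩)) fun b => ?_
      rw [← Category.assoc, hH b]
      match b with
      | true =>
        show ((μV ∣_ W) ≫ h) ≫ g = W'.ι ≫ _
        rw [Category.assoc, hh, ← Category.assoc, morphismRestrict_ι, Category.assoc]
        exact congrArg (W'.ι ≫ ·) ((pullback.lift_fst _ _ _).trans (Category.comp_id _))
      | false =>
        show (W''.ι ≫ kj) ≫ g = W''.ι ≫ _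
        rw [Category.assoc, hkj']
    · have sqj : IsPullback μV (pullback.snd f v₃) (pullback.snd f v) (v' j ≫ V₂.ι) :=
        IsPullback.of_right (h₁₂ := pullback.fst f v) (v₁₃ := f) (h₂₂ := v) (by
          have e1 : μV ≫ pullback.fst f v = pullback.fst f v₃ := (pullback.lift_fst _ _ _).trans (Category.comp_id _)
          have e2 : (v' j ≫ V₂.ι) ≫ v = v₃ := Category.assoc _ _ _
          rw [e1, e2]
          exact IsPullback.of_hasPullback f v₃) (pullback.lift_snd _ _ _)
          (IsPullback.of_hasPullback f v)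
      obtain ⟨r, hr, -⟩ := Scheme.Pullback.exists_preimage_pullback (f := pullback.snd f v) (g := v' j ≫ V₂.ι) w y' (by
        rw [Scheme.Hom.comp_apply, hy']; rfl)
      let r' := sqj.isoPullback.inv r
      have hr' : μV r' = w := by
        rw [← hr, ← Scheme.Hom.comp_apply, IsPullback.isoPullback_inv_fst]
      have hmem : r' ∈ W' := show μV r' ∈ W from hr'.symm ▸ w₁.2
      refine ⟨W'.ι ⟨r', hmem⟩, ?_⟩
      rw [← hw₁, ← Scheme.Hom.comp_apply]
      refine (congrArg (fun m : (W' : Scheme.{u}) ⟶ U => m ⟨r', hmem⟩) (hH true)).trans ?_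
      rw [Scheme.Hom.comp_apply]
      refine congrArg h.base (W.ι.injective ?_)
      rw [← Scheme.Hom.comp_apply, morphismRestrict_ι, Scheme.Hom.comp_apply]
      exact hr'
  choose V v hv h hh hu using key
  let vV : (∐ V) ⟶ Y := Sigma.desc v
  haveI : Etale vV := IsZariskiLocalAtSource.sigmaDesc hv
  let Pu : U → (pullback f vV).Opens := fun u => pullback.snd f vV ⁻¹ᵁ (Sigma.ι V u).opensRange
  let l : ∀ u, (Pu u : Scheme.{u}) ⟶ pullback f (v u) := fun u =>
    pullback.lift ((Pu u).ι ≫ pullback.fst f vV)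
      (IsOpenImmersion.lift (Sigma.ι V u) ((Pu u).ι ≫ pullback.snd f vV) (by rintro _ ⟨z, rfl⟩; exact z.2))
      (by
        rw [Category.assoc, pullback.condition, ← Category.assoc]
        conv_lhs => rw [← IsOpenImmersion.lift_fac (Sigma.ι V u) ((Pu u).ι ≫ pullback.snd f vV) (by rintro _ ⟨z, rfl⟩; exact z.2)]
        rw [Category.assoc, Sigma.ι_desc])
  have hcov : (⋃ u, (Pu u : Set ↥(pullback f vV))) = Set.univ := Set.eq_univ_of_forall fun x => by
    obtain ⟨u, z, hz⟩ := (sigmaOpenCover V).exists_eq (pullback.snd f vV x)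
    exact Set.mem_iUnion.2 ⟨u, z, hz⟩
  obtain ⟨H, hH⟩ := Groth.L27.ProEt.exists_glue Pu (fun a b hab => Set.disjoint_left.2 fun x ha hb =>
      (disjoint_opensRange_sigmaι V a b hab).le_bot (⟨ha, hb⟩ : pullback.snd f vV x ∈ (Sigma.ι V a).opensRange ⊓ (Sigma.ι V b).opensRange))
    hcov fun u => l u ≫ h u
  refine ⟨∐ V, vV, inferInstance, H, Groth.L27.ProEt.hom_ext_of_iUnion Pu hcov fun u => ?_, ⟨fun u => ?_⟩⟩
  · rw [← Category.assoc, hH u, Category.assoc, hh u]
    exact pullback.lift_fst _ _ _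
  · obtain ⟨r, hr⟩ := hu u
    let m : pullback f (v u) ⟶ pullback f vV :=
      pullback.map f (v u) f vV (𝟙 X) (Sigma.ι V u) (𝟙 Y) (by simp) (by simp [vV])
    have hm : m ≫ pullback.snd f vV = pullback.snd f (v u) ≫ Sigma.ι V u := pullback.lift_snd _ _ _
    let m' : pullback f (v u) ⟶ (Pu u : Scheme.{u}) := IsOpenImmersion.lift (Pu u).ι m (by
      rw [Scheme.Opens.range_ι]
      rintro _ ⟨z, rfl⟩
      exact ⟨pullback.snd f (v u) z, by rw [← Scheme.Hom.comp_apply, ← hm, Scheme.Hom.comp_apply]⟩)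
    have hid : m' ≫ l u = 𝟙 _ := by
      apply pullback.hom_ext
      · rw [Category.assoc, pullback.lift_fst, IsOpenImmersion.lift_fac_assoc, Category.id_comp]
        exact (pullback.lift_fst _ _ _).trans (Category.comp_id _)
      · apply (cancel_mono (Sigma.ι V u)).1
        rw [Category.assoc, Category.assoc, pullback.lift_snd_assoc, IsOpenImmersion.lift_fac,
          IsOpenImmersion.lift_fac_assoc, hm, Category.id_comp]
    refine ⟨(m' ≫ (Pu u).ι) r, ?_⟩
    rw [← Scheme.Hom.comp_apply, Category.assoc, hH u, ← Category.assoc, hid, Category.id_comp, hr]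

end Groth.L27.EtSite
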