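import Groth.Agent.L27.EtSite.Reflect
import Groth.Agent.L27.EtSite.Pull
import Groth.Prelude.Def_PBC

/-! # Stalks of direct images and the counit -/

universe u v w

open CategoryTheory CategoryTheory.Limits AlgebraicGeometry Opposite TopologicalSpace

set_option backward.isDefEq.respectTransparency.types false
set_option linter.style.haveILetI false

namespace Groth.L27.EtSite

section Comap

open GrothendieckTopology

variable {C D : Type*} [Category* C] [Category* D]
  {K : GrothendieckTopology D}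
  (Φ : Point.{w} K) (F : C ⥤ D) [RepresentablyFlat F] {J : GrothendieckTopology C}
  (hF : CoverPreserving J K F)
  [InitiallySmall (F ⋙ Φ.fiber).Elements]
  (A : Type*) [Category.{v} A] [HasProducts.{w} A] [HasColimitsOfSize.{w, w} A]
  [Functor.IsContinuous F J K] [(F.sheafPushforwardContinuous A J K).IsRightAdjoint]

/-- The stalk of a direct image maps to the stalk. -/
noncomputable def comapPushDesc (P : Dᵒᵖ ⥤ A) :
    (Φ.comap F hF).presheafFiber.obj (F.op ⋙ P) ⟶ Φ.presheafFiber.obj P :=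
  (Φ.comap F hF).presheafFiberDesc (fun V x => Φ.toPresheafFiber (F.obj V) x P)
    fun _ _ g x => Φ.toPresheafFiber_w (F.map g) x P

theorem sheafFiberComapIso_counit (G : Sheaf K A) :
    (Φ.sheafFiberComapIso F hF A).hom.app ((F.sheafPushforwardContinuous A J K).obj G) ≫
      Φ.sheafFiber.map ((F.sheafAdjunctionContinuous A J K).counit.app G) =
      comapPushDesc Φ F hF A G.obj := by
  apply (Φ.comap F hF).presheafFiber_hom_ext
  intro V x
  let adj := F.sheafAdjunctionContinuous A J K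
  let d := Φ.sheafFiber.obj G
  let η := Φ.skyscraperSheafAdjunction.homEquiv G d (𝟙 d)
  let m : (F.sheafPushforwardContinuous A J K).obj G ⟶ (Φ.comap F hF).skyscraperSheafFunctor.obj d :=
    (F.sheafPushforwardContinuous A J K).map η
  have h1 := conjugateEquiv_counit_symm (adj.comp Φ.skyscraperSheafAdjunction)
    (Φ.comap F hF).skyscraperSheafAdjunction
    (Φ.skyscraperSheafFunctorCompSheafPushforwardContinuous F hF A).hom d
  have h2 : (Φ.sheafFiberComapIso F hF A).hom.app ((F.sheafPushforwardContinuous A J K).obj G) ≫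
      Φ.sheafFiber.map (adj.counit.app G) =
        ((Φ.comap F hF).skyscraperSheafAdjunction.homEquiv _ d).symm m := by
    rw [Adjunction.homEquiv_counit]
    have h4 : ((Φ.comap F hF).sheafFiber (A := A)).map
        ((Φ.skyscraperSheafFunctorCompSheafPushforwardContinuous F hF A).hom.app d) = 𝟙 _ :=
      CategoryTheory.Functor.map_id _ _
    have h3 := (congrArg (· ≫ (Φ.comap F hF).skyscraperSheafAdjunction.counit.app d) h4).trans
      (Category.id_comp _) |>.symm.trans h1
    refine Eq.trans ?_ (congrArg ((Φ.comap F hF).sheafFiber.map m ≫ ·) h3).symm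
    refine Eq.trans ?_ (Category.assoc _ _ _)
    refine Eq.trans ?_ (congrArg (· ≫ _) ((Φ.sheafFiberComapIso F hF A).hom.naturality m)).symm
    refine Eq.trans ?_ (Category.assoc _ _ _).symm
    refine congrArg (_ ≫ ·) ?_
    rw [Adjunction.comp_counit_app]
    dsimp only [Functor.comp_map]
    have h5 : (F.sheafPullback A J K).map m ≫ adj.counit.app (Φ.skyscraperSheafFunctor.obj d) =
        adj.counit.app G ≫ η := adj.counit_naturality η
    have h6 : Φ.sheafFiber.map η ≫ Φ.skyscraperSheafAdjunction.counit.app d = 𝟙 d :=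
      (Φ.skyscraperSheafAdjunction.homEquiv_counit (X := G) (Y := d) (g := η)).symm.trans
        ((Φ.skyscraperSheafAdjunction.homEquiv G d).symm_apply_apply _)
    refine Eq.symm ?_
    refine (Category.assoc _ _ _).symm.trans ?_
    refine (congrArg (· ≫ _) ((Φ.sheafFiber.map_comp _ _).symm.trans
      ((congrArg Φ.sheafFiber.map h5).trans (Φ.sheafFiber.map_comp _ _)))).trans ?_
    exact (Category.assoc _ _ _).trans ((congrArg (_ ≫ ·) h6).trans (Category.comp_id _))
  refine (congrArg ((Φ.comap F hF).toPresheafFiber V x _ ≫ ·) h2).trans ?_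
  refine ((congrArg ((Φ.comap F hF).toPresheafFiber V x _ ≫ ·)
    ((Φ.comap F hF).skyscraperSheafAdjunction_homEquiv_symm_apply m)).trans
      ((Φ.comap F hF).toPresheafFiber_skyscraperPresheafHomEquiv_symm m.hom V x)).trans ?_
  refine Eq.trans ?_ ((Φ.comap F hF).toPresheafFiber_presheafFiberDesc _ _ _ _).symm
  show η.hom.app (op (F.obj V)) ≫ Pi.π _ x = _
  refine (congrArg (fun a => a.app (op (F.obj V)) ≫ Pi.π _ x)
    (Φ.skyscraperSheafAdjunction_homEquiv_apply_hom (F := G) (𝟙 d))).trans ?_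
  exact (Φ.skyscraperPresheafHomEquiv_app_π (𝟙 d) (F.obj V) x).trans (Category.comp_id _)

omit [HasProducts.{w} A] [Functor.IsContinuous F J K]
  [(F.sheafPushforwardContinuous A J K).IsRightAdjoint] in
theorem bijective_comapPushDesc {FA : A → A → Type*} {CA : A → Type*}
    [∀ (P Q : A), FunLike (FA P Q) (CA P) (CA Q)] [ConcreteCategory A FA]
    [PreservesFilteredColimitsOfSize.{w, w} (forget A)] [LocallySmall.{w} C] [LocallySmall.{w} D]
    (hsurj : ∀ (U : D) (x : Φ.fiber.obj U), ∃ (V : C) (y : Φ.fiber.obj (F.obj V)) (g : F.obj V ⟶ U),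
      Φ.fiber.map g y = x)
    (heq : ∀ (U : D) (V : C) (y : Φ.fiber.obj (F.obj V)) (g g' : F.obj V ⟶ U),
      Φ.fiber.map g y = Φ.fiber.map g' y → ∃ (V' : C) (a : V' ⟶ V) (y' : Φ.fiber.obj (F.obj V')),
        Φ.fiber.map (F.map a) y' = y ∧ F.map a ≫ g = F.map a ≫ g')
    (P : Dᵒᵖ ⥤ A) : Function.Bijective (comapPushDesc Φ F hF A P) := by
  have key : ∀ (V : C) (x : Φ.fiber.obj (F.obj V)) (s : ToType (P.obj (op (F.obj V)))),
      comapPushDesc Φ F hF A P ((Φ.comap F hF).toPresheafFiber V x (F.op ⋙ P) s) =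
        Φ.toPresheafFiber (F.obj V) x P s := fun V x s => by
    have e : (Φ.comap F hF).toPresheafFiber V x (F.op ⋙ P) ≫ comapPushDesc Φ F hF A P =
        Φ.toPresheafFiber (F.obj V) x P :=
      (Φ.comap F hF).toPresheafFiber_presheafFiberDesc (P := F.op ⋙ P)
        (fun V x => Φ.toPresheafFiber (F.obj V) x P) _ V x
    exact (ConcreteCategory.comp_apply _ _ _).symm.trans (ConcreteCategory.congr_hom e s)
  refine ⟨fun p₁ p₂ h => ?_, fun p => ?_⟩
  · obtain ⟨V, x, s₁, s₂, rfl, rfl⟩ := (Φ.comap F hF).toPresheafFiber_jointly_surjective₂ p₁ p₂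
    rw [key, key] at h
    obtain ⟨U, g, z, hz, hs⟩ := (Φ.toPresheafFiber_eq_iff' _ _ _ _).1 h
    obtain ⟨V₀, y₀, g₀, hy₀⟩ := hsurj U z
    obtain ⟨⟨V₁, y₁⟩, ⟨p, hp⟩, ⟨q, hq⟩, -⟩ :=
      IsCofilteredOrEmpty.cone_objs (C := (Φ.comap F hF).fiber.Elements) ⟨V, x⟩ ⟨V₀, y₀⟩
    obtain ⟨V₂, a, y₂, hy₂, ha⟩ := heq _ V₁ y₁ (F.map p) (F.map q ≫ g₀ ≫ g) (by
      refine hp.trans ?_
      simp only [CategoryTheory.Functor.map_comp, ConcreteCategory.comp_apply]
      exact (hz.symm.trans (congrArg (Φ.fiber.map g) hy₀.symm)).trans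
        (congrArg (fun t => Φ.fiber.map g (Φ.fiber.map g₀ t)) hq.symm))
    refine ((Φ.comap F hF).toPresheafFiber_eq_iff' V x s₁ s₂).2 ⟨V₂, a ≫ p, y₂, ?_, ?_⟩
    · show Φ.fiber.map (F.map (a ≫ p)) y₂ = x
      rw [F.map_comp, CategoryTheory.Functor.map_comp, ConcreteCategory.comp_apply, hy₂]
      exact hp
    · show P.map (F.map (a ≫ p)).op s₁ = P.map (F.map (a ≫ p)).op s₂
      rw [F.map_comp, ha]
      simp only [op_comp, Functor.map_comp, ConcreteCategory.comp_apply, hs]
  · obtain ⟨U, x, s, rfl⟩ := Φ.toPresheafFiber_jointly_surjective p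
    obtain ⟨V, y, g, hg⟩ := hsurj U x
    refine ⟨(Φ.comap F hF).toPresheafFiber V y (F.op ⋙ P) (P.map g.op s), ?_⟩
    rw [key, ← hg]
    exact Φ.toPresheafFiber_w_apply g y P s

end Comap

variable {X Y : Scheme.{u}} (f : X ⟶ Y) {Ω : Type u} [Field Ω] [IsSepClosed Ω]
  (ξ : Spec (CommRingCat.of Ω) ⟶ X)

/-- An open neighbourhood of a geometric point in a base change comes from downstairs. -/
theorem exists_shrink [UniversallyClosed f] [UniversallyInjective f] (V : Y.Etale)
    (E : ((EtCoh.bc f).obj V).left.Opens) (y : (Scheme.pointSmallEtale ξ).fiber.obj ((EtCoh.bc f).obj V))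
    (hy : y.left.base (default : Spec (CommRingCat.of Ω)) ∈ E) :
    ∃ (V' : Y.Etale) (a : V' ⟶ V) (y' : (Scheme.pointSmallEtale ξ).fiber.obj ((EtCoh.bc f).obj V')),
      (Scheme.pointSmallEtale ξ).fiber.map ((EtCoh.bc f).map a) y' = y ∧
        Set.range ((EtCoh.bc f).map a).left ⊆ E := by
  let p : ((EtCoh.bc f).obj V).left ⟶ V.left := pullback.fst V.hom f
  have hpc : UniversallyClosed p := inferInstanceAs (UniversallyClosed (pullback.fst V.hom f))
  have hpi' : UniversallyInjective p :=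
    MorphismProperty.pullback_fst (P := @UniversallyInjective) V.hom f inferInstance
  have hpi : Function.Injective p := p.injective
  let O : V.left.Opens := ⟨(p '' (E : Set _)ᶜ)ᶜ, (p.isClosedMap _ E.2.isClosed_compl).isOpen_compl⟩
  let V' : Y.Etale := Scheme.Etale.mk (O.ι ≫ V.hom)
  let a : V' ⟶ V := MorphismProperty.Over.homMk O.ι rfl
  haveI : IsOpenImmersion ((EtCoh.bc f).map a).left :=
    MorphismProperty.of_isPullback (P := @IsOpenImmersion) (EtCoh.isPullback_bc_map f a).flip
      (show IsOpenImmersion a.left from inferInstanceAs (IsOpenImmersion O.ι))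
  have hO : p (y.left.base (default : Spec (CommRingCat.of Ω))) ∈ O := by
    rintro ⟨e, he, hee⟩
    exact he (hpi hee ▸ hy)
  obtain ⟨x', hx'⟩ := exists_point_bc f a (y.left.base (default : Spec (CommRingCat.of Ω))) ⟨_, hO⟩ rfl
  have hr : Set.range y.left ⊆ Set.range ((EtCoh.bc f).map a).left := by
    rintro _ ⟨t, rfl⟩
    exact ⟨x', hx'.trans (congrArg y.left.base (Subsingleton.elim (α := Spec (CommRingCat.of Ω)) _ _))⟩
  let q : Spec (CommRingCat.of Ω) ⟶ ((EtCoh.bc f).obj V').left :=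
    IsOpenImmersion.lift ((EtCoh.bc f).map a).left y.left hr
  have hq : q ≫ ((EtCoh.bc f).map a).left = y.left := IsOpenImmersion.lift_fac _ _ _
  refine ⟨V', a, Over.homMk q ?_, ?_, ?_⟩
  · exact (congrArg (_ ≫ ·) (MorphismProperty.Over.w ((EtCoh.bc f).map a)).symm).trans
      ((Category.assoc _ _ _).symm.trans
        ((congrArg (· ≫ ((EtCoh.bc f).obj V).hom) hq).trans (Over.w y)))
  · exact Over.OverMorphism.ext hq
  · rintro _ ⟨z, rfl⟩
    by_contra hz
    have h1 : p (((EtCoh.bc f).map a).left z) = O.ι (pullback.fst V'.hom f z) :=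
      (Scheme.Hom.comp_apply _ _ _).symm.trans ((congrArg (fun m : ((EtCoh.bc f).obj V').left ⟶ V.left => m z)
        (EtCoh.isPullback_bc_map f a).w).trans (Scheme.Hom.comp_apply _ _ _))
    exact (pullback.fst V'.hom f z).2 ⟨_, hz, h1⟩

theorem exists_nbhd_into [UniversallyClosed f] [UniversallyInjective f] (hA : BigSite.PropA f)
    (U : X.Etale) (x : (Scheme.pointSmallEtale ξ).fiber.obj U) :
    ∃ (V : Y.Etale) (y : (Scheme.pointSmallEtale ξ).fiber.obj ((EtCoh.bc f).obj V))
      (g : (EtCoh.bc f).obj V ⟶ U), (Scheme.pointSmallEtale ξ).fiber.map g y = x := by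
  obtain ⟨V, Q, c, hc, -, -, L, w, hw⟩ :=
    exists_piece_of_propA f hA U (x.left.base (default : Spec (CommRingCat.of Ω)))
  let UL : Scheme.Etale U.left := @Scheme.Etale.mk _ _ L.left (etale_left L)
  obtain ⟨z, hz⟩ := exists_fiber x.left UL w hw
  let y₁ : (Scheme.pointSmallEtale ξ).fiber.obj (Q true) := Over.homMk z.left
    ((congrArg (z.left ≫ ·) (MorphismProperty.Over.w L).symm).trans
      ((Category.assoc _ _ _).symm.trans ((congrArg (· ≫ U.hom) (Over.w z)).trans (Over.w x))))
  have hy₁ : (Scheme.pointSmallEtale ξ).fiber.map L y₁ = x := Over.OverMorphism.ext (Over.w z)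
  haveI := hc true
  obtain ⟨V', a, y', hy', hE⟩ := exists_shrink f ξ V (c true).left.opensRange
    ((Scheme.pointSmallEtale ξ).fiber.map (c true) y₁) ⟨_, rfl⟩
  let m : ((EtCoh.bc f).obj V').left ⟶ (Q true).left :=
    IsOpenImmersion.lift (c true).left ((EtCoh.bc f).map a).left hE
  let g : (EtCoh.bc f).obj V' ⟶ Q true := MorphismProperty.Over.homMk m
    ((congrArg (_ ≫ ·) (MorphismProperty.Over.w (c true)).symm).trans
      ((Category.assoc _ _ _).symm.trans
        ((congrArg (· ≫ _) (IsOpenImmersion.lift_fac _ _ _)).trans (MorphismProperty.Over.w _))))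
  refine ⟨V', y', g ≫ L, ?_⟩
  rw [CategoryTheory.Functor.map_comp, ConcreteCategory.comp_apply, ← hy₁]
  refine congrArg _ (Over.OverMorphism.ext ((cancel_mono (c true).left).1 ?_))
  exact (Category.assoc _ _ _).trans ((congrArg (y'.left ≫ ·) (IsOpenImmersion.lift_fac _ _ _)).trans
    (congrArg (fun q => q.left) hy'))

theorem exists_agree [UniversallyClosed f] [UniversallyInjective f]
    (U : X.Etale) (V : Y.Etale) (y : (Scheme.pointSmallEtale ξ).fiber.obj ((EtCoh.bc f).obj V))
    (g g' : (EtCoh.bc f).obj V ⟶ U)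
    (h : (Scheme.pointSmallEtale ξ).fiber.map g y = (Scheme.pointSmallEtale ξ).fiber.map g' y) :
    ∃ (V' : Y.Etale) (a : V' ⟶ V) (y' : (Scheme.pointSmallEtale ξ).fiber.obj ((EtCoh.bc f).obj V')),
      (Scheme.pointSmallEtale ξ).fiber.map ((EtCoh.bc f).map a) y' = y ∧
        (EtCoh.bc f).map a ≫ g = (EtCoh.bc f).map a ≫ g' := by
  haveI : AlgebraicGeometry.Etale U.hom := U.prop
  let l : ((EtCoh.bc f).obj V).left ⟶ pullback U.hom U.hom :=
    pullback.lift g.left g'.left ((MorphismProperty.Over.w g).trans (MorphismProperty.Over.w g').symm)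
  let Δ : U.left ⟶ pullback U.hom U.hom := pullback.diagonal U.hom
  haveI : IsOpenImmersion Δ := inferInstanceAs (IsOpenImmersion (pullback.diagonal U.hom))
  have h' : y.left ≫ g.left = y.left ≫ g'.left := congrArg (fun q => q.left) h
  have hl : y.left ≫ l = (y.left ≫ g.left) ≫ Δ := by
    apply pullback.hom_ext
    · exact ((Category.assoc _ _ _).trans (congrArg (y.left ≫ ·) (pullback.lift_fst _ _ _))).trans
        ((Category.assoc _ _ _).trans ((congrArg (_ ≫ ·) (pullback.diagonal_fst _)).trans (Category.comp_id _))).symm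
    · exact (((Category.assoc _ _ _).trans (congrArg (y.left ≫ ·) (pullback.lift_snd _ _ _))).trans h'.symm).trans
        ((Category.assoc _ _ _).trans ((congrArg (_ ≫ ·) (pullback.diagonal_snd _)).trans (Category.comp_id _))).symm
  obtain ⟨V', a, y', hy', hE⟩ := exists_shrink f ξ V (l ⁻¹ᵁ Δ.opensRange) y
    ⟨(y.left ≫ g.left) (default : Spec (CommRingCat.of Ω)), ((Scheme.Hom.comp_apply _ _ _).symm.trans
      ((congrArg (fun m : Spec (CommRingCat.of Ω) ⟶ pullback U.hom U.hom => m (default : Spec (CommRingCat.of Ω))) hl.symm).trans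
        (Scheme.Hom.comp_apply _ _ _)))⟩
  refine ⟨V', a, y', hy', MorphismProperty.Over.Hom.ext ?_⟩
  let t : ((EtCoh.bc f).obj V').left ⟶ U.left :=
    IsOpenImmersion.lift Δ (((EtCoh.bc f).map a).left ≫ l) (by
      rintro _ ⟨z, rfl⟩
      exact hE ⟨z, rfl⟩)
  have ht : t ≫ Δ = ((EtCoh.bc f).map a).left ≫ l := IsOpenImmersion.lift_fac _ _ _
  show ((EtCoh.bc f).map a).left ≫ g.left = ((EtCoh.bc f).map a).left ≫ g'.left
  have e1 : ((EtCoh.bc f).map a).left ≫ g.left = t :=
    ((congrArg (_ ≫ ·) (pullback.lift_fst _ _ _)).symm.trans ((Category.assoc _ _ _).symm.trans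
      ((congrArg (· ≫ pullback.fst U.hom U.hom) ht.symm).trans ((Category.assoc _ _ _).trans
        ((congrArg (t ≫ ·) (pullback.diagonal_fst _)).trans (Category.comp_id _))))))
  have e2 : ((EtCoh.bc f).map a).left ≫ g'.left = t :=
    ((congrArg (_ ≫ ·) (pullback.lift_snd _ _ _)).symm.trans ((Category.assoc _ _ _).symm.trans
      ((congrArg (· ≫ pullback.snd U.hom U.hom) ht.symm).trans ((Category.assoc _ _ _).trans
        ((congrArg (t ≫ ·) (pullback.diagonal_snd _)).trans (Category.comp_id _))))))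
  exact e1.trans e2.symm

/-- Sections near a geometric point vanish if they vanish at some geometric point over each point. -/
theorem isZero_of_stalks (F : EtCoh.Ab X)
    (h : ∀ x : X, ∃ (Ω : Type u) (_ : Field Ω) (_ : IsSepClosed Ω) (ξ : Spec (CommRingCat.of Ω) ⟶ X),
      ξ.base default = x ∧ IsZero ((EtCoh.stalk ξ).obj F)) : IsZero F := by
  have hli : Sheaf.IsLocallyInjective (0 : F ⟶ F) := ⟨fun {U} s t _ => (mem_topology_iff _).2 fun x => by
    obtain ⟨Ω, _, _, ξ, hξ, hz⟩ := h (U.unop.hom.base x)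
    obtain ⟨y, hy⟩ := exists_fiber ξ U.unop x hξ.symm
    have hs : Subsingleton ((EtCoh.stalk ξ).obj F) := AddCommGrpCat.subsingleton_of_isZero hz
    obtain ⟨W, c, w, hw, hc⟩ := ((Scheme.pointSmallEtale ξ).toPresheafFiber_eq_iff' U.unop y s t).1
      (hs.elim _ _)
    exact ⟨W, c, w.left.base (default : Spec (CommRingCat.of Ω)), hc, by rw [← hy, ← hw]; rfl⟩⟩
  have : Mono (0 : F ⟶ F) := Sheaf.mono_of_isLocallyInjective _
  exact (IsZero.iff_id_eq_zero F).2 (by rw [← cancel_mono (0 : F ⟶ F)]; simp)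

/-- The stalk of a direct image maps to the stalk. -/
noncomputable def stalkPush (F : EtCoh.Ab X) :
    (EtCoh.stalk (ξ ≫ f)).obj ((EtCoh.push f).obj F) ⟶ (EtCoh.stalk ξ).obj F :=
  (sheafFiberCongr AddCommGrpCat.{u + 1} (comapPointIso f ξ)).inv.app ((EtCoh.push f).obj F) ≫
    comapPushDesc (Scheme.pointSmallEtale ξ) (EtCoh.bc f) (EtCoh.coverPreserving_bc f) AddCommGrpCat.{u + 1} F.obj

/-- The same map for sheaves of sets. -/
noncomputable def stalkPushSh (F : EtDesc.Sh X) :
    (Scheme.pointSmallEtale (ξ ≫ f)).sheafFiber.obj ((EtDesc.pushSh f).obj F) ⟶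
      (Scheme.pointSmallEtale ξ).sheafFiber.obj F :=
  (sheafFiberCongr (Type (u + 1)) (comapPointIso f ξ)).inv.app ((EtDesc.pushSh f).obj F) ≫
    comapPushDesc (Scheme.pointSmallEtale ξ) (EtCoh.bc f) (EtCoh.coverPreserving_bc f) (Type (u + 1)) F.obj

theorem stalk_counit (F : EtCoh.Ab X) :
    (EtCoh.stalk ξ).map ((EtCoh.pullPushAdj f).counit.app F) =
      (stalkPullIso f ξ).hom.app ((EtCoh.push f).obj F) ≫ stalkPush f ξ F := by
  have e := sheafFiberComapIso_counit (Scheme.pointSmallEtale ξ) (EtCoh.bc f) (EtCoh.coverPreserving_bc f)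
    AddCommGrpCat.{u + 1} F
  simp only [stalkPullIso, stalkPush, Iso.trans_hom, NatTrans.comp_app, Category.assoc,
    Iso.hom_inv_id_app_assoc, Iso.symm_hom]
  exact ((Iso.inv_comp_eq (((Scheme.pointSmallEtale ξ).sheafFiberComapIso (EtCoh.bc f) (EtCoh.coverPreserving_bc f) AddCommGrpCat.{u + 1}).app ((EtCoh.push f).obj F))).2 e.symm).symm

theorem stalk_counitSh (F : EtDesc.Sh X) :
    (Scheme.pointSmallEtale ξ).sheafFiber.map ((EtDesc.adjSh f).counit.app F) =
      (stalkPullShIso f ξ).hom.app ((EtDesc.pushSh f).obj F) ≫ stalkPushSh f ξ F := by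
  have e := sheafFiberComapIso_counit (Scheme.pointSmallEtale ξ) (EtCoh.bc f) (EtCoh.coverPreserving_bc f)
    (Type (u + 1)) F
  simp only [stalkPullShIso, stalkPushSh, Iso.trans_hom, NatTrans.comp_app, Category.assoc,
    Iso.hom_inv_id_app_assoc, Iso.symm_hom]
  exact ((Iso.inv_comp_eq (((Scheme.pointSmallEtale ξ).sheafFiberComapIso (EtCoh.bc f) (EtCoh.coverPreserving_bc f) (Type (u + 1))).app ((EtDesc.pushSh f).obj F))).2 e.symm).symm

section

variable [UniversallyClosed f] [UniversallyInjective f] (hA : BigSite.PropA f)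
include hA

theorem isIso_stalkPush (F : EtCoh.Ab X) : IsIso (stalkPush f ξ F) := by
  have := (ConcreteCategory.isIso_iff_bijective _).2 (bijective_comapPushDesc (Scheme.pointSmallEtale ξ)
    (EtCoh.bc f) (EtCoh.coverPreserving_bc f) AddCommGrpCat.{u + 1} (exists_nbhd_into f ξ hA)
    (exists_agree f ξ) F.obj)
  exact IsIso.comp_isIso' inferInstance this

theorem isIso_stalkPushSh (F : EtDesc.Sh X) : IsIso (stalkPushSh f ξ F) := by
  have := (ConcreteCategory.isIso_iff_bijective _).2 (bijective_comapPushDesc (Scheme.pointSmallEtale ξ)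
    (EtCoh.bc f) (EtCoh.coverPreserving_bc f) (Type (u + 1)) (exists_nbhd_into f ξ hA)
    (exists_agree f ξ) F.obj)
  exact IsIso.comp_isIso' inferInstance this

theorem bijective_stalk_counit (F : EtCoh.Ab X) :
    Function.Bijective ((EtCoh.stalk ξ).map ((EtCoh.pullPushAdj f).counit.app F)) := by
  have := isIso_stalkPush f ξ hA F
  rw [stalk_counit]
  exact ConcreteCategory.bijective_of_isIso _

theorem bijective_stalk_counitSh (F : EtDesc.Sh X) :
    Function.Bijective ((Scheme.pointSmallEtale ξ).sheafFiber.map ((EtDesc.adjSh f).counit.app F)) := by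
  have := isIso_stalkPushSh f ξ hA F
  rw [stalk_counitSh]
  exact ConcreteCategory.bijective_of_isIso _

theorem isIso_counit (F : EtCoh.Ab X) : IsIso ((EtCoh.pullPushAdj f).counit.app F) := by
  have h1 : Mono ((EtCoh.pullPushAdj f).counit.app F) :=
    (mono_iff_stalks _).2 fun _ _ _ ξ => (bijective_stalk_counit f ξ hA F).1
  have h2 : Epi ((EtCoh.pullPushAdj f).counit.app F) :=
    (epi_iff_stalks _).2 fun _ _ _ ξ => (bijective_stalk_counit f ξ hA F).2
  exact isIso_of_mono_of_epi _

theorem isIso_counitSh (F : EtDesc.Sh X) : IsIso ((EtDesc.adjSh f).counit.app F) := by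
  have h1 : Mono ((EtDesc.adjSh f).counit.app F) :=
    (mono_iff_stalks_type _).2 fun _ _ _ ξ => (bijective_stalk_counitSh f ξ hA F).1
  have h2 : Epi ((EtDesc.adjSh f).counit.app F) :=
    (epi_iff_stalks_type _).2 fun _ _ _ ξ => (bijective_stalk_counitSh f ξ hA F).2
  exact isIso_of_mono_of_epi _

theorem full_faithful_push : (EtCoh.push f).Full ∧ (EtCoh.push f).Faithful := by
  have := isIso_counit f hA
  have : IsIso (EtCoh.pullPushAdj f).counit := NatIso.isIso_of_isIso_app _
  exact ⟨(EtCoh.pullPushAdj f).fullyFaithfulROfIsIsoCounit.full,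
    (EtCoh.pullPushAdj f).fullyFaithfulROfIsIsoCounit.faithful⟩

theorem full_faithful_pushSh : (EtDesc.pushSh f).Full ∧ (EtDesc.pushSh f).Faithful := by
  have := isIso_counitSh f hA
  have : IsIso (EtDesc.adjSh f).counit := NatIso.isIso_of_isIso_app _
  exact ⟨(EtDesc.adjSh f).fullyFaithfulROfIsIsoCounit.full,
    (EtDesc.adjSh f).fullyFaithfulROfIsIsoCounit.faithful⟩

end

/-- Neighbourhoods of a point outside the image miss the image. -/
theorem exists_nbhd_avoid [UniversallyClosed f] (η : Spec (CommRingCat.of Ω) ⟶ Y)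
    (hη : η.base default ∉ Set.range f.base) (V : Y.Etale) (y : (Scheme.pointSmallEtale η).fiber.obj V) :
    ∃ (V' : Y.Etale) (a : V' ⟶ V) (y' : (Scheme.pointSmallEtale η).fiber.obj V'),
      (Scheme.pointSmallEtale η).fiber.map a y' = y ∧ IsEmpty ((EtCoh.bc f).obj V').left := by
  let O : V.left.Opens := V.hom ⁻¹ᵁ ⟨(Set.range f.base)ᶜ, f.isClosedMap.isClosed_range.isOpen_compl⟩
  let V' : Y.Etale := Scheme.Etale.mk (O.ι ≫ V.hom)
  let a : V' ⟶ V := MorphismProperty.Over.homMk O.ι rfl
  have hr : Set.range y.left ⊆ Set.range O.ι := by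
    rintro _ ⟨t, rfl⟩
    refine (Scheme.Opens.range_ι O).ge ?_
    obtain rfl : t = (default : Spec (CommRingCat.of Ω)) := Subsingleton.elim (α := Spec (CommRingCat.of Ω)) _ _
    show V.hom.base (y.left.base (default : Spec (CommRingCat.of Ω))) ∉ Set.range f.base
    rw [fiber_apply y]
    exact hη
  let q : Spec (CommRingCat.of Ω) ⟶ (O : Scheme.{u}) := IsOpenImmersion.lift O.ι y.left hr
  have hq : q ≫ O.ι = y.left := IsOpenImmersion.lift_fac _ _ _
  refine ⟨V', a, Over.homMk q ?_, ?_, ⟨fun z => ?_⟩⟩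
  · exact (Category.assoc _ _ _).symm.trans ((congrArg (· ≫ V.hom) hq).trans (Over.w y))
  · exact Over.OverMorphism.ext hq
  · exact (pullback.fst V'.hom f z).2 ⟨pullback.snd V'.hom f z, (Scheme.Hom.comp_apply _ _ _).symm.trans
      ((congrArg (fun m : pullback V'.hom f ⟶ Y => m z) pullback.condition.symm).trans
        (Scheme.Hom.comp_apply _ _ _))⟩

theorem isZero_stalk_push [UniversallyClosed f] (F : EtCoh.Ab X) (η : Spec (CommRingCat.of Ω) ⟶ Y)
    (hη : η.base default ∉ Set.range f.base) : IsZero ((EtCoh.stalk η).obj ((EtCoh.push f).obj F)) := by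
  have : Subsingleton ((EtCoh.stalk η).obj ((EtCoh.push f).obj F)) := ⟨fun p q => by
    obtain ⟨V, y, s, t, rfl, rfl⟩ := (Scheme.pointSmallEtale η).toPresheafFiber_jointly_surjective₂ p q
    obtain ⟨V', a, y', hy', he⟩ := exists_nbhd_avoid f η hη V y
    refine ((Scheme.pointSmallEtale η).toPresheafFiber_eq_iff' _ _ _ _).2 ⟨V', a, y', hy', ?_⟩
    exact (subsingleton_of_isEmpty ((sheafCompose X.smallEtaleTopology (forget AddCommGrpCat.{u + 1})).obj F)
      ((EtCoh.bc f).obj V')).elim _ _⟩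
  exact AddCommGrpCat.isZero_of_subsingleton _

theorem isIso_unit_iff [UniversallyClosed f] [UniversallyInjective f] (hA : BigSite.PropA f)
    (G : EtCoh.Ab Y) :
    IsIso ((EtCoh.pullPushAdj f).unit.app G) ↔ EtPBC.supp G ⊆ Set.range f.base := by
  constructor
  · rintro h y ⟨Ω', _, _, η, hη, hne⟩
    by_contra hy
    refine hne ((isZero_stalk_push f ((EtCoh.pull f).obj G) η ?_).of_iso
      ((EtCoh.stalk η).mapIso (asIso ((EtCoh.pullPushAdj f).unit.app G))))
    rw [show η.base default = y from hη.subset ⟨default, rfl⟩]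
    exact hy
  · intro hG
    let φ := (EtCoh.pullPushAdj f).unit.app G
    haveI := isIso_counit f hA ((EtCoh.pull f).obj G)
    have hpull : IsIso ((EtCoh.pull f).map φ) :=
      (IsIso.eq_inv_of_inv_hom_id (g := (EtCoh.pull f).map φ) ((EtCoh.pullPushAdj f).left_triangle_components G)) ▸
        inferInstance
    haveI := preservesFiniteLimits_pull f
    haveI : PreservesFiniteColimits (EtCoh.pull f) := by
      have : PreservesColimitsOfSize.{0, 0} (EtCoh.pull f) := (EtCoh.pullPushAdj f).leftAdjoint_preservesColimits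
      exact PreservesColimitsOfSize.preservesFiniteColimits _
    have key : ∀ K : EtCoh.Ab Y, IsZero ((EtCoh.pull f).obj K) →
        (∀ (Ω : Type u) [Field Ω] [IsSepClosed Ω] (η : Spec (CommRingCat.of Ω) ⟶ Y),
          η.base default ∉ Set.range f.base → IsZero ((EtCoh.stalk η).obj K)) → IsZero K := by
      intro K hK hoff
      refine isZero_of_stalks K fun y => ?_
      by_cases hy : y ∈ Set.range f.base
      · obtain ⟨x, hx⟩ := hy
        obtain ⟨Ω', _, _, ξ', hξ'⟩ := exists_geometric_point x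
        exact ⟨Ω', inferInstance, inferInstance, ξ' ≫ f, by rw [← hx, ← hξ']; rfl,
          (((EtCoh.stalk ξ').map_isZero hK)).of_iso ((stalkPullIso f ξ').app K).symm⟩
      · obtain ⟨Ω', _, _, η, hη⟩ := exists_geometric_point y
        exact ⟨Ω', inferInstance, inferInstance, η, hη, hoff Ω' η (hη.symm ▸ hy)⟩
    have hk : IsZero (kernel φ) := by
      refine key _ ((isZero_kernel_of_mono ((EtCoh.pull f).map φ)).of_iso
        (PreservesKernel.iso (EtCoh.pull f) φ)) fun Ω' _ _ η hη => ?_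
      have : IsZero ((EtCoh.stalk η).obj G) := by
        by_contra hne
        exact hη (hG ⟨Ω', inferInstance, inferInstance, η, Set.range_unique, hne⟩)
      exact this.of_mono ((EtCoh.stalk η).map (kernel.ι φ))
    have hc : IsZero (cokernel φ) := by
      refine key _ ((isZero_cokernel_of_epi ((EtCoh.pull f).map φ)).of_iso
        (PreservesCokernel.iso (EtCoh.pull f) φ)) fun Ω' _ _ η hη => ?_
      exact (isZero_stalk_push f _ η hη).of_epi ((EtCoh.stalk η).map (cokernel.π φ))
    haveI : Mono φ := Abelian.mono_of_kernel_ι_eq_zero φ (hk.eq_zero_of_src _)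
    haveI : Epi φ := Abelian.epi_of_cokernel_π_eq_zero φ (hc.eq_zero_of_tgt _)
    exact isIso_of_mono_of_epi φ

theorem essImage_push_iff [UniversallyClosed f] [UniversallyInjective f] (hA : BigSite.PropA f)
    (G : EtCoh.Ab Y) : (EtCoh.push f).essImage G ↔ EtPBC.supp G ⊆ Set.range f.base := by
  refine ⟨fun ⟨F, ⟨e⟩⟩ => ?_, fun h => ?_⟩
  · rintro y ⟨Ω', _, _, η, hη, hne⟩
    by_contra hy
    refine hne ((isZero_stalk_push f F η ?_).of_iso ((EtCoh.stalk η).mapIso e.symm))
    rw [show η.base default = y from hη.subset ⟨default, rfl⟩]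
    exact hy
  · haveI := (isIso_unit_iff f hA G).2 h
    exact ⟨_, ⟨(asIso ((EtCoh.pullPushAdj f).unit.app G)).symm⟩⟩

/-- Sheaves of sets have a unique section over an empty object. -/
theorem nonempty_of_isEmpty (F : EtDesc.Sh X) (Z : X.Etale) [IsEmpty Z.left] :
    Nonempty (F.obj.obj (op Z)) := by
  have h := ((isSheaf_iff_isSheaf_of_type _ _).1 F.property) ⊥
    ((mem_topology_iff (⊥ : Sieve Z)).2 fun x => isEmptyElim x) (fun _ _ hf => False.elim hf) (fun _ _ _ _ _ _ _ hf => False.elim hf)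
  exact ⟨h.choose⟩

/-- Stalks of direct images of sheaves of sets outside the image are singletons. -/
theorem unique_stalk_pushSh [UniversallyClosed f] (F : EtDesc.Sh X) (η : Spec (CommRingCat.of Ω) ⟶ Y)
    (hη : η.base default ∉ Set.range f.base) :
    Subsingleton ((Scheme.pointSmallEtale η).sheafFiber.obj ((EtDesc.pushSh f).obj F)) ∧
      Nonempty ((Scheme.pointSmallEtale η).sheafFiber.obj ((EtDesc.pushSh f).obj F)) := by
  constructor
  · refine ⟨fun p q => ?_⟩
    obtain ⟨V, y, s, t, rfl, rfl⟩ := (Scheme.pointSmallEtale η).toPresheafFiber_jointly_surjective₂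
      (P := ((EtDesc.pushSh f).obj F).obj) p q
    obtain ⟨V', a, y', hy', he⟩ := exists_nbhd_avoid f η hη V y
    refine ((Scheme.pointSmallEtale η).toPresheafFiber_eq_iff' _ _ _ _).2 ⟨V', a, y', hy', ?_⟩
    exact (subsingleton_of_isEmpty F ((EtCoh.bc f).obj V')).elim _ _
  · obtain ⟨⟨V, y⟩⟩ := (inferInstance : IsCofiltered (Scheme.pointSmallEtale η).fiber.Elements).nonempty
    obtain ⟨V', a, y', -, he⟩ := exists_nbhd_avoid f η hη V y
    exact ⟨(Scheme.pointSmallEtale η).toPresheafFiber V' y' ((EtDesc.pushSh f).obj F).obj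
      (nonempty_of_isEmpty F ((EtCoh.bc f).obj V')).some⟩

/-- A morphism of sheaves of sets is an isomorphism when it is bijective at one geometric point over each point. -/
theorem isIso_of_some_stalks {F G : EtDesc.Sh X} (φ : F ⟶ G)
    (h : ∀ x : X, ∃ (Ω : Type u) (_ : Field Ω) (_ : IsSepClosed Ω) (ξ : Spec (CommRingCat.of Ω) ⟶ X),
      ξ.base default = x ∧ Function.Bijective ((Scheme.pointSmallEtale ξ).sheafFiber.map φ)) : IsIso φ := by
  have h1 : Sheaf.IsLocallyInjective φ := isLocallyInjective_of_some_stalks φ.hom fun x => by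
    obtain ⟨Ω, _, _, ξ, hξ, hb⟩ := h x
    exact ⟨Ω, inferInstance, inferInstance, ξ, hξ, hb.1⟩
  have h2 : Sheaf.IsLocallySurjective φ := isLocallySurjective_of_some_stalks φ.hom fun x => by
    obtain ⟨Ω, _, _, ξ, hξ, hb⟩ := h x
    exact ⟨Ω, inferInstance, inferInstance, ξ, hξ, hb.2⟩
  exact (Sheaf.isLocallyBijective_iff_isIso φ).1 ⟨h1, h2⟩

/-- The unit is an isomorphism at sheaves of sets with singleton stalks outside the image. -/
theorem isIso_unitSh [UniversallyClosed f] [UniversallyInjective f] (hA : BigSite.PropA f)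
    (G : EtDesc.Sh Y)
    (hG : ∀ y ∉ Set.range f.base, ∃ (Ω : Type u) (_ : Field Ω) (_ : IsSepClosed Ω)
      (η : Spec (CommRingCat.of Ω) ⟶ Y), η.base default = y ∧
        Subsingleton ((Scheme.pointSmallEtale η).sheafFiber.obj G) ∧
        Nonempty ((Scheme.pointSmallEtale η).sheafFiber.obj G)) :
    IsIso ((EtDesc.adjSh f).unit.app G) := by
  haveI := isIso_counitSh f hA ((EtDesc.pullSh f).obj G)
  have hpull : IsIso ((EtDesc.pullSh f).map ((EtDesc.adjSh f).unit.app G)) :=
    (IsIso.eq_inv_of_inv_hom_id (g := (EtDesc.pullSh f).map ((EtDesc.adjSh f).unit.app G))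
      ((EtDesc.adjSh f).left_triangle_components G)) ▸ inferInstance
  refine isIso_of_some_stalks _ fun y => ?_
  by_cases hy : y ∈ Set.range f.base
  · obtain ⟨x, hx⟩ := hy
    obtain ⟨Ω', _, _, ξ', hξ'⟩ := exists_geometric_point x
    refine ⟨Ω', inferInstance, inferInstance, ξ' ≫ f, by rw [← hx, ← hξ']; rfl, ?_⟩
    have h : IsIso ((EtDesc.pullSh f ⋙ (Scheme.pointSmallEtale ξ').sheafFiber).map
        ((EtDesc.adjSh f).unit.app G)) := by
      dsimp only [Functor.comp_map]
      infer_instance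
    have h' : IsIso ((Scheme.pointSmallEtale (ξ' ≫ f)).sheafFiber.map ((EtDesc.adjSh f).unit.app G)) :=
      ((MorphismProperty.isomorphisms _).arrow_mk_iso_iff
        (((Functor.mapArrowFunctor _ _).mapIso (stalkPullShIso f ξ')).app
          (Arrow.mk ((EtDesc.adjSh f).unit.app G)))).1 h
    exact (ConcreteCategory.isIso_iff_bijective _).1 h'
  · obtain ⟨Ω', _, _, η, hη, h1, h2⟩ := hG y hy
    refine ⟨Ω', inferInstance, inferInstance, η, hη, ?_⟩
    obtain ⟨h3, h4⟩ := unique_stalk_pushSh f ((EtDesc.pullSh f).obj G) η (hη.symm ▸ hy)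
    exact ⟨fun _ _ _ => h1.elim _ _, fun b => ⟨h2.some, h3.elim _ _⟩⟩

/-- Stalks of a terminal sheaf of sets are singletons. -/
theorem unique_stalk_of_isTerminal {T : EtDesc.Sh X} (hT : IsTerminal T) (η : Spec (CommRingCat.of Ω) ⟶ X) :
    Subsingleton ((Scheme.pointSmallEtale η).sheafFiber.obj T) ∧
      Nonempty ((Scheme.pointSmallEtale η).sheafFiber.obj T) := by
  have hV : ∀ V : X.Etale, Nonempty (T.obj.obj (op V) ≃ PUnit.{u + 2}) := fun V =>
    ⟨(IsTerminal.isTerminalObj
      (sheafToPresheaf _ _ ⋙ (CategoryTheory.evaluation X.Etaleᵒᵖ (Type (u + 1))).obj (op V)) T hT).uniqueUpToIso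
      Types.isTerminalPUnit |>.toEquiv.trans (Equiv.equivPUnit _)⟩
  constructor
  · refine ⟨fun p q => ?_⟩
    obtain ⟨V, y, s, t, rfl, rfl⟩ := (Scheme.pointSmallEtale η).toPresheafFiber_jointly_surjective₂
      (P := T.obj) p q
    obtain ⟨e⟩ := hV V
    exact congrArg _ (e.injective (Subsingleton.elim _ _))
  · obtain ⟨⟨V, y⟩⟩ := (inferInstance : IsCofiltered (Scheme.pointSmallEtale η).fiber.Elements).nonempty
    obtain ⟨e⟩ := hV V
    exact ⟨(Scheme.pointSmallEtale η).toPresheafFiber V y T.obj (e.symm PUnit.unit)⟩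

/-- Essential image of the direct image of sheaves of sets along a map with open complement `j`. -/
theorem essImage_pushSh_iff [UniversallyClosed f] [UniversallyInjective f] (hA : BigSite.PropA f)
    {U : Scheme.{u}} (j : U ⟶ Y) (hU : Set.range j.base = (Set.range f.base)ᶜ) (F : EtDesc.Sh Y) :
    (EtDesc.pushSh f).essImage F ↔ IsIso (terminal.from ((EtDesc.pullSh j).obj F)) := by
  constructor
  · rintro ⟨G, ⟨e⟩⟩
    refine isIso_of_some_stalks _ fun u => ?_
    obtain ⟨Ω', _, _, ξ', hξ'⟩ := exists_geometric_point u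
    refine ⟨Ω', inferInstance, inferInstance, ξ', hξ', ?_⟩
    have hu : (ξ' ≫ j).base default ∉ Set.range f.base := hU.subset ⟨ξ'.base default, rfl⟩
    obtain ⟨h1, h2⟩ := unique_stalk_pushSh f G (ξ' ≫ j) hu
    let a := ((stalkPullShIso j ξ').app F ≪≫ (Scheme.pointSmallEtale (ξ' ≫ j)).sheafFiber.mapIso e.symm).toEquiv
    obtain ⟨h3, h4⟩ := unique_stalk_of_isTerminal (terminalIsTerminal (C := EtDesc.Sh U)) ξ'
    exact ⟨fun x y _ => a.injective (h1.elim _ _), fun b => ⟨a.symm h2.some, h3.elim _ _⟩⟩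
  · intro hF
    have := isIso_unitSh f hA F fun y hy => ?_
    · exact ⟨_, ⟨(asIso ((EtDesc.adjSh f).unit.app F)).symm⟩⟩
    obtain ⟨u, rfl⟩ := hU.superset hy
    obtain ⟨Ω', _, _, ξ', hξ'⟩ := exists_geometric_point u
    refine ⟨Ω', inferInstance, inferInstance, ξ' ≫ j, by rw [← hξ']; rfl, ?_⟩
    let a := (((stalkPullShIso j ξ').app F).symm ≪≫ (Scheme.pointSmallEtale ξ').sheafFiber.mapIso
      (asIso (terminal.from ((EtDesc.pullSh j).obj F)))).toEquiv
    obtain ⟨h3, h4⟩ := unique_stalk_of_isTerminal (terminalIsTerminal (C := EtDesc.Sh U)) ξ'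
    exact ⟨⟨fun x y => a.injective (h3.elim _ _)⟩, ⟨a.symm h4.some⟩⟩

end Groth.L27.EtSite
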