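import Groth.Agent.L27.EtSite.Points
import Groth.Agent.L27.EtSite.PropB
import Groth.Prelude.Def_SGA4b
import Mathlib.CategoryTheory.Sites.Whiskering
import Mathlib.CategoryTheory.Abelian.RightDerived

/-! # Direct images along morphisms satisfying condition (B) are exact -/

universe u v w

open CategoryTheory CategoryTheory.Limits AlgebraicGeometry Opposite TopologicalSpace

set_option backward.isDefEq.respectTransparency.types false
set_option linter.style.haveILetI false

namespace Groth.L27.EtSite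

variable {X : Scheme.{u}}

/-- Sections over an empty object of the small etale site are unique. -/
theorem subsingleton_of_isEmpty (F : Sheaf X.smallEtaleTopology (Type (u + 1))) (Z : X.Etale) [IsEmpty Z.left] :
    Subsingleton (F.obj.obj (op Z)) :=
  ⟨fun _ _ => ((isSheaf_iff_isSheaf_of_type _ _).1 F.property).isSeparated ⊥
    ((mem_topology_iff _).2 fun x => isEmptyElim x) |>.ext fun _ _ hf => False.elim hf⟩

/-- Sections over disjoint open decompositions. -/
theorem bijective_of_disjoint (F : Sheaf X.smallEtaleTopology (Type (u + 1))) {U : X.Etale}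
    {ι : Type v} (V : ι → X.Etale) (c : ∀ i, V i ⟶ U) [∀ i, IsOpenImmersion (c i).left]
    (hd : Pairwise fun i j => Disjoint (Set.range (c i).left) (Set.range (c j).left))
    (hc : ∀ x : U.left, ∃ i y, (c i).left y = x) :
    Function.Bijective fun (x : F.obj.obj (op U)) (i : ι) => F.obj.map (c i).op x := by
  have hF := (isSheaf_iff_isSheaf_of_type _ _).1 F.property
  have hmem : Sieve.generate (Presieve.ofArrows V c) ∈ X.smallEtaleTopology U :=
    (mem_topology_iff _).2 fun x => by
      obtain ⟨i, y, hy⟩ := hc x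
      exact ⟨V i, c i, y, ⟨V i, 𝟙 _, c i, ⟨i⟩, Category.id_comp _⟩, hy⟩
  refine ⟨fun a b hab => (hF.isSeparated _ hmem).ext fun Z f hf => ?_, fun y => ?_⟩
  · obtain ⟨_, a', _, ⟨i⟩, rfl⟩ := hf
    simp only [op_comp, Functor.map_comp_apply]
    exact congrArg _ (congrFun hab i)
  · have hcompat : Presieve.Arrows.Compatible F.obj c y := by
      intro i j Z gi gj hij
      by_cases e : i = j
      · subst e
        rw [show gi = gj from MorphismProperty.Over.Hom.ext
          ((cancel_mono (c i).left).mp (congrArg (fun f : Z ⟶ U => f.left) hij))]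
      · haveI : IsEmpty Z.left := ⟨fun z =>
          Set.disjoint_left.mp (hd e) ⟨gi.left z, rfl⟩
            ⟨gj.left z, (congrArg (fun f : Z ⟶ U => f.left z) hij).symm⟩⟩
        exact (subsingleton_of_isEmpty F Z).elim _ _
    obtain ⟨t, ht, -⟩ := ((Presieve.isSheafFor_arrows_iff _ _).mp
      ((Presieve.isSheafFor_iff_generate _).mpr (hF _ hmem))) y hcompat
    exact ⟨t, funext ht⟩

section

variable {A : Type w} [Category.{v} A] {FA : A → A → Type*} {CA : A → Type (u + 1)}
  [∀ (P Q : A), FunLike (FA P Q) (CA P) (CA Q)] [ConcreteCategory.{u + 1} A FA]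

/-- Direct image along a morphism with property (B) preserves local surjectivity. -/
theorem isLocallySurjective_push [∀ X : Scheme.{u}, X.smallEtaleTopology.HasSheafCompose (forget A)]
    {Y : Scheme.{u}} (f : X ⟶ Y) (hB : BigSite.PropB f)
    {F G : Sheaf X.smallEtaleTopology A} (φ : F ⟶ G) [Sheaf.IsLocallySurjective φ] :
    Presheaf.IsLocallySurjective Y.smallEtaleTopology (Functor.whiskerLeft (EtCoh.bc f).op φ.hom) := by
  refine ⟨fun {V} s => (mem_topology_iff _).2 fun y => ?_⟩
  have hS := (mem_topology_iff _).1 (Presheaf.imageSieve_mem X.smallEtaleTopology φ.hom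
    (U := op ((EtCoh.bc f).obj V)) s)
  choose W g w hg hw using hS
  let σ : pullback f V.hom ⟶ pullback V.hom f := (pullbackSymmetry f V.hom).hom
  have hcov : ∀ x : ↥(pullback f V.hom), ∃ z, x ∈ Set.range
      ((g z).left ≫ (pullbackSymmetry f V.hom).inv).base := fun x => ⟨σ x, w (σ x), by
    show (pullbackSymmetry f V.hom).inv ((g (σ x)).left (w (σ x))) = x
    rw [hw, ← Scheme.Hom.comp_apply, Iso.hom_inv_id]
    rfl⟩
  have : AlgebraicGeometry.Etale V.hom := V.prop
  obtain ⟨κ, V', v', he, hv, hpieces⟩ := hB V.left V.hom ↥(pullback V.hom f) (fun z => (W z).left)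
    (fun z => (g z).left ≫ (pullbackSymmetry f V.hom).inv) (fun z => inferInstance) hcov
  obtain ⟨j, y', hy'⟩ := hv y
  obtain ⟨μ, P, hd, hP, hfac⟩ := hpieces j
  haveI := he j
  let V₁ : Y.Etale := Scheme.Etale.mk (v' j ≫ V.hom)
  let a : V₁ ⟶ V := MorphismProperty.Over.homMk (v' j) rfl
  refine ⟨V₁, a, y', ?_, hy'⟩
  -- the pieces, transported to `V₁ ×_Y X`
  let τ : ((EtCoh.bc f).obj V₁).left ⟶ pullback f (v' j ≫ V.hom) :=
    (pullbackSymmetry (v' j ≫ V.hom) f).hom
  let Q : μ → X.Etale := fun k => Scheme.Etale.mk ((τ ⁻¹ᵁ P k).ι ≫ ((EtCoh.bc f).obj V₁).hom)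
  let c : ∀ k, Q k ⟶ (EtCoh.bc f).obj V₁ := fun k => MorphismProperty.Over.homMk (τ ⁻¹ᵁ P k).ι rfl
  haveI : ∀ k, IsOpenImmersion (c k).left := fun k => inferInstanceAs (IsOpenImmersion (τ ⁻¹ᵁ P k).ι)
  have hl : ∀ k, ∃ t, φ.hom.app (op (Q k)) t = G.obj.map (c k ≫ (EtCoh.bc f).map a).op s := by
    intro k
    obtain ⟨z, h, hh⟩ := hfac k
    let l : (Q k).left ⟶ (W z).left := (τ ∣_ P k) ≫ h
    have hl : l ≫ (g z).left = (c k).left ≫ ((EtCoh.bc f).map a).left := by
      apply (cancel_mono (pullbackSymmetry f V.hom).inv).1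
      refine (Category.assoc _ _ _).trans (((Category.assoc _ _ _).trans (congrArg ((τ ∣_ P k) ≫ ·) hh)).trans ?_)
      refine ((Category.assoc _ _ _).symm.trans ((congrArg (· ≫ _) (morphismRestrict_ι τ (P k))).trans
        (Category.assoc _ _ _))).trans (Eq.trans ?_ (Category.assoc _ _ _).symm)
      refine congrArg ((τ ⁻¹ᵁ P k).ι ≫ ·) ?_
      apply pullback.hom_ext
      · rw [Category.assoc, Category.assoc]
        refine (congrArg (_ ≫ ·) ((pullback.lift_fst _ _ _).trans (Category.comp_id _))).trans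
          ((pullbackSymmetry_hom_comp_fst (v' j ≫ V.hom) f).trans (Eq.trans ?_
            (congrArg (((EtCoh.bc f).map a).left ≫ ·) (pullbackSymmetry_inv_comp_fst f V.hom).symm)))
        exact (pullback.lift_snd _ _ _).symm
      · rw [Category.assoc, Category.assoc]
        refine (congrArg (_ ≫ ·) (pullback.lift_snd _ _ _)).trans ((Category.assoc _ _ _).symm.trans
          ((congrArg (· ≫ v' j) (pullbackSymmetry_hom_comp_snd (v' j ≫ V.hom) f)).trans (Eq.trans ?_
            (congrArg (((EtCoh.bc f).map a).left ≫ ·) (pullbackSymmetry_inv_comp_snd f V.hom).symm))))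
        exact (pullback.lift_fst _ _ _).symm
    let L : Q k ⟶ W z := MorphismProperty.Over.homMk l (by
      show l ≫ (W z).hom = (c k).left ≫ ((EtCoh.bc f).obj V₁).hom
      rw [← MorphismProperty.Over.w (g z), ← Category.assoc, hl, Category.assoc, MorphismProperty.Over.w])
    have e : L ≫ g z = c k ≫ (EtCoh.bc f).map a := MorphismProperty.Over.Hom.ext hl
    obtain ⟨t, ht⟩ := hg z
    refine ⟨F.obj.map L.op t, ?_⟩
    rw [← e, NatTrans.naturality_apply, ht, op_comp, G.obj.map_comp, ConcreteCategory.comp_apply]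
  choose t ht using hl
  have hdQ : Pairwise fun i k => Disjoint (Set.range (c i).left) (Set.range (c k).left) := by
    intro i k hik
    show Disjoint (Set.range (τ ⁻¹ᵁ P i).ι) (Set.range (τ ⁻¹ᵁ P k).ι)
    rw [Scheme.Opens.range_ι, Scheme.Opens.range_ι]
    exact Set.disjoint_left.2 fun x hi hk =>
      (hd i k hik).le_bot (show τ x ∈ P i ⊓ P k from ⟨hi, hk⟩)
  have hcQ : ∀ x : ((EtCoh.bc f).obj V₁).left, ∃ i z, (c i).left z = x := fun x => by
    obtain ⟨i, hi⟩ := Opens.mem_iSup.1 (hP.ge (Opens.mem_top (τ x)))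
    exact ⟨i, ⟨x, hi⟩, rfl⟩
  let FT := (sheafCompose X.smallEtaleTopology (forget A)).obj F
  let GT := (sheafCompose X.smallEtaleTopology (forget A)).obj G
  obtain ⟨t₀, ht₀⟩ := (bijective_of_disjoint FT Q c hdQ hcQ).2 t
  refine ⟨t₀, (bijective_of_disjoint GT Q c hdQ hcQ).1 (funext fun i => ?_)⟩
  refine ((NatTrans.naturality_apply φ.hom (c i).op t₀).symm.trans ?_)
  refine (congrArg _ (congrFun ht₀ i)).trans ((ht i).trans ?_)
  rw [op_comp, G.obj.map_comp, ConcreteCategory.comp_apply]
  rfl

end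

variable {Y : Scheme.{u}} (f : X ⟶ Y)

theorem epi_push_map (hB : BigSite.PropB f) {F G : EtCoh.Ab X} (φ : F ⟶ G) [Epi φ] :
    Epi ((EtCoh.push f).map φ) := by
  have : Sheaf.IsLocallySurjective φ := (Sheaf.isLocallySurjective_iff_epi' (φ := φ)).2 inferInstance
  exact (Sheaf.isLocallySurjective_iff_epi' (φ := (EtCoh.push f).map φ)).1 (isLocallySurjective_push f hB φ)

theorem preservesEpimorphisms_push (hB : BigSite.PropB f) : (EtCoh.push f).PreservesEpimorphisms :=
  ⟨fun φ _ => epi_push_map f hB φ⟩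

theorem preservesEpimorphisms_pushSh (hB : BigSite.PropB f) : (EtDesc.pushSh f).PreservesEpimorphisms :=
  ⟨fun φ _ => by
    have : Sheaf.IsLocallySurjective φ := (Sheaf.isLocallySurjective_iff_epi' (φ := φ)).2 inferInstance
    exact (Sheaf.isLocallySurjective_iff_epi' (φ := (EtDesc.pushSh f).map φ)).1 (isLocallySurjective_push f hB φ)⟩

end Groth.L27.EtSite

namespace Groth.L27.EtSite

variable {X Y : Scheme.{u}} (f : X ⟶ Y)

theorem isZero_Rpush_of_propB (hB : BigSite.PropB f) (F : EtCoh.Ab X) (q : ℕ) (hq : 0 < q) :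
    IsZero ((EtCoh.Rpush f q).obj F) := by
  haveI := preservesEpimorphisms_push f hB
  haveI : PreservesLimitsOfSize.{0, 0} (EtCoh.push f) :=
    (EtCoh.pullPushAdj f).rightAdjoint_preservesLimits
  haveI : PreservesFiniteLimits (EtCoh.push f) := PreservesLimitsOfSize.preservesFiniteLimits _
  haveI : (EtCoh.push f).PreservesHomology :=
    Functor.preservesHomology_of_preservesEpis_and_kernels _
  let I := InjectiveResolution.of F
  refine IsZero.of_iso ?_ (I.isoRightDerivedObj (EtCoh.push f) q)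
  obtain ⟨q, rfl⟩ := Nat.exists_eq_succ_of_ne_zero hq.ne'
  rw [HomologicalComplex.homologyFunctor_obj, ← HomologicalComplex.exactAt_iff_isZero_homology]
  exact (I.cocomplex_exactAt_succ q).map (EtCoh.push f)

end Groth.L27.EtSite
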