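import Groth.Agent.L05.Hensel.Homs
import Groth.Agent.L05.Hensel.Product
import Groth.Agent.L05.Henselization.StrictUniq
import Groth.Agent.L27.IndEtalePerm
import Groth.Agent.L27.IndZariski
import Mathlib.Algebra.Category.Ring.Under.Basic
import Mathlib.CategoryTheory.Limits.Preserves.Over
import Mathlib.FieldTheory.PurelyInseparable.Basic
import Mathlib.RingTheory.Etale.Basic
import Mathlib.RingTheory.TensorProduct.Finite
import Mathlib.RingTheory.Unramified.Field
import Mathlib.RingTheory.Spectrum.Prime.ChevalleyComplexity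

/-!
# Etale covers of integral algebras split after an etale extension of the base

If `B` is integral over `A`, `C` is faithfully flat etale over `B` and `p` is a prime of `A`, then
there is an etale `A`-algebra `A'` with a prime over `p` and a `B`-algebra map `C → B ⊗[A] A'`.
-/

universe u

open CategoryTheory CategoryTheory.Limits TensorProduct IsLocalRing

set_option linter.style.haveILetI false

namespace Groth.L27.EtSite

/-- Localizations are ind-etale. -/
theorem isIndEtale_localization (A : Type u) [CommRing A] (M : Submonoid A) (L : Type u) [CommRing L]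
    [Algebra A L] [IsLocalization M L] : EtPBC.IsIndEtale A L := by
  classical
  refine (Groth.L27.IndEtale.isIndEtale_iff_exists_factor A L).2 fun P _ _ _ φ => ?_
  obtain ⟨n, π, hπ, t, ht⟩ := ‹Algebra.FinitePresentation A P›.out
  obtain ⟨s, hs⟩ := IsLocalization.exist_integer_multiples_of_finite M fun i => φ (π (MvPolynomial.X i))
  choose a ha using hs
  let As := Localization.Away (s : A)
  let ψ : As →ₐ[A] L := IsLocalization.liftAlgHom (M := Submonoid.powers (s : A)) (f := Algebra.ofId A L)
    (by rintro ⟨_, k, rfl⟩; simpa using (IsLocalization.map_units L s).pow k)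
  let θ : MvPolynomial (Fin n) A →ₐ[A] As :=
    MvPolynomial.aeval fun i => IsLocalization.mk' As (a i) (⟨s, Submonoid.mem_powers _⟩ : Submonoid.powers (s : A))
  have hθ : ψ.comp θ = φ.comp π := MvPolynomial.algHom_ext fun i => by
    rw [AlgHom.comp_apply, MvPolynomial.aeval_X, AlgHom.comp_apply]
    refine (IsLocalization.map_units L s).mul_left_cancel ?_
    have h1 := congrArg ψ (IsLocalization.mk'_spec' As (a i)
      (⟨s, Submonoid.mem_powers _⟩ : Submonoid.powers (s : A)))
    rw [map_mul, AlgHom.commutes, AlgHom.commutes] at h1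
    rw [h1, ha i, Algebra.smul_def]
  have hker : ∀ r ∈ t, ∃ u : M, algebraMap A As u * θ r = 0 := fun r hr => by
    obtain ⟨b, ⟨_, k, rfl⟩, hb⟩ := IsLocalization.exists_mk'_eq (Submonoid.powers (s : A)) (θ r)
    have h0 : ψ (θ r) = 0 := by
      have h2 : r ∈ RingHom.ker π.toRingHom := ht ▸ Ideal.subset_span hr
      rw [← AlgHom.comp_apply, hθ, AlgHom.comp_apply, show π r = 0 from h2, map_zero]
    have h3 : algebraMap A L b = 0 := by
      have := congrArg ψ (IsLocalization.mk'_spec As b (⟨(s : A) ^ k, k, rfl⟩ : Submonoid.powers (s : A)))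
      rw [hb, map_mul, h0, zero_mul, AlgHom.commutes] at this
      exact this.symm
    obtain ⟨u, hu⟩ := (IsLocalization.map_eq_zero_iff M L b).1 h3
    refine ⟨u, ?_⟩
    rw [← hb, IsLocalization.mul_mk'_eq_mk'_of_mul, hu, IsLocalization.mk'_zero]
  choose u hu using hker
  let w : M := s * ∏ r ∈ t.attach, u r.1 r.2
  let Aw := Localization.Away (w : A)
  have hdvd : ∀ x : A, x ∣ (w : A) → IsUnit (algebraMap A Aw x) := fun x hx =>
    isUnit_of_dvd_unit (map_dvd _ hx) (IsLocalization.Away.algebraMap_isUnit (w : A))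
  let χ : As →ₐ[A] Aw := IsLocalization.liftAlgHom (M := Submonoid.powers (s : A)) (f := Algebra.ofId A Aw)
    (by rintro ⟨_, k, rfl⟩; simpa using (hdvd s (Dvd.intro _ rfl)).pow k)
  let ω : Aw →ₐ[A] L := IsLocalization.liftAlgHom (M := Submonoid.powers (w : A)) (f := Algebra.ofId A L)
    (by rintro ⟨_, k, rfl⟩; simpa using (IsLocalization.map_units L w).pow k)
  have hle : RingHom.ker π.toRingHom ≤ RingHom.ker (χ.comp θ).toRingHom := ht ▸ Ideal.span_le.mpr fun r hr => by
    have h := congrArg χ (hu r hr)
    rw [map_mul, AlgHom.commutes, map_zero] at h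
    refine ((hdvd _ ?_).mul_right_eq_zero).1 h
    refine dvd_mul_of_dvd_right ?_ _
    rw [Submonoid.coe_finsetProd]
    exact Finset.dvd_prod_of_mem (fun r : {r // r ∈ t} => (u r.1 r.2 : A)) (Finset.mem_attach t ⟨r, hr⟩)
  let α : P →ₐ[A] Aw := (Ideal.Quotient.liftₐ _ (χ.comp θ) fun x hx => hle hx).comp
    (Ideal.quotientKerAlgEquivOfSurjective hπ).symm.toAlgHom
  have hα : ∀ x, α (π x) = χ (θ x) := fun x => by
    have h1 : (Ideal.quotientKerAlgEquivOfSurjective hπ).symm (π x) = Ideal.Quotient.mk _ x :=
      (Ideal.quotientKerAlgEquivOfSurjective hπ).symm_apply_eq.2 rfl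
    show Ideal.Quotient.liftₐ _ (χ.comp θ) (fun x hx => hle hx) ((Ideal.quotientKerAlgEquivOfSurjective hπ).symm (π x)) = _
    rw [h1]
    rfl
  refine ⟨Aw, inferInstance, inferInstance, α, ω, Algebra.Etale.of_isLocalizationAway (w : A), ?_⟩
  ext p
  obtain ⟨x, rfl⟩ := hπ p
  rw [AlgHom.comp_apply, hα, ← AlgHom.comp_apply φ π, ← hθ, AlgHom.comp_apply]
  exact DFunLike.congr_fun (IsLocalization.algHom_ext (Submonoid.powers (s : A))
    (f := ω.comp χ) (g := ψ) (Algebra.ext_id _ _ _)) (θ x)

/-- Faithfully flat etale algebras over a strictly henselian local ring have retractions. -/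
theorem exists_retraction_local (D E : Type u) [CommRing D] [HenselianLocalRing D]
    [IsSepClosed (ResidueField D)] [CommRing E] [Algebra D E] [Algebra.Etale D E]
    [Module.FaithfullyFlat D E] : Nonempty (E →ₐ[D] D) := by
  let F := ResidueField D ⊗[D] E
  have : Nontrivial F := Module.FaithfullyFlat.rTensor_nontrivial (R := D) (M := E) (ResidueField D)
  obtain ⟨n, hn⟩ := Ideal.exists_maximal F
  letI : Field (F ⧸ n) := Ideal.Quotient.field n
  let p : F →ₐ[ResidueField D] F ⧸ n := Ideal.Quotient.mkₐ (ResidueField D) n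
  have hsurj : Function.Surjective (algebraMap (ResidueField D) (F ⧸ n)) := fun z => by
    obtain ⟨x, rfl⟩ := Ideal.Quotient.mk_surjective z
    exact Groth.L05.exists_point_of_isSepClosed p x
  let e : ResidueField D ≃ₐ[ResidueField D] F ⧸ n :=
    AlgEquiv.ofBijective (Algebra.ofId _ _) ⟨(algebraMap (ResidueField D) (F ⧸ n)).injective, hsurj⟩
  let σ : E →ₐ[D] ResidueField D :=
    ((e.symm.toAlgHom.comp p).restrictScalars D).comp Algebra.TensorProduct.includeRight
  obtain ⟨f, -, -⟩ := Groth.L05.existsUnique_algHom_lift_etale (maximalIdeal D) (S := E) σ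
  exact ⟨f⟩

/-- Faithfully flat etale algebras over a finite algebra over a strictly henselian local ring have
retractions. -/
theorem exists_retraction_finite (S D E : Type u) [CommRing S] [HenselianLocalRing S]
    [IsSepClosed (ResidueField S)] [CommRing D] [Algebra S D] [Module.Finite S D]
    [CommRing E] [Algebra D E] [Algebra.Etale D E] [Module.FaithfullyFlat D E] :
    Nonempty (E →ₐ[D] D) := by
  classical
  obtain ⟨ι, _, e, he, hloc⟩ := Groth.L05.exists_idem_local_of_finite (A := S) D
  have key : ∀ i, Nonempty (E →ₐ[D] D ⧸ Ideal.span ({1 - e i} : Set D)) := fun i => by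
    let Di := D ⧸ Ideal.span ({1 - e i} : Set D)
    haveI := hloc i
    haveI : Module.Finite S Di := Module.Finite.of_surjective (Ideal.Quotient.mkₐ S _).toLinearMap
      Ideal.Quotient.mk_surjective
    haveI : HenselianLocalRing Di := Groth.L05.henselianLocalRing_of_finite (A := S) Di
    haveI : IsLocalHom (algebraMap S Di) := ((IsLocalRing.local_hom_TFAE _).out 0 4).mpr (by
      have : ((maximalIdeal Di).comap (algebraMap S Di)).IsMaximal :=
        Ideal.isMaximal_comap_of_isIntegral_of_isMaximal _
      exact IsLocalRing.eq_maximalIdeal this)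
    haveI : IsScalarTower S (ResidueField S) (ResidueField Di) := IsScalarTower.of_algebraMap_eq fun s => rfl
    haveI : Module.Finite S (ResidueField Di) :=
      Module.Finite.of_surjective (IsScalarTower.toAlgHom S Di (ResidueField Di)).toLinearMap
        residue_surjective
    haveI : Module.Finite (ResidueField S) (ResidueField Di) :=
      Module.Finite.of_restrictScalars_finite S _ _
    haveI : Algebra.IsAlgebraic (ResidueField S) (ResidueField Di) := Algebra.IsAlgebraic.of_finite _ _
    haveI : IsSepClosed (ResidueField Di) :=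
      Algebra.IsAlgebraic.isSepClosed (F := ResidueField S) (E := ResidueField Di)
    obtain ⟨f⟩ := exists_retraction_local Di (Di ⊗[D] E)
    exact ⟨(f.restrictScalars D).comp Algebra.TensorProduct.includeRight⟩
  let π : D →ₐ[D] ∀ i, D ⧸ Ideal.span ({1 - e i} : Set D) :=
    AlgHom.pi fun i => Ideal.Quotient.mkₐ D _
  let eπ := AlgEquiv.ofBijective π he.bijective_pi
  exact ⟨eπ.symm.toAlgHom.comp (AlgHom.pi fun i => (key i).some)⟩

attribute [local instance] Algebra.TensorProduct.rightAlgebra

/-- An etale cover of a finite algebra splits after an etale extension of the base. -/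
theorem exists_etale_splitting_finite (A B C : Type u) [CommRing A] [CommRing B] [Algebra A B]
    [Module.Finite A B] [CommRing C] [Algebra B C] [Algebra.Etale B C] [Module.FaithfullyFlat B C]
    (p : PrimeSpectrum A) :
    ∃ (A' : Type u) (_ : CommRing A') (_ : Algebra A A') (_ : Algebra.Etale A A')
      (q : PrimeSpectrum A'), PrimeSpectrum.comap (algebraMap A A') q = p ∧
      Nonempty (C →ₐ[B] B ⊗[A] A') := by
  let R := Localization.AtPrime p.asIdeal
  obtain ⟨S, _, _, _, _, hS⟩ := Groth.L05.Henselization.exists_isStrictHenselization R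
  haveI := hS.henselian
  haveI : IsSepClosed (ResidueField S) := hS.isSepClosure.sep_closed
  letI : Algebra A S := ((algebraMap R S).comp (algebraMap A R)).toAlgebra
  haveI : IsScalarTower A R S := IsScalarTower.of_algebraMap_eq' rfl
  have hind : EtPBC.IsIndEtale A S :=
    Groth.L27.IndEtale.trans A R S (isIndEtale_localization A p.asIdeal.primeCompl R)
      (Groth.L05.Henselization.isIndEtale_of_isStrictHenselization R S)
  obtain ⟨J, _, _, D, c, hc, hD, ⟨e⟩⟩ := hind
  let F : Under (CommRingCat.of A) ⥤ Under (CommRingCat.of B) :=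
    CommRingCat.tensorProd (CommRingCat.of A) (CommRingCat.of B)
  haveI : PreservesColimitsOfShape J F := by
    haveI : PreservesColimitsOfShape J
        (Under.pushout (CommRingCat.ofHom (algebraMap (CommRingCat.of A) (CommRingCat.of B)))) :=
      (Under.mapPushoutAdj _).leftAdjoint_preservesColimits.preservesColimitsOfShape
    exact preservesColimitsOfShape_of_natIso (CommRingCat.tensorProdIsoPushout _ _).symm
  let c' := (Under.forget (CommRingCat.of B)).mapCocone (F.mapCocone c)
  have hc' : IsColimit c' := isColimitOfPreserves _ (isColimitOfPreserves F hc)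
  haveI : Module.Finite S (B ⊗[A] S) :=
    Module.Finite.equiv (Algebra.TensorProduct.commRight A S B).toLinearEquiv
  obtain ⟨f⟩ := exists_retraction_finite S (B ⊗[A] S) ((B ⊗[A] S) ⊗[B] C)
  let g : C →ₐ[B] B ⊗[A] S := (f.restrictScalars B).comp Algebra.TensorProduct.includeRight
  let g' : CommRingCat.of C ⟶ c'.pt := CommRingCat.ofHom g.toRingHom ≫ (F.map e.inv).right
  obtain ⟨j, qj, hq₁, -⟩ := MorphismProperty.exists_hom_of_isFinitelyPresentable hc'
    (CommRingCat.isFinitelyPresentable_hom (CommRingCat.ofHom (algebraMap B C))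
      (RingHom.finitePresentation_algebraMap.mpr inferInstance))
    { app := fun j => (F.obj (D.obj j)).hom
      naturality := fun i j h => by
        simp only [Functor.const_obj_obj, Functor.const_obj_map]
        exact (Under.w (F.map (D.map h))).symm }
    g' (fun j => by
      refine (Under.w (F.map (c.ι.app j))).trans ?_
      refine ((congrArg (· ≫ (F.map e.inv).right) ?_).trans (Category.assoc _ _ _)) |> (Under.w (F.map e.inv)).symm.trans
      exact CommRingCat.hom_ext (RingHom.ext fun b => (g.commutes b).symm))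
  letI : Algebra A (D.obj j).right := (D.obj j).hom.hom.toAlgebra
  haveI : Algebra.Etale A (D.obj j).right := hD j
  let φ : (D.obj j).right →+* S := (c.ι.app j ≫ e.hom).right.hom
  refine ⟨(D.obj j).right, inferInstance, inferInstance, inferInstance,
    PrimeSpectrum.comap φ (IsLocalRing.closedPoint S), ?_, ?_⟩
  · rw [← PrimeSpectrum.comap_comp_apply]
    have e1 : φ.comp (algebraMap A (D.obj j).right) = (algebraMap R S).comp (algebraMap A R) :=
      RingHom.ext fun a => congr($(Under.w (c.ι.app j ≫ e.hom)).hom a)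
    rw [e1, PrimeSpectrum.comap_comp_apply, IsLocalRing.comap_closedPoint]
    exact PrimeSpectrum.ext (Localization.AtPrime.under_maximalIdeal)
  · exact ⟨{ toRingHom := qj.hom, commutes' := fun b => congr($(hq₁).hom b) }⟩

/-- An etale cover of an integral algebra splits after an etale extension of the base. -/
theorem exists_etale_splitting (A B C : Type u) [CommRing A] [CommRing B] [Algebra A B]
    [Algebra.IsIntegral A B] [CommRing C] [Algebra B C] [Algebra.Etale B C] [Module.FaithfullyFlat B C]
    (p : PrimeSpectrum A) :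
    ∃ (A' : Type u) (_ : CommRing A') (_ : Algebra A A') (_ : Algebra.Etale A A')
      (q : PrimeSpectrum A'), PrimeSpectrum.comap (algebraMap A A') q = p ∧
      Nonempty (C →ₐ[B] B ⊗[A] A') := by
  letI : Algebra A C := ((algebraMap B C).comp (algebraMap A B)).toAlgebra
  haveI : IsScalarTower A B C := IsScalarTower.of_algebraMap_eq' rfl
  obtain ⟨B₀, C₀, _, _, hB₀, hC₀, ⟨e⟩⟩ := Algebra.Etale.exists_subalgebra_fg (R := A) (A := B) (B := C)
  haveI : Module.Finite A B₀ := by
    haveI : Algebra.FiniteType A B₀ := B₀.fg_iff_finiteType.mp hB₀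
    haveI : Algebra.IsIntegral A B₀ := Algebra.IsIntegral.of_injective B₀.val Subtype.val_injective
    exact Algebra.IsIntegral.finite
  haveI : Algebra.IsIntegral B₀ B := ⟨fun x => (Algebra.IsIntegral.isIntegral (R := A) x).tower_top⟩
  haveI : Module.FaithfullyFlat B₀ C₀ := .of_comap_surjective fun q => by
    obtain ⟨Q, -, hQ, hQ'⟩ := Ideal.exists_ideal_over_prime_of_isIntegral (S := B) q.asIdeal ⊥ (by
      rw [← RingHom.ker_eq_comap_bot, (RingHom.injective_iff_ker_eq_bot _).1 Subtype.val_injective]
      exact bot_le)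
    obtain ⟨QC, hQC⟩ := PrimeSpectrum.comap_surjective_of_faithfullyFlat (B := C) (⟨Q, hQ⟩ : PrimeSpectrum B)
    let m : C₀ →+* C := e.symm.toRingEquiv.toRingHom.comp Algebra.TensorProduct.includeRight.toRingHom
    refine ⟨PrimeSpectrum.comap m QC, ?_⟩
    have hm : m.comp (algebraMap B₀ C₀) = (algebraMap B C).comp (algebraMap B₀ B) := RingHom.ext fun x => by
      show e.symm (Algebra.TensorProduct.includeRight (algebraMap B₀ C₀ x)) = algebraMap B C (algebraMap B₀ B x)
      rw [AlgHom.commutes]
      exact e.symm.commutes (algebraMap B₀ B x)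
    rw [← PrimeSpectrum.comap_comp_apply, hm, PrimeSpectrum.comap_comp_apply, hQC]
    exact PrimeSpectrum.ext hQ'
  obtain ⟨A', i1, i2, i3, q, hq, ⟨σ⟩⟩ := exists_etale_splitting_finite A B₀ C₀ p
  let β : B₀ ⊗[A] A' →ₐ[B₀] B ⊗[A] A' :=
    Algebra.TensorProduct.map (IsScalarTower.toAlgHom B₀ B₀ B) (AlgHom.id A A')
  let τ : B ⊗[B₀] C₀ →ₐ[B] B ⊗[A] A' :=
    Algebra.TensorProduct.lift (Algebra.ofId B _) (β.comp σ) fun _ _ => Commute.all _ _
  exact ⟨A', i1, i2, i3, q, hq, ⟨τ.comp e.toAlgHom⟩⟩

end Groth.L27.EtSite
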