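import Groth.Prelude.Def_EtBase
import Mathlib.CategoryTheory.Sites.EpiMono
import Mathlib.CategoryTheory.Sites.LocallyBijective
import Mathlib.Algebra.Category.Grp.AB
import Mathlib.Algebra.Category.Grp.FilteredColimits

/-! # Covering sieves and geometric points of the small etale site -/

universe u v w

open CategoryTheory CategoryTheory.Limits AlgebraicGeometry Opposite

set_option backward.isDefEq.respectTransparency.types false

namespace Groth.L27.EtSite

instance : PreservesFilteredColimitsOfSize.{u, u} (forget AddCommGrpCat.{u + 1}) :=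
  preservesFilteredColimitsOfSize_of_univLE.{u + 1, u + 1} _

instance : AB5OfSize.{u, u} AddCommGrpCat.{u + 1} :=
  AB5OfSize_shrink.{u, u, u + 1, u + 1} _

instance : PreservesFilteredColimitsOfSize.{u, u} (forget (Type (u + 1))) :=
  preservesFilteredColimitsOfSize_of_univLE.{u + 1, u + 1} _

instance : AB5OfSize.{u, u} (Type (u + 1)) :=
  AB5OfSize_shrink.{u, u, u + 1, u + 1} _

instance {X : Scheme.{u}} {Ω : Type u} [Field Ω] [IsSepClosed Ω] (ξ : Spec (CommRingCat.of Ω) ⟶ X) :
    PreservesFiniteLimits (EtCoh.stalk ξ) := inferInstance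

variable {X : Scheme.{u}}

/-- A sieve of the small etale site covers iff its underlying images cover. -/
theorem mem_topology_iff {U : X.Etale} (S : Sieve U) :
    S ∈ X.smallEtaleTopology U ↔ ∀ x : U.left, ∃ (V : X.Etale) (g : V ⟶ U) (v : V.left),
      S g ∧ g.left.base v = x := by
  have eX : X.smallEtaleTopology = (X.smallPretopology (P := EtCoh.etaleMP) (Q := EtCoh.etaleMP)).toGrothendieck :=
    Scheme.smallGrothendieckTopology_eq_toGrothendieck_smallPretopology X le_rfl
  rw [eX]
  refine (Scheme.mem_toGrothendieck_smallPretopology U S).trans ?_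
  constructor
  · exact fun h x => let ⟨V, g, v, h1, _, h2⟩ := h x; ⟨V, g, v, h1, h2⟩
  · intro h x
    obtain ⟨V, g, v, h1, h2⟩ := h x
    refine ⟨V, g, v, h1, ?_, h2⟩
    have : AlgebraicGeometry.Etale U.hom := U.prop
    have : AlgebraicGeometry.Etale V.hom := V.prop
    exact MorphismProperty.of_postcomp (W := EtCoh.etaleMP) (W' := EtCoh.etaleMP) g.left U.hom U.prop
      ((Over.w g.hom).symm ▸ V.prop)

/-- Morphisms in the small etale site are etale. -/
instance etale_left {U V : X.Etale} (g : V ⟶ U) : AlgebraicGeometry.Etale g.left :=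
  MorphismProperty.of_postcomp (W := EtCoh.etaleMP) (W' := EtCoh.etaleMP) g.left U.hom U.prop
    ((Over.w g.hom).symm ▸ V.prop)

variable {Ω : Type u} [Field Ω] [IsSepClosed Ω]

/-- Every point of an etale scheme lifts to an element of the fibre at any geometric point below it. -/
theorem exists_fiber (ξ : Spec (CommRingCat.of Ω) ⟶ X) (U : X.Etale) (x : U.left)
    (hx : U.hom.base x = ξ.base default) :
    ∃ y : (Scheme.pointSmallEtale ξ).fiber.obj U, y.left.base (default : Spec (CommRingCat.of Ω)) = x := by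
  obtain ⟨y, hy⟩ := Scheme.pointSmallEtaleFiberObjToPreimage_surjective ξ rfl U ⟨x, hx⟩
  exact ⟨y, congrArg Subtype.val hy⟩

theorem fiber_apply {ξ : Spec (CommRingCat.of Ω) ⟶ X} {U : X.Etale}
    (y : (Scheme.pointSmallEtale ξ).fiber.obj U) :
    U.hom.base (y.left.base (default : Spec (CommRingCat.of Ω))) = ξ.base default := by
  exact (Scheme.Hom.comp_apply _ _ _).symm.trans
    (congrArg (fun m : Spec (CommRingCat.of Ω) ⟶ X => m.base (default : Spec (CommRingCat.of Ω))) (Over.w y))

theorem fiber_map_left {ξ : Spec (CommRingCat.of Ω) ⟶ X} {U V : X.Etale} (g : V ⟶ U)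
    (y : (Scheme.pointSmallEtale ξ).fiber.obj V) :
    ((Scheme.pointSmallEtale ξ).fiber.map g y).left = y.left ≫ g.left := rfl

/-- A geometric point over a given point. -/
theorem exists_geometric_point (x : X) :
    ∃ (Ω : Type u) (_ : Field Ω) (_ : IsSepClosed Ω) (ξ : Spec (CommRingCat.of Ω) ⟶ X),
      ξ.base default = x := by
  refine ⟨SeparableClosure (X.residueField x), inferInstance, inferInstance,
    (Scheme.SpecToEquivOfField (SeparableClosure (X.residueField x)) X).symm
      ⟨x, CommRingCat.ofHom (algebraMap (X.residueField x) _)⟩, ?_⟩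
  simp [Scheme.SpecToEquivOfField]

section Presheaf

variable {A : Type w} [Category.{v} A] {FA : A → A → Type*} {CA : A → Type (u + 1)}
  [∀ (P Q : A), FunLike (FA P Q) (CA P) (CA Q)] [ConcreteCategory.{u + 1} A FA]
  [HasColimitsOfSize.{u, u} A] [PreservesFilteredColimitsOfSize.{u, u} (forget A)]
  {P Q : X.Etaleᵒᵖ ⥤ A} (f : P ⟶ Q)

theorem isLocallySurjective_of_some_stalks
    (h : ∀ x : X, ∃ (Ω : Type u) (_ : Field Ω) (_ : IsSepClosed Ω) (ξ : Spec (CommRingCat.of Ω) ⟶ X),
      ξ.base default = x ∧ Function.Surjective ((Scheme.pointSmallEtale ξ).presheafFiber.map f)) :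
    Presheaf.IsLocallySurjective X.smallEtaleTopology f := by
  refine ⟨fun {U} s => (mem_topology_iff _).2 fun x => ?_⟩
  obtain ⟨Ω, _, _, ξ, hξ, hs⟩ := h (U.hom.base x)
  obtain ⟨y, hy⟩ := exists_fiber ξ U x hξ.symm
  obtain ⟨t', ht'⟩ := hs ((Scheme.pointSmallEtale ξ).toPresheafFiber U y Q s)
  obtain ⟨V, z, t, rfl⟩ := (Scheme.pointSmallEtale ξ).toPresheafFiber_jointly_surjective t'
  obtain ⟨⟨W, w⟩, ⟨a, ha⟩, ⟨b, hb⟩, -⟩ := IsCofilteredOrEmpty.cone_objs
    ((Scheme.pointSmallEtale ξ).fiber.elementsMk V z) ((Scheme.pointSmallEtale ξ).fiber.elementsMk U y)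
  have e : (Scheme.pointSmallEtale ξ).toPresheafFiber W w Q (f.app _ (P.map a.op t)) =
      (Scheme.pointSmallEtale ξ).toPresheafFiber W w Q (Q.map b.op s) := by
    rw [← GrothendieckTopology.Point.toPresheafFiber_naturality_apply,
      GrothendieckTopology.Point.toPresheafFiber_w_apply,
      GrothendieckTopology.Point.toPresheafFiber_w_apply]
    rw [show (Scheme.pointSmallEtale ξ).fiber.map a w = z from ha,
      show (Scheme.pointSmallEtale ξ).fiber.map b w = y from hb]
    exact ht'
  obtain ⟨W', c, w', hw', hc⟩ := ((Scheme.pointSmallEtale ξ).toPresheafFiber_eq_iff' _ _ _ _).1 e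
  refine ⟨W', c ≫ b, w'.left.base (default : Spec (CommRingCat.of Ω)), ⟨P.map c.op (P.map a.op t), ?_⟩, ?_⟩
  · rw [NatTrans.naturality_apply, hc, op_comp, Q.map_comp, ConcreteCategory.comp_apply]
  · rw [← hy]
    subst hw'
    have hb' : (Scheme.pointSmallEtale ξ).fiber.map b ((Scheme.pointSmallEtale ξ).fiber.map c w') = y := hb
    rw [← hb']
    rfl

theorem isLocallyInjective_of_some_stalks
    (h : ∀ x : X, ∃ (Ω : Type u) (_ : Field Ω) (_ : IsSepClosed Ω) (ξ : Spec (CommRingCat.of Ω) ⟶ X),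
      ξ.base default = x ∧ Function.Injective ((Scheme.pointSmallEtale ξ).presheafFiber.map f)) :
    Presheaf.IsLocallyInjective X.smallEtaleTopology f := by
  refine ⟨fun {U} s t hst => (mem_topology_iff _).2 fun x => ?_⟩
  obtain ⟨Ω, _, _, ξ, hξ, hi⟩ := h (U.unop.hom.base x)
  obtain ⟨y, hy⟩ := exists_fiber ξ U.unop x hξ.symm
  have e := @hi ((Scheme.pointSmallEtale ξ).toPresheafFiber U.unop y P s)
    ((Scheme.pointSmallEtale ξ).toPresheafFiber U.unop y P t) (by
      rw [GrothendieckTopology.Point.toPresheafFiber_naturality_apply,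
        GrothendieckTopology.Point.toPresheafFiber_naturality_apply, hst])
  obtain ⟨W, c, w, hw, hc⟩ := ((Scheme.pointSmallEtale ξ).toPresheafFiber_eq_iff' _ _ _ _).1 e
  refine ⟨W, c, w.left.base (default : Spec (CommRingCat.of Ω)), hc, ?_⟩
  rw [← hy, ← hw]
  rfl

theorem isLocallySurjective_of_stalks
    (h : ∀ (Ω : Type u) [Field Ω] [IsSepClosed Ω] (ξ : Spec (CommRingCat.of Ω) ⟶ X),
      Function.Surjective ((Scheme.pointSmallEtale ξ).presheafFiber.map f)) :
    Presheaf.IsLocallySurjective X.smallEtaleTopology f :=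
  isLocallySurjective_of_some_stalks f fun x => by
    obtain ⟨Ω, _, _, ξ, hξ⟩ := exists_geometric_point x
    exact ⟨Ω, inferInstance, inferInstance, ξ, hξ, h Ω ξ⟩

theorem isLocallyInjective_of_stalks
    (h : ∀ (Ω : Type u) [Field Ω] [IsSepClosed Ω] (ξ : Spec (CommRingCat.of Ω) ⟶ X),
      Function.Injective ((Scheme.pointSmallEtale ξ).presheafFiber.map f)) :
    Presheaf.IsLocallyInjective X.smallEtaleTopology f :=
  isLocallyInjective_of_some_stalks f fun x => by
    obtain ⟨Ω, _, _, ξ, hξ⟩ := exists_geometric_point x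
    exact ⟨Ω, inferInstance, inferInstance, ξ, hξ, @h Ω _ _ ξ⟩

end Presheaf

section Ab

variable {F G : EtCoh.Ab X} (φ : F ⟶ G)

theorem mono_iff_stalks : Mono φ ↔ ∀ (Ω : Type u) [Field Ω] [IsSepClosed Ω]
    (ξ : Spec (CommRingCat.of Ω) ⟶ X), Function.Injective ((EtCoh.stalk ξ).map φ) := by
  constructor
  · intro h Ω _ _ ξ
    exact (AddCommGrpCat.mono_iff_injective _).1 ((EtCoh.stalk ξ).map_mono φ)
  · intro h
    have : Sheaf.IsLocallyInjective φ := isLocallyInjective_of_stalks φ.hom h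
    exact Sheaf.mono_of_isLocallyInjective φ

theorem epi_iff_stalks : Epi φ ↔ ∀ (Ω : Type u) [Field Ω] [IsSepClosed Ω]
    (ξ : Spec (CommRingCat.of Ω) ⟶ X), Function.Surjective ((EtCoh.stalk ξ).map φ) := by
  constructor
  · intro h Ω _ _ ξ
    exact (AddCommGrpCat.epi_iff_surjective _).1 ((EtCoh.stalk ξ).map_epi φ)
  · intro h
    exact (Sheaf.isLocallySurjective_iff_epi' (φ := φ)).1 (isLocallySurjective_of_stalks φ.hom h)

theorem isZero_iff_stalks (F : EtCoh.Ab X) : IsZero F ↔ ∀ (Ω : Type u) [Field Ω] [IsSepClosed Ω]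
    (ξ : Spec (CommRingCat.of Ω) ⟶ X), IsZero ((EtCoh.stalk ξ).obj F) := by
  constructor
  · intro h Ω _ _ ξ
    exact (EtCoh.stalk ξ).map_isZero h
  · intro h
    have : Mono (0 : F ⟶ F) := (mono_iff_stalks _).2 fun Ω _ _ ξ x y _ => by
      have := AddCommGrpCat.subsingleton_of_isZero (@h Ω _ _ ξ)
      exact Subsingleton.elim x y
    exact (IsZero.iff_id_eq_zero F).2 (by rw [← cancel_mono (0 : F ⟶ F)]; simp)

theorem exact_iff_stalks (S : ShortComplex (EtCoh.Ab X)) : S.Exact ↔ ∀ (Ω : Type u) [Field Ω]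
    [IsSepClosed Ω] (ξ : Spec (CommRingCat.of Ω) ⟶ X), (S.map (EtCoh.stalk ξ)).Exact := by
  constructor
  · intro h Ω _ _ ξ
    exact h.map _
  · intro h
    rw [ShortComplex.exact_iff_isZero_homology, isZero_iff_stalks]
    intro Ω _ _ ξ
    exact ((ShortComplex.exact_iff_isZero_homology _).1 (@h Ω _ _ ξ)).of_iso (S.mapHomologyIso _).symm

end Ab

section Types

variable {F G : Sheaf X.smallEtaleTopology (Type (u + 1))} (φ : F ⟶ G)

theorem mono_iff_stalks_type : Mono φ ↔ ∀ (Ω : Type u) [Field Ω] [IsSepClosed Ω]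
    (ξ : Spec (CommRingCat.of Ω) ⟶ X), Function.Injective ((Scheme.pointSmallEtale ξ).sheafFiber.map φ) := by
  constructor
  · intro h Ω _ _ ξ
    exact (CategoryTheory.mono_iff_injective _).1 ((Scheme.pointSmallEtale ξ).sheafFiber.map_mono φ)
  · intro h
    have : Sheaf.IsLocallyInjective φ := isLocallyInjective_of_stalks φ.hom h
    exact Sheaf.mono_of_isLocallyInjective φ

theorem epi_iff_stalks_type : Epi φ ↔ ∀ (Ω : Type u) [Field Ω] [IsSepClosed Ω]
    (ξ : Spec (CommRingCat.of Ω) ⟶ X), Function.Surjective ((Scheme.pointSmallEtale ξ).sheafFiber.map φ) := by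
  constructor
  · intro h Ω _ _ ξ
    have : Sheaf.IsLocallySurjective φ := (Sheaf.isLocallySurjective_iff_epi' (φ := φ)).2 h
    exact (Scheme.pointSmallEtale ξ).toPresheafFiber_map_surjective φ.hom
  · intro h
    exact (Sheaf.isLocallySurjective_iff_epi' (φ := φ)).1 (isLocallySurjective_of_stalks φ.hom h)

end Types

end Groth.L27.EtSite
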