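import Groth.Agent.L27.EtSite.Points

/-! # Common refinements and local equality on the small etale site -/

universe u v w

open CategoryTheory CategoryTheory.Limits AlgebraicGeometry Opposite

set_option backward.isDefEq.respectTransparency.types false

namespace Groth.L27.EtSite

variable {X : Scheme.{u}}

/-- Two points with the same image in `U` come from a point of a common etale refinement. -/
theorem exists_common {U V V' : X.Etale} (φ : V ⟶ U) (φ' : V' ⟶ U) (v : V.left) (v' : V'.left)
    (h : φ.left.base v = φ'.left.base v') :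
    ∃ (W : X.Etale) (a : W ⟶ V) (b : W ⟶ V') (w : W.left),
      a.left.base w = v ∧ b.left.base w = v' ∧ a ≫ φ = b ≫ φ' := by
  have : AlgebraicGeometry.Etale V.hom := V.prop
  obtain ⟨z, hz1, hz2⟩ := Scheme.Pullback.exists_preimage_pullback
    (f := φ.left) (g := φ'.left) v v' h
  have e : pullback.snd φ.left φ'.left ≫ V'.hom = pullback.fst φ.left φ'.left ≫ V.hom := by
    have e1 : φ.left ≫ U.hom = V.hom := Over.w φ.hom
    have e2 : φ'.left ≫ U.hom = V'.hom := Over.w φ'.hom
    rw [← e1, ← e2, pullback.condition_assoc]
  exact ⟨Scheme.Etale.mk (pullback.fst φ.left φ'.left ≫ V.hom),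
    MorphismProperty.Over.homMk (pullback.fst φ.left φ'.left) rfl,
    MorphismProperty.Over.homMk (pullback.snd φ.left φ'.left) e, z, hz1, hz2,
    MorphismProperty.Over.Hom.ext pullback.condition⟩

variable {A : Type w} [Category.{v} A] {FA : A → A → Type*} {CA : A → Type*}
  [∀ (P Q : A), FunLike (FA P Q) (CA P) (CA Q)] [ConcreteCategory A FA]

/-- Sections of a sheaf which agree near every point agree. -/
theorem ext_of_locally (F : Sheaf X.smallEtaleTopology A)
    [X.smallEtaleTopology.HasSheafCompose (forget A)] {U : X.Etale} {s t : ToType (F.obj.obj (op U))}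
    (h : ∀ x : U.left, ∃ (V : X.Etale) (g : V ⟶ U) (v : V.left),
      g.left.base v = x ∧ F.obj.map g.op s = F.obj.map g.op t) : s = t := by
  let S : Sieve U :=
    { arrows := fun V g => F.obj.map g.op s = F.obj.map g.op t
      downward_closed := fun {Y Z g} hg k => by
        change F.obj.map (k ≫ g).op s = F.obj.map (k ≫ g).op t
        rw [op_comp, F.obj.map_comp, ConcreteCategory.comp_apply, ConcreteCategory.comp_apply, hg] }
  refine Sheaf.isSeparated F U S ((mem_topology_iff S).2 fun x => ?_) s t fun V g hg => hg
  obtain ⟨V, g, v, hv, e⟩ := h x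
  exact ⟨V, g, v, e, hv⟩

end Groth.L27.EtSite
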