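import Groth.Agent.L27.EtSite.BaseChange
import Groth.Prelude.Def_EtBCD

/-! # The base change maps of the prelude along integral morphisms -/

universe u

open CategoryTheory CategoryTheory.Limits AlgebraicGeometry TopologicalSpace Opposite

set_option backward.isDefEq.respectTransparency.types false
set_option linter.style.haveILetI false

namespace Groth.L27.EtSite.BC

variable {X Y X' Y' : Scheme.{u}} {f : X ⟶ Y} {g : Y' ⟶ Y} {f' : X' ⟶ Y'} {g' : X' ⟶ X}

theorem swap_eq (w : g' ≫ f = f' ≫ g) (V : Y.Etale) :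
    (MorphismProperty.Over.pullbackComp (P := EtCoh.etaleMP) (Q := ⊤) f' g).inv.app V ≫
      (MorphismProperty.Over.pullbackCongr (P := EtCoh.etaleMP) (Q := ⊤) w).inv.app V ≫
        (MorphismProperty.Over.pullbackComp (P := EtCoh.etaleMP) (Q := ⊤) g' f).hom.app V = swap w V := by
  apply MorphismProperty.Over.Hom.ext
  set m := (MorphismProperty.Over.pullbackComp (P := EtCoh.etaleMP) (Q := ⊤) f' g).inv.app V ≫
      (MorphismProperty.Over.pullbackCongr (P := EtCoh.etaleMP) (Q := ⊤) w).inv.app V ≫
        (MorphismProperty.Over.pullbackComp (P := EtCoh.etaleMP) (Q := ⊤) g' f).hom.app V with hm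
  have hsnd : m.left ≫ pullback.snd (pullback.snd V.hom f) g' = pullback.snd (pullback.snd V.hom g) f' :=
    MorphismProperty.Over.w m
  have hfst : m.left ≫ pullback.fst (pullback.snd V.hom f) g' ≫ pullback.fst V.hom f =
      pullback.fst (pullback.snd V.hom g) f' ≫ pullback.fst V.hom g := by
    have e1 := MorphismProperty.Over.pullbackComp_left_fst_fst (P := EtCoh.etaleMP) (Q := ⊤) g' f V
    have e2 := MorphismProperty.Over.pullbackCongr_hom_app_left_fst (P := EtCoh.etaleMP) (Q := ⊤) w V
    have e3 := MorphismProperty.Over.pullbackComp_left_fst_fst (P := EtCoh.etaleMP) (Q := ⊤) f' g V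
    have i2 : ((MorphismProperty.Over.pullbackCongr (P := EtCoh.etaleMP) (Q := ⊤) w).inv.app V).left ≫
        pullback.fst V.hom (g' ≫ f) = pullback.fst V.hom (f' ≫ g) := by
      rw [← e2, ← Category.assoc, ← MorphismProperty.Comma.comp_left, Iso.inv_hom_id_app]
      exact Category.id_comp _
    have i3 : ((MorphismProperty.Over.pullbackComp (P := EtCoh.etaleMP) (Q := ⊤) f' g).inv.app V).left ≫
        pullback.fst V.hom (f' ≫ g) = pullback.fst (pullback.snd V.hom g) f' ≫ pullback.fst V.hom g := by
      rw [← e3, ← Category.assoc, ← MorphismProperty.Comma.comp_left, Iso.inv_hom_id_app]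
      exact Category.id_comp _
    rw [hm]
    exact (Category.assoc _ _ _).trans ((congrArg (_ ≫ ·) ((Category.assoc _ _ _).trans
      ((congrArg (_ ≫ ·) e1).trans i2))).trans i3)
  refine pullback.hom_ext ?_ ?_
  · refine Eq.trans ?_ (pullback.lift_fst _ _ _).symm
    refine pullback.hom_ext ?_ ?_
    · exact ((Category.assoc _ _ _).trans hfst).trans (pullback.lift_fst _ _ _).symm
    · refine ((Category.assoc _ _ _).trans ((congrArg (m.left ≫ ·) pullback.condition).trans
        ((Category.assoc _ _ _).symm.trans (congrArg (· ≫ g') hsnd)))).trans (pullback.lift_snd _ _ _).symm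
  · exact hsnd.trans (pullback.lift_snd _ _ _).symm

theorem map_map_map {C : Type*} [Category* C] {A : Type*} [Category* A] {FA : A → A → Type*} {CA : A → Type*}
    [∀ (P Q : A), FunLike (FA P Q) (CA P) (CA Q)] [ConcreteCategory A FA] (G : Cᵒᵖ ⥤ A) {W₁ W₂ W₃ W₄ : C}
    (a : W₁ ⟶ W₂) (b : W₂ ⟶ W₃) (c : W₃ ⟶ W₄) (x : ToType (G.obj (op W₄))) :
    G.map a.op (G.map b.op (G.map c.op x)) = G.map (a ≫ b ≫ c).op x := by
  simp [op_comp, Functor.map_comp, ConcreteCategory.comp_apply]

variable [IsIntegralHom f] (h : IsPullback g' f' f g)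

include h in
/-- Base change for abelian sheaves along integral morphisms. -/
theorem isIso_baseChange0 (F : EtCoh.Ab X) : IsIso (EtCoh.baseChange0 f g f' g' h.w F) := by
  have key : ∀ (Ω : Type u) [Field Ω] [IsSepClosed Ω] (η' : Spec (CommRingCat.of Ω) ⟶ Y'),
      Function.Bijective ((EtCoh.stalk η').map (EtCoh.baseChange0 f g f' g' h.w F)) := fun Ω _ _ η' => by
    refine bijective_stalk h η' F (EtCoh.baseChange0 f g f' g' h.w F) fun V s => ?_
    rw [EtCoh.baseChange0, Equiv.apply_symm_apply, psi, ← swap_eq h.w V]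
    exact map_map_map (P g' F).obj _ _ _ _
  haveI : Mono (EtCoh.baseChange0 f g f' g' h.w F) := (mono_iff_stalks _).2 fun Ω _ _ η' => (key Ω η').1
  haveI : Epi (EtCoh.baseChange0 f g f' g' h.w F) := (epi_iff_stalks _).2 fun Ω _ _ η' => (key Ω η').2
  exact isIso_of_mono_of_epi _

include h in
/-- Base change for sheaves of sets along integral morphisms. -/
theorem isIso_baseChange0Sh (F : EtDesc.Sh X) : IsIso (EtBC.baseChange0Sh f g f' g' h.w F) := by
  refine isIso_of_some_stalks _ fun y' => ?_
  obtain ⟨Ω, _, _, η', hη'⟩ := exists_geometric_point y'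
  refine ⟨Ω, inferInstance, inferInstance, η', hη', ?_⟩
  refine bijective_stalk h η' F (EtBC.baseChange0Sh f g f' g' h.w F) fun V s => ?_
  rw [EtBC.baseChange0Sh, Equiv.apply_symm_apply, psi, ← swap_eq h.w V]
  exact map_map_map (P g' F).obj _ _ _ _

end Groth.L27.EtSite.BC
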