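import Groth.Agent.L27.Hom.ExtAdj
import Groth.Agent.L27.EtSite.Pull
import Groth.Prelude.Def_EtCore
import Groth.Prelude.Def_EtLim
import Mathlib.CategoryTheory.Abelian.GrothendieckCategory.EnoughInjectives

/-! # Comparison of cohomology with a direct image -/

universe u

open CategoryTheory CategoryTheory.Limits AlgebraicGeometry CategoryTheory.Abelian

namespace Groth.L27.EtSite

variable {X Y : Scheme.{u}} (f : X ⟶ Y) [PreservesFiniteLimits (EtCoh.pull f)]

theorem HF_map_apply {F G : EtCoh.Ab X} (φ : F ⟶ G) (n : ℕ) (e : EtCoh.H X F n) :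
    (EtCoh.HF X n).map φ e = Ext.comp e (Ext.mk₀ φ) (add_zero n) := by
  unfold EtCoh.HF
  rfl

theorem Hpull_def (G : EtCoh.Ab Y) (n : ℕ) (e : EtCoh.H Y G n) :
    EtCore.Hpull f G n e = (Ext.mk₀ (EtCore.pullConst f ℤ).inv).comp
      (e.mapExactFunctor (EtCoh.pull f)) (zero_add n) := by
  unfold EtCore.Hpull
  rfl

theorem HofPush_def (F : EtCoh.Ab X) (n : ℕ) (e : EtCoh.H Y ((EtCoh.push f).obj F) n) :
    EtLim.HofPush f F n e = (EtCoh.HF X n).map ((EtCoh.pullPushAdj f).counit.app F)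
      (EtCore.Hpull f ((EtCoh.push f).obj F) n e) := rfl

theorem HofPush_apply (F : EtCoh.Ab X) (n : ℕ) (e : EtCoh.H Y ((EtCoh.push f).obj F) n) :
    EtLim.HofPush f F n e = (Ext.mk₀ (EtCore.pullConst f ℤ).inv).comp
      (ExtAdj.phi.{u + 1, u + 1} (EtCoh.pullPushAdj f) _ F n e) (zero_add n) := by
  rw [HofPush_def, HF_map_apply, Hpull_def, ExtAdj.phi]
  exact Ext.comp_assoc_of_third_deg_zero _ _ _ _

/-- `H^p(Y, f_* F) ≅ H^p(X, F)` when the higher direct images of `F` vanish. -/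
theorem bijective_HofPush (F : EtCoh.Ab X)
    (hR : ∀ q : ℕ, 0 < q → IsZero ((EtCoh.Rpush f q).obj F)) (p : ℕ) :
    Function.Bijective (EtLim.HofPush f F p) := by
  have : PreservesLimitsOfSize.{0, 0} (EtCoh.push f) :=
    (EtCoh.pullPushAdj f).rightAdjoint_preservesLimits
  have : PreservesFiniteLimits (EtCoh.push f) := PreservesLimitsOfSize.preservesFiniteLimits _
  have h1 := ExtAdj.bijective_phi.{u + 1, u + 1} (EtCoh.pullPushAdj f)
    (A := EtCoh.const Y ℤ) p F hR
  have h2 : Function.Bijective fun e : Ext.{u + 1} ((EtCoh.pull f).obj (EtCoh.const Y ℤ)) F p =>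
      (Ext.mk₀ (EtCore.pullConst f ℤ).inv).comp e (zero_add p) :=
    Function.bijective_iff_has_inverse.2
      ⟨fun e => (Ext.mk₀ (EtCore.pullConst f ℤ).hom).comp e (zero_add p), fun e => by
        simp only [Ext.mk₀_comp_mk₀_assoc, Iso.hom_inv_id, Ext.mk₀_id_comp], fun e => by
        simp only [Ext.mk₀_comp_mk₀_assoc, Iso.inv_hom_id, Ext.mk₀_id_comp]⟩
  exact (funext (HofPush_apply f F p) : (EtLim.HofPush f F p : _ → _) = _) ▸ h2.comp h1

theorem Hpull_apply (G : EtCoh.Ab Y) (n : ℕ) (e : EtCoh.H Y G n) :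
    EtCore.Hpull f G n e = EtLim.HofPush f ((EtCoh.pull f).obj G) n
      (Ext.comp e (Ext.mk₀ ((EtCoh.pullPushAdj f).unit.app G)) (add_zero n)) := by
  rw [HofPush_apply, ExtAdj.phi, Ext.mapExactFunctor_comp, Ext.mapExactFunctor_mk₀,
    Ext.comp_assoc_of_third_deg_zero, Ext.mk₀_comp_mk₀]
  erw [(EtCoh.pullPushAdj f).left_triangle_components G]
  rw [Ext.comp_mk₀_id]
  rfl

/-- Pullback on cohomology is bijective when the unit is invertible and the direct image is acyclic. -/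
theorem bijective_Hpull (G : EtCoh.Ab Y) [IsIso ((EtCoh.pullPushAdj f).unit.app G)]
    (hR : ∀ q : ℕ, 0 < q → IsZero ((EtCoh.Rpush f q).obj ((EtCoh.pull f).obj G))) (q : ℕ) :
    Function.Bijective (EtCore.Hpull f G q) := by
  have h2 : Function.Bijective fun e : EtCoh.H Y G q =>
      Ext.comp e (Ext.mk₀ ((EtCoh.pullPushAdj f).unit.app G)) (add_zero q) :=
    Function.bijective_iff_has_inverse.2
      ⟨fun e => Ext.comp e (Ext.mk₀ (inv ((EtCoh.pullPushAdj f).unit.app G))) (add_zero q), fun e => by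
        simp only [Ext.comp_assoc_of_third_deg_zero, Ext.mk₀_comp_mk₀, IsIso.hom_inv_id,
          Ext.comp_mk₀_id], fun e => by
        simp only [Ext.comp_assoc_of_third_deg_zero, Ext.mk₀_comp_mk₀, IsIso.inv_hom_id,
          Ext.comp_mk₀_id]⟩
  exact (funext (Hpull_apply f G q) : (EtCore.Hpull f G q : _ → _) = _) ▸
    (bijective_HofPush f _ hR q).comp h2

end Groth.L27.EtSite
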