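import Groth.Agent.L27.EtSite.Points
import Groth.Agent.L05.Hensel.Homs
import Mathlib.Algebra.Homology.DerivedCategory.Ext.EnoughProjectives
import Mathlib.CategoryTheory.Preadditive.Projective.Preserves
import Mathlib.CategoryTheory.Sites.ConstantSheaf

/-! # The small etale site of a strictly henselian local ring -/

universe u v w

open CategoryTheory CategoryTheory.Limits AlgebraicGeometry Opposite

set_option backward.isDefEq.respectTransparency.types false
set_option linter.style.haveILetI false

namespace Groth.L27.EtSite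

/-- The terminal object of the small etale site. -/
noncomputable def isTerminalTop (X : Scheme.{u}) : IsTerminal (EtCoh.top X) :=
  IsTerminal.ofUniqueHom
    (fun U => MorphismProperty.Over.homMk U.hom (Category.comp_id U.hom))
    (fun U m => by
      apply MorphismProperty.Over.Hom.ext
      exact (Category.comp_id m.left).symm.trans (Over.w m.hom))

variable (R : Type u) [CommRing R] [HenselianLocalRing R] [IsSepClosed (IsLocalRing.ResidueField R)]

/-- The closed geometric point. -/
noncomputable abbrev closedPt : Spec (CommRingCat.of (IsLocalRing.ResidueField R)) ⟶ Spec (CommRingCat.of R) :=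
  Spec.map (CommRingCat.ofHom (IsLocalRing.residue R))

/-- The tautological element of the fibre of the terminal object. -/
noncomputable abbrev topPt : (Scheme.pointSmallEtale (closedPt R)).fiber.obj (EtCoh.top (Spec (CommRingCat.of R))) :=
  Over.homMk (closedPt R) (Category.comp_id _)

/-- Etale schemes over a strictly henselian local scheme have sections through every point of the
closed geometric fibre. -/
theorem exists_section (U : (Spec (CommRingCat.of R)).Etale)
    (y : (Scheme.pointSmallEtale (closedPt R)).fiber.obj U) :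
    ∃ σ : EtCoh.top (Spec (CommRingCat.of R)) ⟶ U,
      (Scheme.pointSmallEtale (closedPt R)).fiber.map σ (topPt R) = y := by
  have : AlgebraicGeometry.Etale U.hom := U.prop
  obtain ⟨_, ⟨W, hW, rfl⟩, hxW, -⟩ := U.left.isBasis_affineOpens.exists_subset_of_mem_open
    (Set.mem_univ (y.left.base (default : Spec (CommRingCat.of (IsLocalRing.ResidueField R))))) isOpen_univ
  let j : Spec Γ(U.left, W) ⟶ U.left := hW.fromSpec
  have hy : Set.range y.left ⊆ Set.range j := by
    rintro _ ⟨a, rfl⟩
    show y.left a ∈ Set.range hW.fromSpec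
    obtain rfl : a = (default : Spec (CommRingCat.of (IsLocalRing.ResidueField R))) := Subsingleton.elim (α := Spec (CommRingCat.of (IsLocalRing.ResidueField R))) _ _
    exact hW.range_fromSpec.symm ▸ hxW
  obtain ⟨φ, hφ⟩ : ∃ φ : CommRingCat.of R ⟶ Γ(U.left, W), Spec.map φ = j ≫ U.hom :=
    Spec.map_surjective _
  obtain ⟨ψ, hψ⟩ : ∃ ψ : Γ(U.left, W) ⟶ CommRingCat.of (IsLocalRing.ResidueField R),
      Spec.map ψ = IsOpenImmersion.lift j y.left hy :=
    Spec.map_surjective _
  have het : φ.hom.Etale :=
    (HasRingHomProperty.Spec_iff (P := @AlgebraicGeometry.Etale)).1 (hφ ▸ inferInstance)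
  have hcomp : φ ≫ ψ = CommRingCat.ofHom (IsLocalRing.residue R) := by
    apply Spec.map_injective
    rw [Spec.map_comp, hψ, hφ, ← Category.assoc, IsOpenImmersion.lift_fac]
    exact Over.w y
  letI : Algebra R Γ(U.left, W) := φ.hom.toAlgebra
  haveI : Algebra.Etale R Γ(U.left, W) := het
  let ψ' : Γ(U.left, W) →ₐ[R] R ⧸ IsLocalRing.maximalIdeal R :=
    { toRingHom := ψ.hom
      commutes' := fun r => RingHom.congr_fun (congrArg CommRingCat.Hom.hom hcomp) r }
  obtain ⟨f, hf, -⟩ := Groth.L05.existsUnique_algHom_lift_etale (IsLocalRing.maximalIdeal R) ψ'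
  let f' : Γ(U.left, W) ⟶ CommRingCat.of R := CommRingCat.ofHom f.toRingHom
  have h1 : φ ≫ f' = 𝟙 _ := CommRingCat.hom_ext (RingHom.ext fun r => f.commutes r)
  have h2 : f' ≫ CommRingCat.ofHom (IsLocalRing.residue R) = ψ :=
    CommRingCat.hom_ext (RingHom.ext fun r => DFunLike.congr_fun hf r)
  refine ⟨MorphismProperty.Over.homMk (Spec.map f' ≫ j) ?_, ?_⟩
  · refine (Category.assoc _ _ _).trans ((congrArg (Spec.map f' ≫ ·) hφ.symm).trans ?_)
    exact (Spec.map_comp _ _).symm.trans ((congrArg Spec.map h1).trans (Spec.map_id _))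
  · apply Over.OverMorphism.ext
    show closedPt R ≫ (Spec.map f' ≫ j) = y.left
    rw [← Category.assoc, ← Spec.map_comp, h2, hψ, IsOpenImmersion.lift_fac]

section

variable {A : Type w} [Category.{v} A] {FA : A → A → Type*} {CA : A → Type (u + 1)}
  [∀ (P Q : A), FunLike (FA P Q) (CA P) (CA Q)] [ConcreteCategory.{u + 1} A FA]
  [HasColimitsOfSize.{u, u} A] [PreservesFilteredColimitsOfSize.{u, u} (forget A)]

/-- Global sections agree with the stalk at the closed geometric point. -/
theorem bijective_toPresheafFiber (P : (Spec (CommRingCat.of R)).Etaleᵒᵖ ⥤ A) :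
    Function.Bijective ((Scheme.pointSmallEtale (closedPt R)).toPresheafFiber
      (EtCoh.top (Spec (CommRingCat.of R))) (topPt R) P) := by
  constructor
  · intro z₁ z₂ h
    obtain ⟨Y, g, y, -, hg⟩ := ((Scheme.pointSmallEtale (closedPt R)).toPresheafFiber_eq_iff' _ _ _ _).1 h
    obtain ⟨σ, -⟩ := exists_section R Y y
    have e : σ ≫ g = 𝟙 _ := (isTerminalTop _).hom_ext _ _
    have := congrArg (P.map σ.op) hg
    rwa [← ConcreteCategory.comp_apply, ← ConcreteCategory.comp_apply, ← P.map_comp, ← op_comp, e,
      op_id, P.map_id, ConcreteCategory.id_apply, ConcreteCategory.id_apply] at this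
  · intro p
    obtain ⟨U, y, t, rfl⟩ := (Scheme.pointSmallEtale (closedPt R)).toPresheafFiber_jointly_surjective p
    obtain ⟨σ, hσ⟩ := exists_section R U y
    exact ⟨P.map σ.op t, by rw [GrothendieckTopology.Point.toPresheafFiber_w_apply, hσ]⟩

end

theorem surjective_sections {F G : EtCoh.Ab (Spec (CommRingCat.of R))} (φ : F ⟶ G) [Epi φ] :
    Function.Surjective (φ.hom.app (op (EtCoh.top (Spec (CommRingCat.of R))))) := by
  intro t
  have h := (epi_iff_stalks φ).1 inferInstance _ (closedPt R)
    ((Scheme.pointSmallEtale (closedPt R)).toPresheafFiber _ (topPt R) G.obj t)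
  obtain ⟨p, hp⟩ := h
  obtain ⟨s, rfl⟩ := (bijective_toPresheafFiber R F.obj).2 p
  refine ⟨s, (bijective_toPresheafFiber R G.obj).1 ?_⟩
  rw [← hp, ← GrothendieckTopology.Point.toPresheafFiber_naturality_apply]
  rfl

theorem projective_of_int : Projective (AddCommGrpCat.of (ULift.{v} ℤ)) := by
  refine ⟨fun {E Y} f e _ => ?_⟩
  obtain ⟨a, ha⟩ := (AddCommGrpCat.epi_iff_surjective e).1 inferInstance (f ⟨1⟩)
  refine ⟨AddCommGrpCat.ofHom ((zmultiplesHom E a).comp AddEquiv.ulift.toAddMonoidHom), ?_⟩
  ext ⟨n⟩
  have hn : (⟨n⟩ : ULift.{v} ℤ) = n • (⟨1⟩ : ULift.{v} ℤ) := by ext; simp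
  show e (n • a) = f ⟨n⟩
  rw [hn, map_zsmul, map_zsmul, ha]

theorem projective_const :
    Projective ((constantSheaf (Spec (CommRingCat.of R)).smallEtaleTopology AddCommGrpCat.{u + 1}).obj
      (AddCommGrpCat.of (ULift ℤ))) := by
  have adj := constantSheafAdj (Spec (CommRingCat.of R)).smallEtaleTopology AddCommGrpCat.{u + 1}
    (isTerminalTop (Spec (CommRingCat.of R)))
  have : ((sheafSections (Spec (CommRingCat.of R)).smallEtaleTopology AddCommGrpCat.{u + 1}).obj
      (op (EtCoh.top (Spec (CommRingCat.of R))))).PreservesEpimorphisms :=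
    ⟨fun φ _ => (AddCommGrpCat.epi_iff_surjective _).2 (surjective_sections R φ)⟩
  exact adj.map_projective _ projective_of_int.{u + 1}

/-- Cohomology of a strictly henselian local scheme vanishes. -/
theorem subsingleton_H (F : EtCoh.Ab (Spec (CommRingCat.of R))) (p : ℕ) (hp : 1 ≤ p) :
    Subsingleton (EtCoh.H (Spec (CommRingCat.of R)) F p) := by
  obtain ⟨n, rfl⟩ := Nat.exists_eq_add_of_le hp
  rw [Nat.add_comm]
  have := projective_const R
  exact subsingleton_of_forall_eq 0 fun e => Abelian.Ext.eq_zero_of_projective e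

end Groth.L27.EtSite
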