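import Groth.Agent.L27.EtSite.Push
import Groth.Agent.L27.EtSite.PropA

/-! # Consequences of conditions (A) and (C) for direct images -/

universe u v w

open CategoryTheory CategoryTheory.Limits AlgebraicGeometry Opposite TopologicalSpace

set_option backward.isDefEq.respectTransparency.types false
set_option linter.style.haveILetI false

namespace Groth.L27.EtSite

theorem hom_inv_apply {P Q : Scheme.{u}} (e : P ≅ Q) (x : Q) : e.hom (e.inv x) = x :=
  (Scheme.Hom.comp_apply _ _ _).symm.trans (congrArg (fun m : Q ⟶ Q => m x) e.inv_hom_id)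

variable {X Y : Scheme.{u}} (f : X ⟶ Y)

/-- Condition (A) as a decomposition of `bc V` in the small etale site. -/
theorem exists_piece_of_propA (hA : BigSite.PropA f) (U : X.Etale) (u : U.left) :
    ∃ (V : Y.Etale) (Q : Bool → X.Etale) (c : ∀ b, Q b ⟶ (EtCoh.bc f).obj V)
      (_ : ∀ b, IsOpenImmersion (c b).left)
      (_ : Pairwise fun a b => Disjoint (Set.range (c a).left) (Set.range (c b).left))
      (_ : ∀ x, ∃ b y, (c b).left y = x) (L : Q true ⟶ U) (w : (Q true).left), L.left w = u := by
  obtain ⟨V, v, _, W, hW, h, hh, w, hw⟩ := hA U.left U.hom u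
  let V₁ : Y.Etale := Scheme.Etale.mk v
  let τ : ((EtCoh.bc f).obj V₁).left ⟶ pullback f v := (pullbackSymmetry v f).hom
  let O : Bool → (((EtCoh.bc f).obj V₁).left).Opens := fun b =>
    bif b then τ ⁻¹ᵁ W else ⟨((τ ⁻¹ᵁ W : ((EtCoh.bc f).obj V₁).left.Opens) : Set _)ᶜ,
      (hW.preimage τ.continuous).isOpen_compl⟩
  let Q : Bool → X.Etale := fun b => Scheme.Etale.mk ((O b).ι ≫ ((EtCoh.bc f).obj V₁).hom)
  let c : ∀ b, Q b ⟶ (EtCoh.bc f).obj V₁ := fun b => MorphismProperty.Over.homMk (O b).ι rfl
  have hr : ∀ b, Set.range (c b).left = (O b : Set _) := fun b => Scheme.Opens.range_ι _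
  refine ⟨V₁, Q, c, fun b => inferInstanceAs (IsOpenImmersion (O b).ι), fun a b hab => ?_, fun x => ?_,
    MorphismProperty.Over.homMk ((τ ∣_ W) ≫ h) ?_, ?_⟩
  · simp only [hr]
    cases a <;> cases b
    · exact absurd rfl hab
    · exact disjoint_compl_left
    · exact disjoint_compl_right
    · exact absurd rfl hab
  · by_cases hx : x ∈ τ ⁻¹ᵁ W
    · exact ⟨true, ⟨x, hx⟩, rfl⟩
    · exact ⟨false, ⟨x, hx⟩, rfl⟩
  · show ((τ ∣_ W) ≫ h) ≫ U.hom = (τ ⁻¹ᵁ W).ι ≫ pullback.snd v f
    rw [Category.assoc, hh, ← Category.assoc, morphismRestrict_ι, Category.assoc]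
    exact congrArg ((τ ⁻¹ᵁ W).ι ≫ ·) (pullbackSymmetry_hom_comp_fst v f)
  · obtain ⟨z, hz⟩ : ∃ z, (τ ∣_ W) z = w := by
      refine ⟨⟨(pullbackSymmetry v f).inv (W.ι w), ?_⟩, ?_⟩
      · show τ ((pullbackSymmetry v f).inv (W.ι w)) ∈ W
        exact (hom_inv_apply (pullbackSymmetry v f) (W.ι w)).symm ▸ w.2
      · refine W.ι.injective ?_
        rw [← Scheme.Hom.comp_apply, morphismRestrict_ι, Scheme.Hom.comp_apply]
        exact hom_inv_apply (pullbackSymmetry v f) (W.ι w)
    exact ⟨z, by
      show ((τ ∣_ W) ≫ h) z = u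
      rw [Scheme.Hom.comp_apply, hz, hw]⟩

/-- A point over a point of an open of `bc V` and a point of a `V`-scheme with the same image. -/
theorem exists_point_bc {V V' : Y.Etale} (g : V' ⟶ V) (x : ((EtCoh.bc f).obj V).left) (v' : V'.left)
    (hv : g.left v' = pullback.fst V.hom f x) :
    ∃ x' : ((EtCoh.bc f).obj V').left, ((EtCoh.bc f).map g).left x' = x := by
  obtain ⟨z, hz1, -⟩ := Scheme.Pullback.exists_preimage_pullback
    (f := (pullback.fst V.hom f : ((EtCoh.bc f).obj V).left ⟶ V.left)) (g := g.left) x v' hv.symm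
  refine ⟨(EtCoh.isPullback_bc_map f g).isoPullback.inv z, ?_⟩
  exact (Scheme.Hom.comp_apply _ _ _).symm.trans
    ((congrArg (fun m : pullback (pullback.fst V.hom f) g.left ⟶ _ => m z) (IsPullback.isoPullback_inv_fst _)).trans hz1)

section Ab

variable (hA : BigSite.PropA f)
include hA

theorem mono_of_mono_push {F G : EtCoh.Ab X} (φ : F ⟶ G) [Mono ((EtCoh.push f).map φ)] : Mono φ := by
  have hinj : ∀ V, Function.Injective (((EtCoh.push f).map φ).hom.app V) :=
    (Sheaf.isLocallyInjective_iff_injective _).1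
      ⟨fun {V} s t hst => Y.smallEtaleTopology.superset_covering (fun W g _ => by
        have h1 : ((EtCoh.push f).map φ).hom.app V (s - t) = 0 := by rw [map_sub, hst, sub_self]
        have h2 : Mono (((sheafToPresheaf _ _).map ((EtCoh.push f).map φ)).app V) := inferInstance
        have := (AddCommGrpCat.mono_iff_injective _).1 h2 (h1.trans (map_zero _).symm)
        rw [sub_eq_zero] at this
        exact congrArg _ this) (Y.smallEtaleTopology.top_mem _)⟩
  have : Sheaf.IsLocallyInjective φ := ⟨fun {U} s t hst => (mem_topology_iff _).2 fun u => by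
    obtain ⟨V, Q, c, _, hd, hc, L, w, hw⟩ := exists_piece_of_propA f hA U.unop u
    refine ⟨Q true, L, w, ?_, hw⟩
    let FT := (sheafCompose X.smallEtaleTopology (forget AddCommGrpCat.{u + 1})).obj F
    let GT := (sheafCompose X.smallEtaleTopology (forget AddCommGrpCat.{u + 1})).obj G
    obtain ⟨z, hz⟩ := (bijective_of_disjoint FT Q c hd hc).2
      fun b => match b with
        | true => F.obj.map L.op (s - t)
        | false => (0 : F.obj.obj (op (Q false)))
    have hz1 : φ.hom.app _ z = (0 : G.obj.obj (op ((EtCoh.bc f).obj V))) :=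
      (bijective_of_disjoint GT Q c hd hc).1 (funext fun b => by
        show G.obj.map (c b).op (φ.hom.app _ z) = G.obj.map (c b).op 0
        rw [map_zero]
        refine (NatTrans.naturality_apply φ.hom (c b).op z).symm.trans ?_
        match b with
        | true =>
          refine (congrArg (φ.hom.app (op (Q true))) (congrFun hz true)).trans ?_
          refine (NatTrans.naturality_apply φ.hom L.op (s - t)).trans ?_
          have h9 : φ.hom.app U (s - t) = 0 := by rw [map_sub, hst, sub_self]
          exact (congrArg (G.obj.map L.op) h9).trans (map_zero _)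
        | false => exact (congrArg (φ.hom.app (op (Q false))) (congrFun hz false)).trans (map_zero _))
    have hz0 : z = (0 : F.obj.obj (op ((EtCoh.bc f).obj V))) := hinj (op V) (hz1.trans (map_zero _).symm)
    have h3 : F.obj.map L.op (s - t) = 0 := by
      refine (congrFun hz true).symm.trans ?_
      show F.obj.map (c true).op z = 0
      rw [hz0, map_zero]
    rw [map_sub, sub_eq_zero] at h3
    exact h3⟩
  exact Sheaf.mono_of_isLocallyInjective φ

theorem epi_of_epi_push {F G : EtCoh.Ab X} (φ : F ⟶ G) [Epi ((EtCoh.push f).map φ)] : Epi φ := by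
  have hs : Sheaf.IsLocallySurjective ((EtCoh.push f).map φ) :=
    (Sheaf.isLocallySurjective_iff_epi' (φ := (EtCoh.push f).map φ)).2 inferInstance
  refine (Sheaf.isLocallySurjective_iff_epi' (φ := φ)).1 ⟨fun {U} s => (mem_topology_iff _).2 fun u => ?_⟩
  obtain ⟨V, Q, c, _, hd, hc, L, w, hw⟩ := exists_piece_of_propA f hA U u
  let GT := (sheafCompose X.smallEtaleTopology (forget AddCommGrpCat.{u + 1})).obj G
  obtain ⟨z, hz⟩ := (bijective_of_disjoint GT Q c hd hc).2
    fun b => match b with
      | true => G.obj.map L.op s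
      | false => (0 : G.obj.obj (op (Q false)))
  obtain ⟨V', g, v', ⟨t, ht⟩, hv'⟩ := (mem_topology_iff _).1
    (Presheaf.imageSieve_mem Y.smallEtaleTopology ((EtCoh.push f).map φ).hom (U := op V) z)
    (pullback.fst V.hom f ((c true).left w))
  obtain ⟨x', hx'⟩ := exists_point_bc f g ((c true).left w) v' hv'
  let O := ((EtCoh.bc f).map g).left ⁻¹ᵁ (c true).left.opensRange
  let R : X.Etale := Scheme.Etale.mk (O.ι ≫ ((EtCoh.bc f).obj V').hom)
  let a : R ⟶ (EtCoh.bc f).obj V' := MorphismProperty.Over.homMk O.ι rfl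
  let m : (O : Scheme.{u}) ⟶ (Q true).left :=
    IsOpenImmersion.lift (c true).left (O.ι ≫ ((EtCoh.bc f).map g).left) (by
      rintro _ ⟨z, rfl⟩
      exact z.2)
  have hm : m ≫ (c true).left = O.ι ≫ ((EtCoh.bc f).map g).left := IsOpenImmersion.lift_fac _ _ _
  let b : R ⟶ Q true := MorphismProperty.Over.homMk m (by
    show m ≫ (Q true).hom = O.ι ≫ ((EtCoh.bc f).obj V').hom
    rw [← MorphismProperty.Over.w (c true), ← Category.assoc, hm, Category.assoc, MorphismProperty.Over.w])
  have hab : b ≫ c true = a ≫ (EtCoh.bc f).map g := MorphismProperty.Over.Hom.ext hm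
  refine ⟨R, b ≫ L, ⟨x', show _ ∈ (c true).left.opensRange from ⟨w, hx'.symm⟩⟩, ⟨F.obj.map a.op t, ?_⟩, ?_⟩
  · refine (NatTrans.naturality_apply φ.hom a.op t).trans ((congrArg (G.obj.map a.op) ht).trans ?_)
    show G.obj.map a.op (G.obj.map ((EtCoh.bc f).map g).op z) = _
    rw [← ConcreteCategory.comp_apply, ← G.obj.map_comp, ← op_comp, ← hab, op_comp, G.obj.map_comp,
      ConcreteCategory.comp_apply]
    refine (congrArg (G.obj.map b.op) (congrFun hz true)).trans ?_
    show G.obj.map b.op (G.obj.map L.op s) = _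
    rw [← ConcreteCategory.comp_apply, ← G.obj.map_comp, ← op_comp]
  · show (m ≫ L.left) _ = u
    rw [Scheme.Hom.comp_apply, ← hw]
    refine congrArg L.left.base ((c true).left.isOpenEmbedding.injective ?_)
    exact ((Scheme.Hom.comp_apply _ _ _).symm.trans (congrArg (fun h : (O : Scheme.{u}) ⟶ _ => h _) hm)).trans hx'

theorem faithful_push : (EtCoh.push f).Faithful := by
  haveI : (EtCoh.push f).Additive := inferInstance
  refine Functor.Faithful.mk fun {F G} a b hab => ?_
  rw [← sub_eq_zero]
  have h0 : (EtCoh.push f).map (a - b) = 0 := by rw [Functor.map_sub, hab, sub_self]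
  haveI : PreservesLimitsOfSize.{0, 0} (EtCoh.push f) :=
    (EtCoh.pullPushAdj f).rightAdjoint_preservesLimits
  haveI : PreservesFiniteLimits (EtCoh.push f) := PreservesLimitsOfSize.preservesFiniteLimits _
  have h1 : Epi ((EtCoh.push f).map (kernel.ι (a - b))) := by
    have h2 : Epi (kernel.ι ((EtCoh.push f).map (a - b))) :=
      (SplitEpi.mk (kernel.lift _ (𝟙 _) (by rw [h0, comp_zero])) (kernel.lift_ι _ _ _)).epi
    rw [← kernelComparison_comp_ι (a - b) (EtCoh.push f)]
    infer_instance
  haveI := epi_of_epi_push f hA (kernel.ι (a - b))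
  exact (cancel_epi (kernel.ι (a - b))).1 (by rw [kernel.condition, comp_zero])

theorem epi_counit (F : EtCoh.Ab X) : Epi ((EtCoh.pullPushAdj f).counit.app F) := by
  haveI := faithful_push f hA
  infer_instance

end Ab

/-- Condition (C) as a surjection from `bc V` in the small etale site. -/
theorem exists_surj_of_propC (hC : BigSite.PropC f) (U : X.Etale) :
    ∃ (V : Y.Etale) (L : (EtCoh.bc f).obj V ⟶ U), ∀ u : U.left, ∃ x, L.left x = u := by
  obtain ⟨V, v, _, h, hh, hs⟩ := hC U.left U.hom
  refine ⟨Scheme.Etale.mk v, MorphismProperty.Over.homMk ((pullbackSymmetry v f).hom ≫ h) ?_, fun u => ?_⟩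
  · show ((pullbackSymmetry v f).hom ≫ h) ≫ U.hom = pullback.snd v f
    rw [Category.assoc, hh, pullbackSymmetry_hom_comp_fst]
  · obtain ⟨x, hx⟩ := h.surjective u
    refine ⟨(pullbackSymmetry v f).inv x, ?_⟩
    show ((pullbackSymmetry v f).hom ≫ h) ((pullbackSymmetry v f).inv x) = u
    rw [← Scheme.Hom.comp_apply, Iso.inv_hom_id_assoc, hx]

section Types

variable (hC : BigSite.PropC f)
include hC

theorem mono_of_mono_pushSh {F G : EtDesc.Sh X} (φ : F ⟶ G) [Mono ((EtDesc.pushSh f).map φ)] : Mono φ := by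
  have : Sheaf.IsLocallyInjective φ := ⟨fun {U} s t hst => (mem_topology_iff _).2 fun u => by
    obtain ⟨V, L, hL⟩ := exists_surj_of_propC f hC U.unop
    obtain ⟨x, hx⟩ := hL u
    refine ⟨_, L, x, ?_, hx⟩
    have h2 : Mono (((sheafToPresheaf _ _).map ((EtDesc.pushSh f).map φ)).app (op V)) := inferInstance
    refine (CategoryTheory.mono_iff_injective _).1 h2 ?_
    show φ.hom.app _ (F.obj.map L.op s) = φ.hom.app _ (F.obj.map L.op t)
    rw [NatTrans.naturality_apply, NatTrans.naturality_apply, hst]⟩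
  exact Sheaf.mono_of_isLocallyInjective φ

theorem epi_of_epi_pushSh {F G : EtDesc.Sh X} (φ : F ⟶ G) [Epi ((EtDesc.pushSh f).map φ)] : Epi φ := by
  have hs : Sheaf.IsLocallySurjective ((EtDesc.pushSh f).map φ) :=
    (Sheaf.isLocallySurjective_iff_epi' (φ := (EtDesc.pushSh f).map φ)).2 inferInstance
  refine (Sheaf.isLocallySurjective_iff_epi' (φ := φ)).1 ⟨fun {U} s => (mem_topology_iff _).2 fun u => ?_⟩
  obtain ⟨V, L, hL⟩ := exists_surj_of_propC f hC U
  obtain ⟨x, hx⟩ := hL u
  obtain ⟨V', g, v', ⟨t, ht⟩, hv'⟩ := (mem_topology_iff _).1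
    (Presheaf.imageSieve_mem Y.smallEtaleTopology ((EtDesc.pushSh f).map φ).hom (U := op V) (G.obj.map L.op s))
    (pullback.fst V.hom f x)
  obtain ⟨x', hx'⟩ := exists_point_bc f g x v' hv'
  refine ⟨_, (EtCoh.bc f).map g ≫ L, x', ⟨t, ?_⟩, ?_⟩
  · rw [op_comp, G.obj.map_comp]
    exact ht
  · exact ((Scheme.Hom.comp_apply _ _ _).trans (congrArg L.left.base hx')).trans hx

end Types

theorem bot_mem_of_isEmpty (Z : X.Etale) [IsEmpty Z.left] : (⊥ : Sieve Z) ∈ X.smallEtaleTopology Z :=
  (mem_topology_iff _).2 fun x => isEmptyElim x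

theorem isAlmostCocontinuous_of_propC
    (hC : ∀ (V : Scheme.{u}) (v : V ⟶ Y) [Etale v], BigSite.PropC (pullback.snd f v))
    (hcl : ∀ (V : Scheme.{u}) (v : V ⟶ Y) [Etale v], IsClosedMap (pullback.snd f v).base) :
    BigSite.IsAlmostCocontinuous (EtCoh.bc f) Y.smallEtaleTopology X.smallEtaleTopology := by
  intro U R hR
  haveI : Etale U.hom := U.prop
  have hcov := (mem_topology_iff _).1 hR
  choose W g w hg hw using hcov
  let σ := pullbackSymmetry U.hom f
  have hC' : ∀ x, ∃ (V : Scheme.{u}) (v : V ⟶ U.left) (_ : Etale v)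
      (h : pullback (pullback.snd f U.hom) v ⟶ (W x).left),
      h ≫ (g x).left ≫ σ.hom = pullback.fst _ v ∧ Surjective h := fun x =>
    hC U.left U.hom (W x).left ((g x).left ≫ σ.hom)
  choose V v hv h hh hs using hC'
  let E : U.left.Opens := ⟨(Set.range (pullback.snd f U.hom).base)ᶜ,
    (hcl U.left U.hom).isClosed_range.isOpen_compl⟩
  let T : Option ((EtCoh.bc f).obj U).left → Y.Etale := fun o => match o with
    | none => Scheme.Etale.mk (E.ι ≫ U.hom)
    | some x => haveI := hv x; Scheme.Etale.mk (v x ≫ U.hom)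
  let a : ∀ o, T o ⟶ U := fun o => match o with
    | none => MorphismProperty.Over.homMk E.ι rfl
    | some x => MorphismProperty.Over.homMk (v x) rfl
  refine ⟨Sieve.generate (Presieve.ofArrows T a), (mem_topology_iff _).2 fun y => ?_, ?_⟩
  · by_cases hy : y ∈ E
    · exact ⟨_, a none, ⟨y, hy⟩, ⟨_, 𝟙 _, _, ⟨none⟩, Category.id_comp _⟩, rfl⟩
    · obtain ⟨p, hp⟩ : y ∈ Set.range (pullback.snd f U.hom).base := not_not.1 hy
      let x := σ.inv p
      obtain ⟨r, hr⟩ := (hs x).surj (w x)
      refine ⟨_, a (some x), pullback.snd _ (v x) r, ⟨_, 𝟙 _, _, ⟨some x⟩, Category.id_comp _⟩, ?_⟩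
      show v x (pullback.snd _ (v x) r) = y
      rw [← Scheme.Hom.comp_apply, ← pullback.condition, ← hh x, Scheme.Hom.comp_apply, Scheme.Hom.comp_apply,
        Scheme.Hom.comp_apply, hr, hw, ← hp]
      refine congrArg _ ?_
      show σ.hom (σ.inv p) = p
      rw [← Scheme.Hom.comp_apply, Iso.inv_hom_id]
      rfl
  · rintro V' g' ⟨Z, k, _, ⟨o⟩, rfl⟩
    match o with
    | none =>
      left
      haveI : IsEmpty ((EtCoh.bc f).obj V').left := ⟨fun z => by
        have hE : a none = MorphismProperty.Over.homMk E.ι rfl := rfl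
        let q := ((EtCoh.bc f).map (k ≫ a none)).left z
        have hq : pullback.fst U.hom f q ∈ E := by
          have h1 : pullback.fst U.hom f q = (k ≫ a none).left (pullback.fst V'.hom f z) :=
            (Scheme.Hom.comp_apply _ _ _).symm.trans
              ((congrArg (fun m : ((EtCoh.bc f).obj V').left ⟶ U.left => m z)
                (EtCoh.isPullback_bc_map f (k ≫ a none)).w).trans (Scheme.Hom.comp_apply _ _ _))
          exact h1.symm ▸ (k.left _).2
        exact hq ⟨σ.hom q, (Scheme.Hom.comp_apply _ _ _).symm.trans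
          (congrArg (fun m : pullback U.hom f ⟶ U.left => m q) (pullbackSymmetry_hom_comp_snd U.hom f))⟩⟩
      exact bot_mem_of_isEmpty _
    | some x =>
      right
      haveI := hv x
      let S : ((EtCoh.bc f).obj (T (some x))).left ⟶ pullback (pullback.snd f U.hom) (v x) :=
        pullback.lift (((EtCoh.bc f).map (a (some x))).left ≫ σ.hom)
          (pullback.fst (T (some x)).hom f) (by
            exact (Category.assoc _ _ _).trans ((congrArg (_ ≫ ·) (pullbackSymmetry_hom_comp_snd U.hom f)).trans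
              (EtCoh.isPullback_bc_map f (a (some x))).w))
      let L : (EtCoh.bc f).obj (T (some x)) ⟶ W x := MorphismProperty.Over.homMk (S ≫ h x) (by
        have e2 : (g x).left ≫ σ.hom ≫ pullback.fst f U.hom = (W x).hom := by
          exact (congrArg ((g x).left ≫ ·) (pullbackSymmetry_hom_comp_fst U.hom f)).trans
            (MorphismProperty.Over.w (g x))
        rw [← e2, Category.assoc, reassoc_of% (hh x), pullback.lift_fst_assoc, Category.assoc]
        exact (congrArg (_ ≫ ·) (pullbackSymmetry_hom_comp_fst U.hom f)).trans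
          (MorphismProperty.Over.w ((EtCoh.bc f).map (a (some x)))))
      have hL : L ≫ g x = (EtCoh.bc f).map (a (some x)) := MorphismProperty.Over.Hom.ext (by
        apply (cancel_mono σ.hom).1
        show ((S ≫ h x) ≫ (g x).left) ≫ σ.hom = _
        rw [Category.assoc, Category.assoc, hh x, pullback.lift_fst]
        rfl)
      rw [Functor.map_comp, ← hL, ← Category.assoc]
      exact R.downward_closed (hg x) _

/-- Refinement of etale coverings of a closed subscheme from the ambient scheme. -/
theorem exists_refinement_of_isClosedImmersion [IsClosedImmersion f] {ι : Type u} (U : ι → X.Etale)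
    (hU : EtCoh.Covers U) :
    ∃ (κ : Type u) (V : κ → Y.Etale), EtCoh.Covers V ∧
      ∀ j, IsEmpty ↥(pullback (V j).hom f) ∨
        ∃ (i : ι) (h : pullback (V j).hom f ⟶ (U i).left), h ≫ (U i).hom = pullback.snd (V j).hom f := by
  have hC : BigSite.PropC f := propC_of_isIntegralHom f f.isClosedEmbedding
  choose V L hL using fun i => exists_surj_of_propC f hC (U i)
  let E : Y.Opens := ⟨(Set.range f.base)ᶜ, f.isClosedEmbedding.isClosed_range.isOpen_compl⟩
  refine ⟨Option ι, fun o => match o with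
    | none => Scheme.Etale.mk E.ι
    | some i => V i, fun y => ?_, fun o => ?_⟩
  · by_cases hy : y ∈ E
    · exact ⟨none, ⟨y, hy⟩, rfl⟩
    · obtain ⟨x, hx⟩ : y ∈ Set.range f.base := not_not.1 hy
      obtain ⟨i, z, hz⟩ := hU x
      obtain ⟨r, hr⟩ := hL i z
      refine ⟨some i, pullback.fst (V i).hom f r, ?_⟩
      refine (Scheme.Hom.comp_apply _ _ _).symm.trans ?_
      rw [pullback.condition, Scheme.Hom.comp_apply]
      refine (congrArg f.base ?_).trans hx
      rw [← hz, ← hr, ← Scheme.Hom.comp_apply]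
      exact (congrArg (fun m : ((EtCoh.bc f).obj (V i)).left ⟶ X => m r) (MorphismProperty.Over.w (L i))).symm
  · match o with
    | none =>
      left
      exact ⟨fun z => (pullback.fst E.ι f z).2 ⟨pullback.snd E.ι f z, by
        rw [← Scheme.Hom.comp_apply, ← pullback.condition, Scheme.Hom.comp_apply]; rfl⟩⟩
    | some i => exact Or.inr ⟨i, (L i).left, MorphismProperty.Over.w (L i)⟩

end Groth.L27.EtSite
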