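import Groth.Agent.L27.NormalSepClosed.ConstSect
import Groth.Prelude.Def_EtGm
import Mathlib.RingTheory.Polynomial.Cyclotomic.Roots
import Mathlib.Data.ZMod.Basic

/-! # `μ_n` is constant when the base contains a primitive root -/

set_option autoImplicit false
set_option linter.style.haveILetI false
set_option backward.isDefEq.respectTransparency.types false

universe u

open CategoryTheory CategoryTheory.Limits AlgebraicGeometry Opposite

namespace Groth.L27.MuConst

variable {X : Scheme.{u}} (n : ℕ)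

/-- The unit underlying a section of `G_m`. -/
def toUnit {U : X.Etale} (s : (EtCoh.Gm X).obj.obj (op U)) : Γ(U.left, ⊤)ˣ :=
  Additive.toMul (s : ULift.{u + 1} (Additive Γ(U.left, ⊤)ˣ)).down

/-- The section of `G_m` given by a unit. -/
def ofUnit {U : X.Etale} (s : Γ(U.left, ⊤)ˣ) : (EtCoh.Gm X).obj.obj (op U) :=
  (ULift.up (Additive.ofMul s) : ULift.{u + 1} (Additive Γ(U.left, ⊤)ˣ))

lemma toUnit_injective {U : X.Etale} : Function.Injective (toUnit (X := X) (U := U)) :=
  fun _ _ h => ULift.ext _ _ h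

lemma toUnit_map {U V : X.Etale} (g : V ⟶ U) (s : (EtCoh.Gm X).obj.obj (op U)) :
    (toUnit ((EtCoh.Gm X).obj.map g.op s) : Γ(V.left, ⊤)) = g.left.appTop (toUnit s : Γ(U.left, ⊤)) := rfl

lemma toUnit_nsmul {U : X.Etale} (m : ℕ) (s : (EtCoh.Gm X).obj.obj (op U)) :
    toUnit (m • s) = toUnit s ^ m := rfl

lemma toUnit_zero {U : X.Etale} : toUnit (0 : (EtCoh.Gm X).obj.obj (op U)) = 1 := rfl

lemma powMap_app (W : X.Etale) (t : (EtCoh.Gm X).obj.obj (op W)) :
    (EtCoh.powMap X n).hom.app (op W) t = n • t := by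
  have e1 : (EtCoh.powMap X n).hom = n • (𝟙 (EtCoh.Gm X).obj : (EtCoh.Gm X).obj ⟶ _) := rfl
  rw [e1, NatTrans.app_nsmul]
  simp

variable [NeZero n] (ζ : Γ(X, ⊤)) (hζn : ζ ^ n = 1)

/-- The root of unity as a global section of `G_m`. -/
noncomputable def gen : (EtCoh.Gm X).obj.obj (op (EtCoh.top X)) :=
  ofUnit (U := EtCoh.top X) (Units.ofPowEqOne ζ n hζn (NeZero.ne n))

lemma nsmul_gen : n • gen n ζ hζn = 0 :=
  toUnit_injective (Units.pow_ofPowEqOne hζn (NeZero.ne n))

/-- The homomorphism from `ℤ`. -/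
noncomputable def genHom :
    {f : ℤ →+ (EtCoh.Gm X).obj.obj (op (EtCoh.top X)) // f n = 0} :=
  ⟨zmultiplesHom _ (gen n ζ hζn), by rw [zmultiplesHom_apply, natCast_zsmul, nsmul_gen]⟩

/-- The homomorphism on global sections. -/
noncomputable def topHom :
    AddCommGrpCat.of (ULift.{u + 1} (ZMod n)) ⟶ (EtCore.gsec X).obj (EtCoh.Gm X) :=
  AddCommGrpCat.ofHom
    ((ZMod.lift n (genHom n ζ hζn)).comp
      (AddEquiv.ulift.toAddMonoidHom))

lemma topHom_apply (a : ZMod n) : topHom n ζ hζn (ULift.up a) = a.val • gen n ζ hζn := by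
  show (ZMod.lift n (genHom n ζ hζn)) a = _
  conv_lhs => rw [← ZMod.natCast_zmod_val a, ← Int.cast_natCast (R := ZMod n)]
  rw [ZMod.lift_coe]
  exact natCast_zsmul _ _

/-- The morphism from the constant sheaf to `G_m`. -/
noncomputable def toGm : EtCoh.const X (ZMod n) ⟶ EtCoh.Gm X :=
  ((EtCore.constAdj X).homEquiv _ _).symm (topHom n ζ hζn)

lemma toGm_cst (U : X.Etale) (a : ULift.{u + 1} (ZMod n)) :
    (toUnit ((toGm n ζ hζn).hom.app (op U) (ConstSect.cst (AddCommGrpCat.of (ULift.{u + 1} (ZMod n))) U a)) :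
      Γ(U.left, ⊤)) = (U.hom.appTop ζ) ^ a.down.val := by
  have h := ((EtCore.constAdj X).homEquiv _ _).apply_symm_apply (topHom n ζ hζn)
  rw [Adjunction.homEquiv_unit] at h
  have htop : (toGm n ζ hζn).hom.app (op (EtCoh.top X))
      (ConstSect.cst (AddCommGrpCat.of (ULift.{u + 1} (ZMod n))) (EtCoh.top X) a) =
      a.down.val • gen n ζ hζn :=
    (ConcreteCategory.congr_hom h a).trans (topHom_apply n ζ hζn a.down)
  have hc := ConstSect.map_cst (AddCommGrpCat.of (ULift.{u + 1} (ZMod n)))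
    ((EtCore.topIsTerminal X).from U) a
  have hnat := NatTrans.naturality_apply (toGm n ζ hζn).hom ((EtCore.topIsTerminal X).from U).op
    (ConstSect.cst (AddCommGrpCat.of (ULift.{u + 1} (ZMod n))) (EtCoh.top X) a)
  refine (congrArg (fun s => (toUnit ((toGm n ζ hζn).hom.app (op U) s) : Γ(U.left, ⊤))) hc.symm).trans ?_
  refine (congrArg (fun s => (toUnit s : Γ(U.left, ⊤))) (hnat.trans
    (congrArg ((EtCoh.Gm X).obj.map ((EtCore.topIsTerminal X).from U).op) htop))).trans ?_
  rw [toUnit_map, toUnit_nsmul, Units.val_pow_eq_pow_val, map_pow]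
  congr 1
  have hw : ((EtCore.topIsTerminal X).from U).left ≫ (EtCoh.top X).hom = U.hom :=
    Over.w ((EtCore.topIsTerminal X).from U).hom
  rw [← hw, Scheme.Hom.comp_appTop]
  rfl

lemma toGm_pow : toGm n ζ hζn ≫ EtCoh.powMap X n = 0 := by
  rw [EtCoh.powMap, Preadditive.comp_nsmul, Category.comp_id]
  apply ((EtCore.constAdj X).homEquiv _ _).injective
  rw [Adjunction.homEquiv_unit, Adjunction.homEquiv_unit]
  refine ConcreteCategory.hom_ext _ _ fun a => ?_
  have h := ((EtCore.constAdj X).homEquiv _ _).apply_symm_apply (topHom n ζ hζn)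
  rw [Adjunction.homEquiv_unit] at h
  rw [Functor.map_zero, comp_zero, show (EtCore.gsec X).map (n • toGm n ζ hζn) =
    n • (EtCore.gsec X).map (toGm n ζ hζn) from rfl, Preadditive.comp_nsmul]
  erw [h]
  show n • topHom n ζ hζn a = 0
  obtain ⟨a⟩ := a
  rw [topHom_apply, smul_comm, nsmul_gen, smul_zero]

/-- The comparison map. -/
noncomputable def toMu : EtCoh.const X (ZMod n) ⟶ EtCoh.mu X n :=
  kernel.lift _ (toGm n ζ hζn) (toGm_pow n ζ hζn)

omit [NeZero n] in
lemma muι_injective (U : X.Etale) : Function.Injective ((EtCoh.muι X n).hom.app (op U)) := by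
  haveI : Mono (EtCoh.muι X n) := inferInstanceAs (Mono (kernel.ι _))
  haveI : Mono ((sheafToPresheaf X.smallEtaleTopology AddCommGrpCat.{u + 1}).map (EtCoh.muι X n)) :=
    inferInstance
  haveI : Mono ((EtCoh.muι X n).hom.app (op U)) :=
    inferInstanceAs (Mono (((sheafToPresheaf X.smallEtaleTopology AddCommGrpCat.{u + 1}).map
      (EtCoh.muι X n)).app (op U)))
  exact (AddCommGrpCat.mono_iff_injective _).1 inferInstance

lemma toMu_muι (U : X.Etale) (s : (EtCoh.const X (ZMod n)).obj.obj (op U)) :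
    (EtCoh.muι X n).hom.app (op U) ((toMu n ζ hζn).hom.app (op U) s) =
      (toGm n ζ hζn).hom.app (op U) s :=
  ConcreteCategory.congr_hom
    (congrArg (fun φ => φ.hom.app (op U)) (kernel.lift_ι _ (toGm n ζ hζn) (toGm_pow n ζ hζn))) s

omit [NeZero n] in
lemma toUnit_muι_pow (U : X.Etale) (s : (EtCoh.mu X n).obj.obj (op U)) :
    toUnit ((EtCoh.muι X n).hom.app (op U) s) ^ n = 1 := by
  have h : (EtCoh.powMap X n).hom.app (op U) ((EtCoh.muι X n).hom.app (op U) s) = 0 :=
    ConcreteCategory.congr_hom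
      (congrArg (fun φ => φ.hom.app (op U)) (kernel.condition (EtCoh.powMap X n))) s
  rw [powMap_app] at h
  exact (congrArg toUnit h).trans toUnit_zero

variable (hunit : IsUnit (n : Γ(X, ⊤))) (hζ : Polynomial.aeval ζ (Polynomial.cyclotomic n ℤ) = 0)

include hunit hζ in
omit hζn in
lemma isPrimitiveRoot_eval (U : X.Etale) (x : U.left) :
    ((n : ℕ) : U.left.residueField x) ≠ 0 ∧
      IsPrimitiveRoot (U.left.Γevaluation x (U.hom.appTop ζ)) n := by
  let e : Γ(X, ⊤) →+* U.left.residueField x := (U.hom.appTop ≫ U.left.Γevaluation x).hom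
  have hn : ((n : ℕ) : U.left.residueField x) ≠ 0 := by
    have := hunit.map e
    rw [map_natCast] at this
    exact this.ne_zero
  haveI : NeZero ((n : ℕ) : U.left.residueField x) := ⟨hn⟩
  refine ⟨hn, Polynomial.isRoot_cyclotomic_iff.1 ?_⟩
  show Polynomial.IsRoot _ (e ζ)
  have h : Polynomial.aeval (e ζ) (Polynomial.cyclotomic n ℤ) = 0 := by
    have h4 := Polynomial.aeval_algHom_apply e.toIntAlgHom ζ (Polynomial.cyclotomic n ℤ)
    rw [hζ, map_zero] at h4
    exact h4
  rw [Polynomial.IsRoot, ← Polynomial.map_cyclotomic n (algebraMap ℤ (U.left.residueField x)),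
    Polynomial.eval_map_algebraMap]
  exact h

include hunit hζ in
omit hζn in
/-- Near any point an `n`-th root of unity is a power of `ζ`. -/
lemma exists_locally_eq (U : X.Etale) (t : Γ(U.left, ⊤)ˣ) (ht : t ^ n = 1) (x : U.left) :
    ∃ (a : ℕ) (V : U.left.Opens), a < n ∧ x ∈ V ∧
      V.ι.appTop (t : Γ(U.left, ⊤)) = V.ι.appTop ((U.hom.appTop ζ) ^ a) := by
  obtain ⟨hn, hp⟩ := isPrimitiveRoot_eval n ζ hunit hζ U x
  let z : Γ(U.left, ⊤) := U.hom.appTop ζ
  let ev : Γ(U.left, ⊤) →+* U.left.residueField x := (U.left.Γevaluation x).hom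
  obtain ⟨a, ha, hat⟩ := hp.eq_pow_of_pow_eq_one (ξ := ev (t : Γ(U.left, ⊤)))
    (by rw [← map_pow, ← Units.val_pow_eq_pow_val, ht, Units.val_one, map_one])
  have hzn : z ^ n = 1 := by
    have h := Polynomial.cyclotomic.dvd_X_pow_sub_one n ℤ
    obtain ⟨q, hq⟩ := h
    have h2 := congrArg (Polynomial.aeval z) hq
    simp only [map_sub, map_pow, Polynomial.aeval_X, map_one, map_mul] at h2
    have h3 : Polynomial.aeval z (Polynomial.cyclotomic n ℤ) = 0 := by
      have h4 := Polynomial.aeval_algHom_apply U.hom.appTop.hom.toIntAlgHom ζ (Polynomial.cyclotomic n ℤ)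
      rw [hζ, map_zero] at h4
      exact h4
    rw [h3, zero_mul, sub_eq_zero] at h2
    exact h2
  let y : Γ(U.left, ⊤) := (t : Γ(U.left, ⊤)) * z ^ (n - a)
  have hy : y ^ n = 1 := by
    rw [mul_pow, ← Units.val_pow_eq_pow_val, ht, Units.val_one, one_mul, ← pow_mul, mul_comm,
      pow_mul, hzn, one_pow]
  have hy1 : ev y = 1 := by
    rw [map_mul, map_pow, show ev z = U.left.Γevaluation x (U.hom.appTop ζ) from rfl, ← hat,
      ← pow_add, Nat.add_sub_cancel' ha.le]
    exact hp.pow_eq_one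
  let g : Γ(U.left, ⊤) := ∑ i ∈ Finset.range n, y ^ i
  have hg : ev g ≠ 0 := by
    rw [map_sum]
    simp only [map_pow, hy1, one_pow, Finset.sum_const, Finset.card_range, nsmul_eq_mul, mul_one]
    exact hn
  have hxg : x ∈ U.left.basicOpen g :=
    (Scheme.evaluation_ne_zero_iff_mem_basicOpen U.left x (show x ∈ (⊤ : U.left.Opens) from trivial) g).1 hg
  refine ⟨a, U.left.basicOpen g, ha, hxg, ?_⟩
  have hu : IsUnit ((U.left.basicOpen g).ι.appTop g) := by
    have hle : (U.left.basicOpen g).ι ''ᵁ ⊤ ≤ U.left.basicOpen g :=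
      (Scheme.Opens.ι_image_top _).le
    have h0 := (RingedSpace.isUnit_res_basicOpen U.left.toRingedSpace g).map
      (U.left.presheaf.map (homOfLE hle).op).hom
    erw [← CommRingCat.comp_apply, ← Functor.map_comp] at h0
    rw [Scheme.Opens.ι_appTop]
    exact h0
  have hzero : (y - 1) * g = 0 := by rw [mul_geom_sum, hy, sub_self]
  have h1 : (U.left.basicOpen g).ι.appTop y = 1 := by
    have := congrArg (U.left.basicOpen g).ι.appTop hzero
    rw [map_mul, map_sub, map_one, map_zero] at this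
    exact sub_eq_zero.1 (hu.mul_left_eq_zero.1 this)
  calc (U.left.basicOpen g).ι.appTop (t : Γ(U.left, ⊤))
      = (U.left.basicOpen g).ι.appTop ((t : Γ(U.left, ⊤)) * z ^ ((n - a) + a)) := by
        rw [Nat.sub_add_cancel ha.le, hzn, mul_one]
    _ = (U.left.basicOpen g).ι.appTop (y * z ^ a) := by rw [pow_add, mul_assoc]
    _ = _ := by rw [map_mul, h1, one_mul]

include hunit hζ in
theorem isIso_toMu : IsIso (toMu n ζ hζn) := by
  refine (Sheaf.isLocallyBijective_iff_isIso (toMu n ζ hζn)).1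
    ⟨⟨fun {V} s t hst => ?_⟩, ⟨fun {V} t => ?_⟩⟩
  · refine (EtSite.mem_topology_iff _).2 fun x => ?_
    obtain ⟨W, g, w, a, hw, e⟩ :=
      ConstSect.exists_locally_cst (AddCommGrpCat.of (ULift.{u + 1} (ZMod n))) (s - t) x
    refine ⟨W, g, w, ?_, hw⟩
    have h0 : (toGm n ζ hζn).hom.app (op W)
        (ConstSect.cst (AddCommGrpCat.of (ULift.{u + 1} (ZMod n))) W a) = 0 := by
      rw [← toMu_muι, ← e, NatTrans.naturality_apply, map_sub, hst, sub_self, map_zero, map_zero]
    have h1 := toGm_cst n ζ hζn W a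
    rw [h0, toUnit_zero, Units.val_one] at h1
    obtain ⟨-, hp⟩ := isPrimitiveRoot_eval n ζ hunit hζ W w
    have h2 := congrArg (W.left.Γevaluation w) h1
    rw [map_one, map_pow] at h2
    have ha : a = 0 := ULift.ext _ _ ((ZMod.val_eq_zero _).1
      (Nat.eq_zero_of_dvd_of_lt (hp.dvd_of_pow_eq_one _ h2.symm) (ZMod.val_lt a.down)))
    show (EtCoh.const X (ZMod n)).obj.map g.op s = (EtCoh.const X (ZMod n)).obj.map g.op t
    rw [← sub_eq_zero, ← map_sub]
    exact e.trans (by rw [ha, map_zero])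
  · refine (EtSite.mem_topology_iff _).2 fun x => ?_
    obtain ⟨a, O, ha, hxO, hO⟩ := exists_locally_eq n ζ hunit hζ V
      (toUnit ((EtCoh.muι X n).hom.app (op V) t)) (toUnit_muι_pow n V t) x
    haveI : AlgebraicGeometry.Etale V.hom := V.prop
    let W : X.Etale := MorphismProperty.Over.mk ⊤ (O.ι ≫ V.hom)
      (inferInstanceAs (AlgebraicGeometry.Etale _))
    let g : W ⟶ V := MorphismProperty.Over.homMk O.ι rfl
    refine ⟨W, g, (⟨x, hxO⟩ : O), ⟨ConstSect.cst (AddCommGrpCat.of (ULift.{u + 1} (ZMod n))) W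
      (ULift.up (a : ZMod n)), ?_⟩, rfl⟩
    apply muι_injective n W
    rw [toMu_muι, NatTrans.naturality_apply]
    apply toUnit_injective
    apply Units.ext
    rw [toGm_cst, toUnit_map]
    show (O.ι ≫ V.hom).appTop ζ ^ ((a : ZMod n)).val = O.ι.appTop _
    rw [hO, ZMod.val_natCast, Nat.mod_eq_of_lt ha, Scheme.Hom.comp_appTop, map_pow]
    rfl

end Groth.L27.MuConst
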