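import Groth.Agent.L27.EtSite.BaseChangeAux
import Mathlib.FieldTheory.IsAlgClosed.Basic
import Mathlib.RingTheory.Spectrum.Prime.Noetherian
import Mathlib.RingTheory.Artinian.Module
import Mathlib.AlgebraicGeometry.Morphisms.Finite
import Mathlib.CategoryTheory.Limits.Shapes.ConcreteCategory
import Mathlib.CategoryTheory.Limits.FunctorCategory.Shapes.Products

/-! # Stalks of direct images along finite morphisms -/

universe u v w

open CategoryTheory CategoryTheory.Limits AlgebraicGeometry TopologicalSpace Opposite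

set_option backward.isDefEq.respectTransparency.types false
set_option linter.style.haveILetI false

namespace Groth.L27.EtSite.PushFinite

/-- Sections of a finite scheme over an algebraically closed field correspond to its points. -/
theorem bijective_sections {Z : Scheme.{u}} {Ω : Type u} [Field Ω] [IsAlgClosed Ω]
    (q : Z ⟶ Spec (CommRingCat.of Ω)) [IsFinite q] :
    Finite Z ∧ DiscreteTopology Z ∧
      Function.Bijective fun s : {s : Spec (CommRingCat.of Ω) ⟶ Z // s ≫ q = 𝟙 _} =>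
        s.1.base (default : Spec (CommRingCat.of Ω)) := by
  haveI : IsAffine Z := isAffine_of_isAffineHom q
  let R := Γ(Z, ⊤)
  obtain ⟨φ, hφ⟩ : ∃ φ : CommRingCat.of Ω ⟶ R, Spec.map φ = Z.isoSpec.inv ≫ q := Spec.map_surjective _
  letI : Algebra Ω R := φ.hom.toAlgebra
  haveI : Module.Finite Ω R := (IsFinite.SpecMap_iff φ).1 (hφ ▸ inferInstance)
  haveI : IsArtinianRing R := IsArtinianRing.of_finite Ω R
  haveI : DiscreteTopology (PrimeSpectrum R) := inferInstance
  haveI : Finite (PrimeSpectrum R) := inferInstance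
  let e : Z ≃ₜ PrimeSpectrum R := Z.isoSpec.hom.homeomorph
  refine ⟨Finite.of_equiv _ e.toEquiv.symm, e.symm.discreteTopology, ?_, ?_⟩
  · rintro ⟨s, hs⟩ ⟨s', hs'⟩ (hpt : s.base default = s'.base default)
    obtain ⟨a, ha⟩ : ∃ a, Spec.map a = s ≫ Z.isoSpec.hom := Spec.map_surjective _
    obtain ⟨a', ha'⟩ : ∃ a', Spec.map a' = s' ≫ Z.isoSpec.hom := Spec.map_surjective _
    have h1 : φ ≫ a = 𝟙 _ := Spec.map_injective (by rw [Spec.map_comp, ha, hφ, Category.assoc,
      Iso.hom_inv_id_assoc, hs, Spec.map_id])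
    have h1' : φ ≫ a' = 𝟙 _ := Spec.map_injective (by rw [Spec.map_comp, ha', hφ, Category.assoc,
      Iso.hom_inv_id_assoc, hs', Spec.map_id])
    have hker : RingHom.ker a.hom = RingHom.ker a'.hom := by
      have e1 : (Spec.map a) (default : Spec (CommRingCat.of Ω)) = (Spec.map a') (default : Spec (CommRingCat.of Ω)) := by
        rw [ha, ha', Scheme.Hom.comp_apply, Scheme.Hom.comp_apply, hpt]
      have hd : (default : Spec (CommRingCat.of Ω)).asIdeal = ⊥ := Ideal.eq_bot_of_prime _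
      have e2 : ((default : Spec (CommRingCat.of Ω)).asIdeal).comap a.hom = ((default : Spec (CommRingCat.of Ω)).asIdeal).comap a'.hom :=
        congrArg PrimeSpectrum.asIdeal e1
      rwa [hd, ← RingHom.ker_eq_comap_bot, ← RingHom.ker_eq_comap_bot] at e2
    have haa : a = a' := CommRingCat.hom_ext (RingHom.ext fun x => by
      have hx : x - φ.hom (a.hom x) ∈ RingHom.ker a.hom := by
        rw [RingHom.mem_ker, map_sub, show a.hom (φ.hom (a.hom x)) = a.hom x from congr($(h1).hom (a.hom x)), sub_self]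
      rw [hker, RingHom.mem_ker, map_sub, show a'.hom (φ.hom (a.hom x)) = a.hom x from congr($(h1').hom (a.hom x)),
        sub_eq_zero] at hx
      exact hx.symm)
    exact Subtype.ext ((cancel_mono Z.isoSpec.hom).1 (by rw [← ha, ← ha', haa]))
  · intro z
    let P : PrimeSpectrum R := e z
    let K := R ⧸ P.asIdeal
    haveI : Algebra.IsIntegral Ω K := by
      haveI : Module.Finite Ω K :=
        Module.Finite.of_surjective (Ideal.Quotient.mkₐ Ω P.asIdeal).toLinearMap Ideal.Quotient.mk_surjective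
      infer_instance
    let ε : Ω ≃ₐ[Ω] K := AlgEquiv.ofBijective (Algebra.ofId Ω K) IsAlgClosed.algebraMap_bijective_of_isIntegral
    let a : R →ₐ[Ω] Ω := ε.symm.toAlgHom.comp (Ideal.Quotient.mkₐ Ω P.asIdeal)
    refine ⟨⟨Spec.map (CommRingCat.ofHom a.toRingHom) ≫ Z.isoSpec.inv, ?_⟩, ?_⟩
    · rw [Category.assoc, ← hφ, ← Spec.map_comp]
      refine (congrArg Spec.map (CommRingCat.hom_ext (RingHom.ext fun x => ?_))).trans (Spec.map_id _)
      exact a.commutes x
    · refine e.injective ?_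
      show Z.isoSpec.hom ((Spec.map (CommRingCat.ofHom a.toRingHom) ≫ Z.isoSpec.inv) default) = P
      rw [← Scheme.Hom.comp_apply, Category.assoc, Iso.inv_hom_id, Category.comp_id]
      refine PrimeSpectrum.ext ?_
      show ((default : Spec (CommRingCat.of Ω)).asIdeal).comap a.toRingHom = P.asIdeal
      rw [show (default : Spec (CommRingCat.of Ω)).asIdeal = ⊥ from Ideal.eq_bot_of_prime _]
      ext x
      rw [Ideal.mem_comap, Ideal.mem_bot]
      show ε.symm (Ideal.Quotient.mk P.asIdeal x) = 0 ↔ _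
      rw [map_eq_zero_iff ε.symm ε.symm.injective, Ideal.Quotient.eq_zero_iff_mem]

variable {X Y : Scheme.{u}} (f : X ⟶ Y) {Ω : Type u} [Field Ω]
  {η : Spec (CommRingCat.of Ω) ⟶ Y}

variable [IsSepClosed Ω] in
/-- The point of `X ×_Y V` attached to a point over the geometric point. -/
noncomputable def pt (ξ : {ξ : Spec (CommRingCat.of Ω) ⟶ X // ξ ≫ f = η}) (V : Y.Etale)
    (y : (Scheme.pointSmallEtale η).fiber.obj V) :
    (Scheme.pointSmallEtale ξ.1).fiber.obj ((EtCoh.bc f).obj V) :=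
  Over.homMk (pullback.lift y.left ξ.1 ((Over.w y).trans ξ.2.symm)) (pullback.lift_snd _ _ _)

section

variable [IsSepClosed Ω]

theorem map_pt (ξ : {ξ : Spec (CommRingCat.of Ω) ⟶ X // ξ ≫ f = η}) {V V' : Y.Etale} (a : V' ⟶ V)
    (y : (Scheme.pointSmallEtale η).fiber.obj V') :
    (Scheme.pointSmallEtale ξ.1).fiber.map ((EtCoh.bc f).map a) (pt f ξ V' y) =
      pt f ξ V ((Scheme.pointSmallEtale η).fiber.map a y) := by
  refine Over.OverMorphism.ext (pullback.hom_ext ?_ ?_)
  · refine (Category.assoc _ _ _).trans ((congrArg (_ ≫ ·) (EtCoh.isPullback_bc_map f a).w).trans ?_)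
    exact ((Category.assoc _ _ _).symm.trans (congrArg (· ≫ a.left) (pullback.lift_fst _ _ _))).trans
      (pullback.lift_fst (y.left ≫ a.left) ξ.1 _).symm
  · refine (Category.assoc _ _ _).trans ((congrArg (_ ≫ ·) (MorphismProperty.Over.w ((EtCoh.bc f).map a))).trans ?_)
    exact (pullback.lift_snd _ _ _).trans (pullback.lift_snd (y.left ≫ a.left) ξ.1 _).symm

variable {A : Type w} [Category.{v} A] [HasColimitsOfSize.{u, u} A]

/-- Germs of sections of the direct image at the points over the geometric point. -/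
noncomputable def eval (η : Spec (CommRingCat.of Ω) ⟶ Y) (ξ : {ξ : Spec (CommRingCat.of Ω) ⟶ X // ξ ≫ f = η}) :
    (EtCoh.bc f).sheafPushforwardContinuous A Y.smallEtaleTopology X.smallEtaleTopology ⋙
      (Scheme.pointSmallEtale η).sheafFiber ⟶ (Scheme.pointSmallEtale ξ.1).sheafFiber where
  app F := (Scheme.pointSmallEtale η).presheafFiberDesc (P := (EtCoh.bc f).op ⋙ F.obj)
    (fun V y => (Scheme.pointSmallEtale ξ.1).toPresheafFiber ((EtCoh.bc f).obj V) (pt f ξ V y) F.obj)
    (fun V W a y => ((Scheme.pointSmallEtale ξ.1).toPresheafFiber_w ((EtCoh.bc f).map a) (pt f ξ V y) F.obj).trans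
      (congrArg (fun x => (Scheme.pointSmallEtale ξ.1).toPresheafFiber ((EtCoh.bc f).obj W) x F.obj) (map_pt f ξ a y)))
  naturality F G φ := by
    refine (Scheme.pointSmallEtale η).presheafFiber_hom_ext (P := (EtCoh.bc f).op ⋙ F.obj) fun V y => ?_
    refine (Category.assoc _ _ _).symm.trans
      ((congrArg (· ≫ _) ((Scheme.pointSmallEtale η).toPresheafFiber_naturality
        (Functor.whiskerLeft (EtCoh.bc f).op φ.hom) V y)).trans ((Category.assoc _ _ _).trans ?_))
    refine (congrArg (_ ≫ ·) ((Scheme.pointSmallEtale η).toPresheafFiber_presheafFiberDesc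
      (P := (EtCoh.bc f).op ⋙ G.obj) _ _ V y)).trans ?_
    refine Eq.trans ?_ (Category.assoc _ _ _)
    refine Eq.trans ?_ (congrArg (· ≫ _) ((Scheme.pointSmallEtale η).toPresheafFiber_presheafFiberDesc
      (P := (EtCoh.bc f).op ⋙ F.obj) _ _ V y).symm)
    exact ((Scheme.pointSmallEtale ξ.1).toPresheafFiber_naturality φ.hom _ _).symm

end

section

variable [IsAlgClosed Ω] [IsFinite f]
variable {A : Type w} [Category.{v} A] {FA : A → A → Type*} {CA : A → Type (u + 1)}
  [∀ (P Q : A), FunLike (FA P Q) (CA P) (CA Q)] [ConcreteCategory.{u + 1} A FA]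
  [HasColimitsOfSize.{u, u} A] [PreservesFilteredColimitsOfSize.{u, u} (forget A)]
  [∀ X : Scheme.{u}, X.smallEtaleTopology.HasSheafCompose (forget A)]
  (F : Sheaf X.smallEtaleTopology A)

omit [IsAlgClosed Ω] in
theorem eval_apply [IsSepClosed Ω] (ξ : {ξ : Spec (CommRingCat.of Ω) ⟶ X // ξ ≫ f = η}) (V : Y.Etale)
    (y : (Scheme.pointSmallEtale η).fiber.obj V) (s : ToType (F.obj.obj (op ((EtCoh.bc f).obj V)))) :
    (eval f η ξ).app F ((Scheme.pointSmallEtale η).toPresheafFiber V y ((EtCoh.bc f).op ⋙ F.obj) s) =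
      (Scheme.pointSmallEtale ξ.1).toPresheafFiber ((EtCoh.bc f).obj V) (pt f ξ V y) F.obj s := by
  have e : (Scheme.pointSmallEtale η).toPresheafFiber V y ((EtCoh.bc f).op ⋙ F.obj) ≫ (eval f η ξ).app F =
      (Scheme.pointSmallEtale ξ.1).toPresheafFiber ((EtCoh.bc f).obj V) (pt f ξ V y) F.obj := by
    dsimp only [eval]
    exact GrothendieckTopology.Point.toPresheafFiber_presheafFiberDesc _ _ _ V y
  exact (ConcreteCategory.comp_apply _ _ _).symm.trans (ConcreteCategory.congr_hom e s)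

variable (η)

/-- The section of the geometric fibre attached to a point over the geometric point. -/
noncomputable def sec (ξ : {ξ : Spec (CommRingCat.of Ω) ⟶ X // ξ ≫ f = η}) :
    Spec (CommRingCat.of Ω) ⟶ pullback f η :=
  pullback.lift ξ.1 (𝟙 _) (ξ.2.trans (Category.id_comp _).symm)

theorem sec_fibreMap [IsSepClosed Ω] (ξ : {ξ : Spec (CommRingCat.of Ω) ⟶ X // ξ ≫ f = η}) (V : Y.Etale)
    (y : (Scheme.pointSmallEtale η).fiber.obj V) :
    sec f η ξ ≫ fibreMap (IsPullback.of_hasPullback f η) V y = (pt f ξ V y).left := by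
  refine pullback.hom_ext ?_ ?_
  · refine ((Category.assoc _ _ _).trans (congrArg (sec f η ξ ≫ ·) (pullback.lift_fst _ _ _))).trans ?_
    exact ((Category.assoc _ _ _).symm.trans (congrArg (· ≫ y.left) (pullback.lift_snd _ _ _))).trans
      ((Category.id_comp _).trans (pullback.lift_fst _ _ _).symm)
  · exact ((Category.assoc _ _ _).trans (congrArg (sec f η ξ ≫ ·) (pullback.lift_snd _ _ _))).trans
      ((pullback.lift_fst _ _ _).trans (pullback.lift_snd _ _ _).symm)

theorem pt_default [IsSepClosed Ω] (ξ : {ξ : Spec (CommRingCat.of Ω) ⟶ X // ξ ≫ f = η}) (V : Y.Etale)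
    (y : (Scheme.pointSmallEtale η).fiber.obj V) :
    (pt f ξ V y).left.base (default : Spec (CommRingCat.of Ω)) =
      fibreMap (IsPullback.of_hasPullback f η) V y ((sec f η ξ) default) := by
  rw [← sec_fibreMap]
  exact Scheme.Hom.comp_apply _ _ _

theorem exists_sec (z : ↥(pullback f η)) : ∃ ξ, (sec f η ξ) default = z := by
  obtain ⟨-, -, hbij⟩ := bijective_sections (pullback.snd f η)
  obtain ⟨⟨s, hs⟩, hsz⟩ := hbij.2 z
  have hξ : (s ≫ pullback.fst f η) ≫ f = η := by
    rw [Category.assoc, pullback.condition, ← Category.assoc, hs, Category.id_comp]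
  refine ⟨⟨s ≫ pullback.fst f η, hξ⟩, ?_⟩
  rw [show sec f η ⟨s ≫ pullback.fst f η, hξ⟩ = s from pullback.hom_ext (pullback.lift_fst _ _ _)
    ((pullback.lift_snd _ _ _).trans hs.symm)]
  exact hsz

theorem sec_injective {ξ ξ' : {ξ : Spec (CommRingCat.of Ω) ⟶ X // ξ ≫ f = η}}
    (e : (sec f η ξ) default = (sec f η ξ') default) : ξ = ξ' := by
  obtain ⟨-, -, hbij⟩ := bijective_sections (pullback.snd f η)
  have := congrArg Subtype.val
    (@hbij.1 ⟨sec f η ξ, pullback.lift_snd _ _ _⟩ ⟨sec f η ξ', pullback.lift_snd _ _ _⟩ e)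
  exact Subtype.ext ((pullback.lift_fst _ _ _).symm.trans
    ((congrArg (· ≫ pullback.fst f η) this).trans (pullback.lift_fst _ _ _)))

theorem injective_eval :
    Function.Injective fun p (ξ : {ξ : Spec (CommRingCat.of Ω) ⟶ X // ξ ≫ f = η}) => (eval f η ξ).app F p := by
  let h := IsPullback.of_hasPullback f η
  intro p₁ p₂ hp
  obtain ⟨V, y, s₁, s₂, rfl, rfl⟩ :=
    (Scheme.pointSmallEtale η).toPresheafFiber_jointly_surjective₂ (P := (EtCoh.bc f).op ⋙ F.obj) p₁ p₂
  obtain ⟨V', a, y', hy', hs⟩ := exists_eq_of_locally F V y s₁ s₂ fun x hx => by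
    obtain ⟨z, rfl⟩ := exists_fibreMap_eq h V y x hx
    obtain ⟨ξ, rfl⟩ := exists_sec f η z
    have he : (eval f η ξ).app F _ = (eval f η ξ).app F _ := congrFun hp ξ
    rw [eval_apply, eval_apply] at he
    obtain ⟨T, a, e, he', hT⟩ := ((Scheme.pointSmallEtale ξ.1).toPresheafFiber_eq_iff' _ _ _ _).1 he
    exact ⟨T, a, ⟨e.left.base (default : Spec (CommRingCat.of Ω)), ((Scheme.Hom.comp_apply _ _ _).symm.trans
      (congrArg (fun q => q.left.base (default : Spec (CommRingCat.of Ω))) he')).trans (pt_default f η ξ V y)⟩, hT⟩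
  exact ((Scheme.pointSmallEtale η).toPresheafFiber_eq_iff' (P := (EtCoh.bc f).op ⋙ F.obj) _ _ _ _).2
    ⟨V', a, y', hy', hs⟩

theorem exists_piece (ξ : {ξ : Spec (CommRingCat.of Ω) ⟶ X // ξ ≫ f = η})
    (p : ToType ((Scheme.pointSmallEtale ξ.1).sheafFiber.obj F)) :
    ∃ (V : Y.Etale)
      (y : (Scheme.pointSmallEtale η).fiber.obj V) (W : ((EtCoh.bc f).obj V).left.Opens)
      (Q : X.Etale) (c : Q ⟶ (EtCoh.bc f).obj V) (_ : IsOpenImmersion c.left) (s : ToType (F.obj.obj (op Q)))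
      (q : (Scheme.pointSmallEtale ξ.1).fiber.obj Q),
      IsClosed (W : Set ((EtCoh.bc f).obj V).left) ∧ (W : Set ((EtCoh.bc f).obj V).left) ⊆ Set.range c.left ∧
      (∀ z, fibreMap (IsPullback.of_hasPullback f η) V y z ∈ W ↔ z = (sec f η ξ) default) ∧
      (Scheme.pointSmallEtale ξ.1).fiber.map c q = pt f ξ V y ∧
      (Scheme.pointSmallEtale ξ.1).toPresheafFiber Q q F.obj s = p := by
  let h := IsPullback.of_hasPullback f η
  obtain ⟨-, hdisc, -⟩ := bijective_sections (pullback.snd f η)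
  obtain ⟨U, u, s₀, hs₀⟩ := (Scheme.pointSmallEtale ξ.1).toPresheafFiber_jointly_surjective (P := F.obj) p
  obtain ⟨V, Qb, cb, hc, hd, hcov, L, w, hw⟩ := exists_piece_of_propA f (propA_of_isIntegralHom f) U
    (u.left.base (default : Spec (CommRingCat.of Ω)))
  let UL : Scheme.Etale U.left := @Scheme.Etale.mk _ _ L.left (etale_left L)
  obtain ⟨wl, -⟩ := exists_fiber u.left UL w hw
  let q : (Scheme.pointSmallEtale ξ.1).fiber.obj (Qb true) := Over.homMk wl.left
    ((congrArg (wl.left ≫ ·) (MorphismProperty.Over.w L).symm).trans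
      ((Category.assoc _ _ _).symm.trans ((congrArg (· ≫ U.hom) (Over.w wl)).trans (Over.w u))))
  have hq : (Scheme.pointSmallEtale ξ.1).fiber.map L q = u := Over.OverMorphism.ext (Over.w wl)
  haveI := hc
  let m := (Scheme.pointSmallEtale ξ.1).fiber.map (cb true) q
  let y : (Scheme.pointSmallEtale η).fiber.obj V := Over.homMk (m.left ≫ pullback.fst V.hom f)
    ((Category.assoc _ _ _).trans ((congrArg (m.left ≫ ·) pullback.condition).trans
      ((Category.assoc _ _ _).symm.trans ((congrArg (· ≫ f) (Over.w m)).trans ξ.2))))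
  have hm : m = pt f ξ V y := Over.OverMorphism.ext (pullback.hom_ext
    (pullback.lift_fst (m.left ≫ pullback.fst V.hom f) ξ.1 _).symm ((Over.w m).trans (pullback.lift_snd _ _ _).symm))
  have hclosed : IsClosed (Set.range (cb true).left) := by
    have : Set.range (cb true).left = (Set.range (cb false).left)ᶜ := by
      ext x
      constructor
      · exact fun hx hx' => Set.disjoint_left.1 (hd (show true ≠ false by decide)) hx hx'
      · intro hx
        obtain ⟨b, z, hz⟩ := hcov x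
        cases b
        · exact absurd ⟨z, hz⟩ hx
        · exact ⟨z, hz⟩
    rw [this]
    exact (cb false).left.isOpenEmbedding.isOpen_range.isClosed_compl
  obtain ⟨V₁, y₁, W₁, hW₁, hzW, hW⟩ := exists_clopen_subset h ((sec f η ξ) default) {(sec f η ξ) default}
    (isOpen_discrete _) rfl
  obtain ⟨⟨V₂, y₂⟩, ⟨a, ha⟩, ⟨b, hb⟩, -⟩ := IsCofilteredOrEmpty.cone_objs
    ((Scheme.pointSmallEtale η).fiber.elementsMk V y) ((Scheme.pointSmallEtale η).fiber.elementsMk V₁ y₁)
  let ma : ((EtCoh.bc f).obj V₂).left ⟶ ((EtCoh.bc f).obj V).left := ((EtCoh.bc f).map a).left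
  let mb : ((EtCoh.bc f).obj V₂).left ⟶ ((EtCoh.bc f).obj V₁).left := ((EtCoh.bc f).map b).left
  let O : ((EtCoh.bc f).obj V₂).left.Opens := ma ⁻¹ᵁ (cb true).left.opensRange ⊓ mb ⁻¹ᵁ W₁
  let Q : X.Etale := Scheme.Etale.mk (O.ι ≫ ((EtCoh.bc f).obj V₂).hom)
  let c : Q ⟶ (EtCoh.bc f).obj V₂ := MorphismProperty.Over.homMk O.ι rfl
  haveI : IsOpenImmersion c.left := inferInstanceAs (IsOpenImmersion O.ι)
  let dl : (O : Scheme.{u}) ⟶ (Qb true).left := IsOpenImmersion.lift (cb true).left (O.ι ≫ ma) (by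
    rintro _ ⟨o, rfl⟩
    exact o.2.1)
  have hdl : dl ≫ (cb true).left = O.ι ≫ ma := IsOpenImmersion.lift_fac _ _ _
  let d : Q ⟶ Qb true := MorphismProperty.Over.homMk dl
    ((congrArg (dl ≫ ·) (MorphismProperty.Over.w (cb true)).symm).trans ((Category.assoc _ _ _).symm.trans
      ((congrArg (· ≫ ((EtCoh.bc f).obj V).hom) hdl).trans ((Category.assoc _ _ _).trans
        (congrArg (O.ι ≫ ·) (MorphismProperty.Over.w ((EtCoh.bc f).map a)))))))
  have hr : Set.range c.left = (O : Set _) := Scheme.Opens.range_ι O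
  have eb : ∀ z, mb (fibreMap h V₂ y₂ z) = fibreMap h V₁ y₁ z := fun z =>
    (Scheme.Hom.comp_apply _ _ _).symm.trans ((congrArg (fun k : pullback f η ⟶ _ => k z)
      (fibreMap_map h b y₂)).trans (congrArg (fun w => fibreMap h V₁ w z) hb))
  have ea : ∀ z, ma (fibreMap h V₂ y₂ z) = fibreMap h V y z := fun z =>
    (Scheme.Hom.comp_apply _ _ _).symm.trans ((congrArg (fun k : pullback f η ⟶ _ => k z)
      (fibreMap_map h a y₂)).trans (congrArg (fun w => fibreMap h V w z) ha))
  have hmem : fibreMap h V y ((sec f η ξ) default) ∈ Set.range (cb true).left := by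
    rw [← pt_default f η, ← hm]
    exact ⟨q.left.base (default : Spec (CommRingCat.of Ω)), (Scheme.Hom.comp_apply _ _ _).symm⟩
  have hO : fibreMap h V₂ y₂ ((sec f η ξ) default) ∈ O :=
    ⟨show ma _ ∈ Set.range (cb true).left from (ea _).symm ▸ hmem, show mb _ ∈ W₁ from (eb _).symm ▸ hzW⟩
  have hlr : Set.range (pt f ξ V₂ y₂).left ⊆ Set.range O.ι := by
    rintro _ ⟨o, rfl⟩
    obtain rfl : o = (default : Spec (CommRingCat.of Ω)) := Subsingleton.elim (α := Spec (CommRingCat.of Ω)) _ _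
    refine (Scheme.Opens.range_ι O).ge ?_
    show (pt f ξ V₂ y₂).left.base (default : Spec (CommRingCat.of Ω)) ∈ O
    rw [pt_default f η]
    exact hO
  let ql : Spec (CommRingCat.of Ω) ⟶ (O : Scheme.{u}) := IsOpenImmersion.lift O.ι (pt f ξ V₂ y₂).left hlr
  have hql : ql ≫ O.ι = (pt f ξ V₂ y₂).left := IsOpenImmersion.lift_fac _ _ _
  let q₂ : (Scheme.pointSmallEtale ξ.1).fiber.obj Q := Over.homMk ql
    ((Category.assoc _ _ _).symm.trans ((congrArg (· ≫ ((EtCoh.bc f).obj V₂).hom) hql).trans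
      (Over.w (pt f ξ V₂ y₂))))
  have hcq : (Scheme.pointSmallEtale ξ.1).fiber.map c q₂ = pt f ξ V₂ y₂ := Over.OverMorphism.ext hql
  have hdq : (Scheme.pointSmallEtale ξ.1).fiber.map d q₂ = q := by
    have e2 : (Scheme.pointSmallEtale ξ.1).fiber.map (d ≫ cb true) q₂ = (Scheme.pointSmallEtale ξ.1).fiber.map (cb true) q := by
      rw [show d ≫ cb true = c ≫ (EtCoh.bc f).map a from MorphismProperty.Over.Hom.ext hdl,
        CategoryTheory.Functor.map_comp, ConcreteCategory.comp_apply, hcq, map_pt,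
        show (Scheme.pointSmallEtale η).fiber.map a y₂ = y from ha]
      exact hm.symm
    exact Over.OverMorphism.ext ((cancel_mono (cb true).left).1
      ((Category.assoc _ _ _).trans (congrArg (fun e => e.left) e2)))
  refine ⟨V₂, y₂, O, Q, c, inferInstance, F.obj.map d.op (F.obj.map L.op s₀), q₂, ?_, hr.ge,
    fun z => ⟨fun hz => hW z (eb z ▸ hz.2), fun hz => hz ▸ hO⟩, hcq, ?_⟩
  · exact (hclosed.preimage ma.continuous).inter (hW₁.preimage mb.continuous)
  · rw [GrothendieckTopology.Point.toPresheafFiber_w_apply, hdq,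
      GrothendieckTopology.Point.toPresheafFiber_w_apply, hq]
    exact hs₀

theorem surjective_eval (t : ∀ ξ : {ξ : Spec (CommRingCat.of Ω) ⟶ X // ξ ≫ f = η},
    ToType ((Scheme.pointSmallEtale ξ.1).sheafFiber.obj F)) :
    ∃ p : ToType (((EtCoh.bc f).sheafPushforwardContinuous A Y.smallEtaleTopology X.smallEtaleTopology ⋙
      (Scheme.pointSmallEtale η).sheafFiber).obj F), ∀ ξ, (eval f η ξ).app F p = t ξ := by
  classical
  let h := IsPullback.of_hasPullback f η
  obtain ⟨hfin, -, -⟩ := bijective_sections (pullback.snd f η)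
  have hpiece := fun ξ => exists_piece f η F ξ (t ξ)
  choose V y W Q c hc s q hW hWc hWz hcq hgerm using hpiece
  haveI := hc
  haveI : Finite {ξ : Spec (CommRingCat.of Ω) ⟶ X // ξ ≫ f = η} := Finite.of_injective (fun ξ => (sec f η ξ) default) fun _ _ e => sec_injective f η e
  let ι := {ξ : Spec (CommRingCat.of Ω) ⟶ X // ξ ≫ f = η}
  cases nonempty_fintype ι
  have key : ∀ σ : Finset ι, ∃ (V₀ : Y.Etale) (y₀ : (Scheme.pointSmallEtale η).fiber.obj V₀),
      ∀ i ∈ σ, ∃ a : V₀ ⟶ V i, (Scheme.pointSmallEtale η).fiber.map a y₀ = y i := by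
    intro σ
    induction σ using Finset.induction_on with
    | empty =>
      obtain ⟨⟨V₀, y₀⟩⟩ := (inferInstance : IsCofiltered (Scheme.pointSmallEtale η).fiber.Elements).nonempty
      exact ⟨V₀, y₀, fun i hi => absurd hi (Finset.notMem_empty i)⟩
    | insert i σ hi ih =>
      obtain ⟨V₀, y₀, h₀⟩ := ih
      obtain ⟨⟨V₁, y₁⟩, ⟨a, ha⟩, ⟨b, hb⟩, -⟩ := IsCofilteredOrEmpty.cone_objs
        ((Scheme.pointSmallEtale η).fiber.elementsMk V₀ y₀) ((Scheme.pointSmallEtale η).fiber.elementsMk (V i) (y i))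
      refine ⟨V₁, y₁, fun j hj => ?_⟩
      rcases Finset.mem_insert.1 hj with rfl | hj
      · exact ⟨b, hb⟩
      · obtain ⟨a', ha'⟩ := h₀ j hj
        exact ⟨a ≫ a', by rw [CategoryTheory.Functor.map_comp, ConcreteCategory.comp_apply,
          show (Scheme.pointSmallEtale η).fiber.map a y₁ = y₀ from ha, ha']⟩
  obtain ⟨V₀, y₀, h₀⟩ := key Finset.univ
  choose a ha using fun i => h₀ i (Finset.mem_univ i)
  let B : ι → Set ((EtCoh.bc f).obj V₀).left := fun i =>
    ((EtCoh.bc f).map (a i)).left ⁻¹' (W i : Set ((EtCoh.bc f).obj (V i)).left)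
  have hB : ∀ i, IsClopen (B i) := fun i => ⟨(hW i).preimage ((EtCoh.bc f).map (a i)).left.continuous,
    IsOpen.preimage ((EtCoh.bc f).map (a i)).left.continuous (W i).2⟩
  have hBz : ∀ i z, fibreMap h V₀ y₀ z ∈ B i ↔ z = (sec f η i) default := fun i z => by
    rw [← hWz i z, show fibreMap h (V i) (y i) z = ((EtCoh.bc f).map (a i)).left (fibreMap h V₀ y₀ z) from
      ((Scheme.Hom.comp_apply _ _ _).symm.trans ((congrArg (fun k : pullback f η ⟶ _ => k z)
        (fibreMap_map h (a i) y₀)).trans (congrArg (fun w => fibreMap h (V i) w z) (ha i)))).symm]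
    rfl
  let D : ι → Set ((EtCoh.bc f).obj V₀).left := fun i => B i ∩ ⋂ j : {j : ι // j ≠ i}, (B j.1)ᶜ
  haveI hι : ∀ i : ι, Finite {j : ι // j ≠ i} := fun i => Subtype.finite
  have hD : ∀ i, IsOpen (D i) := fun i =>
    IsOpen.inter (hB i).isOpen (isOpen_iInter_of_finite fun j : {j : ι // j ≠ i} => (hB j.1).1.isOpen_compl)
  let E : ((EtCoh.bc f).obj V₀).left.Opens := ⟨⋃ i, D i, isOpen_iUnion hD⟩
  have hDz : ∀ i, fibreMap h V₀ y₀ ((sec f η i) default) ∈ D i := fun i =>
    ⟨(hBz i _).2 rfl, Set.mem_iInter.2 fun j hj => j.2 (sec_injective f η ((hBz j.1 _).1 hj)).symm⟩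
  obtain ⟨V', a', y', hy', hE'⟩ := exists_shrink_fibre (η := η) V₀ y₀ E fun x hx => by
    obtain ⟨z, rfl⟩ := exists_fibreMap_eq h V₀ y₀ x hx
    obtain ⟨i, rfl⟩ := exists_sec f η z
    exact Set.mem_iUnion.2 ⟨i, hDz i⟩
  let m' : ((EtCoh.bc f).obj V').left ⟶ ((EtCoh.bc f).obj V₀).left := ((EtCoh.bc f).map a').left
  let O : ι → ((EtCoh.bc f).obj V').left.Opens := fun i => ⟨m' ⁻¹' D i, IsOpen.preimage m'.continuous (hD i)⟩
  let Q' : ι → X.Etale := fun i => Scheme.Etale.mk ((O i).ι ≫ ((EtCoh.bc f).obj V').hom)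
  let c' : ∀ i, Q' i ⟶ (EtCoh.bc f).obj V' := fun i => MorphismProperty.Over.homMk (O i).ι rfl
  haveI : ∀ i, IsOpenImmersion (c' i).left := fun i => inferInstanceAs (IsOpenImmersion (O i).ι)
  have hl : ∀ i, ∃ d : Q' i ⟶ Q i, d ≫ c i = c' i ≫ (EtCoh.bc f).map (a' ≫ a i) := by
    intro i
    let m : (O i : Scheme.{u}) ⟶ ((EtCoh.bc f).obj (V i)).left :=
      (O i).ι ≫ ((EtCoh.bc f).map (a' ≫ a i)).left
    let l : (O i : Scheme.{u}) ⟶ (Q i).left := IsOpenImmersion.lift (c i).left m (by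
      rintro _ ⟨o, rfl⟩
      have h1 : m' ((O i).ι o) ∈ B i := o.2.1
      have h2 : m o = ((EtCoh.bc f).map (a i)).left (m' ((O i).ι o)) := by
        show ((O i).ι ≫ ((EtCoh.bc f).map (a' ≫ a i)).left) o = _
        rw [(EtCoh.bc f).map_comp]
        rfl
      exact h2.symm ▸ hWc i h1)
    have hl : l ≫ (c i).left = m := IsOpenImmersion.lift_fac _ _ _
    exact ⟨MorphismProperty.Over.homMk l ((congrArg (l ≫ ·) (MorphismProperty.Over.w (c i)).symm).trans
      ((Category.assoc _ _ _).symm.trans ((congrArg (· ≫ ((EtCoh.bc f).obj (V i)).hom) hl).trans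
        ((Category.assoc _ _ _).trans (congrArg ((O i).ι ≫ ·) (MorphismProperty.Over.w _)))))),
      MorphismProperty.Over.Hom.ext hl⟩
  choose d hd using hl
  have hdQ : Pairwise fun i k => Disjoint (Set.range (c' i).left) (Set.range (c' k).left) := by
    intro i k hik
    show Disjoint (Set.range (O i).ι) (Set.range (O k).ι)
    rw [Scheme.Opens.range_ι, Scheme.Opens.range_ι]
    exact Set.disjoint_left.2 fun x (hi : m' x ∈ D i) (hk : m' x ∈ D k) => Set.mem_iInter.1 hk.2 ⟨i, hik⟩ hi.1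
  have hcQ : ∀ x : ((EtCoh.bc f).obj V').left, ∃ i z, (c' i).left z = x := fun x => by
    obtain ⟨i, hi⟩ := Set.mem_iUnion.1 (hE' ⟨x, rfl⟩)
    exact ⟨i, ⟨x, hi⟩, rfl⟩
  obtain ⟨s₀, hs₀⟩ := (bijective_of_disjoint ((sheafCompose X.smallEtaleTopology (forget A)).obj F) Q' c' hdQ hcQ).2
    fun i => F.obj.map (d i).op (s i)
  refine ⟨(Scheme.pointSmallEtale η).toPresheafFiber V' y' ((EtCoh.bc f).op ⋙ F.obj) s₀, fun ξ => ?_⟩
  refine Eq.trans ?_ (hgerm ξ)
  refine (eval_apply f F ξ V' y' s₀).trans ?_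
  have hm' : m' (fibreMap h V' y' ((sec f η ξ) default)) = fibreMap h V₀ y₀ ((sec f η ξ) default) :=
    (Scheme.Hom.comp_apply _ _ _).symm.trans ((congrArg (fun k : pullback f η ⟶ _ => k ((sec f η ξ) default))
      (fibreMap_map h a' y')).trans (congrArg (fun w => fibreMap h V₀ w ((sec f η ξ) default)) hy'))
  have hlr : Set.range (pt f ξ V' y').left ⊆ Set.range (O ξ).ι := by
    rintro _ ⟨o, rfl⟩
    obtain rfl : o = (default : Spec (CommRingCat.of Ω)) := Subsingleton.elim (α := Spec (CommRingCat.of Ω)) _ _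
    refine (Scheme.Opens.range_ι (O ξ)).ge ?_
    show m' ((pt f ξ V' y').left.base (default : Spec (CommRingCat.of Ω))) ∈ D ξ
    rw [pt_default f η, hm']
    exact hDz ξ
  let ql : Spec (CommRingCat.of Ω) ⟶ ((O ξ) : Scheme.{u}) := IsOpenImmersion.lift (O ξ).ι (pt f ξ V' y').left hlr
  have hql : ql ≫ (O ξ).ι = (pt f ξ V' y').left := IsOpenImmersion.lift_fac _ _ _
  let q' : (Scheme.pointSmallEtale ξ.1).fiber.obj (Q' ξ) := Over.homMk ql
    ((Category.assoc _ _ _).symm.trans ((congrArg (· ≫ ((EtCoh.bc f).obj V').hom) hql).trans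
      (Over.w (pt f ξ V' y'))))
  have hcq' : (Scheme.pointSmallEtale ξ.1).fiber.map (c' ξ) q' = pt f ξ V' y' := Over.OverMorphism.ext hql
  have hdq : (Scheme.pointSmallEtale ξ.1).fiber.map (d ξ) q' = q ξ := by
    have e2 : (Scheme.pointSmallEtale ξ.1).fiber.map (d ξ ≫ c ξ) q' = (Scheme.pointSmallEtale ξ.1).fiber.map (c ξ) (q ξ) := by
      rw [hd ξ, CategoryTheory.Functor.map_comp, ConcreteCategory.comp_apply, hcq', map_pt,
        CategoryTheory.Functor.map_comp, ConcreteCategory.comp_apply, hy', ha ξ, hcq ξ]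
    exact Over.OverMorphism.ext ((cancel_mono (c ξ).left).1
      ((Category.assoc _ _ _).trans (congrArg (fun e => e.left) e2)))
  have hs : F.obj.map (c' ξ).op s₀ = F.obj.map (d ξ).op (s ξ) := congrFun hs₀ ξ
  rw [← hcq', ← GrothendieckTopology.Point.toPresheafFiber_w_apply, hs,
    GrothendieckTopology.Point.toPresheafFiber_w_apply, hdq]

/-- The stalk of a direct image along a finite morphism is the product of the stalks over it. -/
theorem bijective_eval :
    Function.Bijective fun p (ξ : {ξ : Spec (CommRingCat.of Ω) ⟶ X // ξ ≫ f = η}) => (eval f η ξ).app F p :=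
  ⟨injective_eval f η F, fun t => (surjective_eval f η F t).imp fun _ hp => funext hp⟩

end

section

variable [IsAlgClosed Ω] [IsFinite f] (η)

/-- Stalks of direct images of sheaves of sets along finite morphisms, functorially. -/
theorem nonempty_pushSh_fiber_iso :
    Nonempty (EtDesc.pushSh f ⋙ (Scheme.pointSmallEtale η).sheafFiber (A := Type (u + 1)) ≅
      ∏ᶜ fun ξ : {ξ : Spec (CommRingCat.of Ω) ⟶ X // ξ ≫ f = η} =>
        ((Scheme.pointSmallEtale ξ.1).sheafFiber (A := Type (u + 1)) : EtDesc.Sh X ⥤ Type (u + 1))) := by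
  let T := fun ξ : {ξ : Spec (CommRingCat.of Ω) ⟶ X // ξ ≫ f = η} =>
    ((Scheme.pointSmallEtale ξ.1).sheafFiber (A := Type (u + 1)) : EtDesc.Sh X ⥤ Type (u + 1))
  let α : EtDesc.pushSh f ⋙ (Scheme.pointSmallEtale η).sheafFiber (A := Type (u + 1)) ⟶ ∏ᶜ T :=
    Pi.lift fun ξ => eval f η ξ
  haveI : ∀ F, IsIso (α.app F) := fun F => by
    let e := (piObjIso T F).toEquiv.trans (Concrete.productEquiv fun ξ => (T ξ).obj F)
    refine (ConcreteCategory.isIso_iff_bijective _).2 ((Function.Bijective.of_comp_iff' e.bijective _).1 ?_)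
    have h : (e ∘ α.app F) = fun p ξ => (eval f η ξ).app F p := by
      funext p ξ
      refine (Concrete.productEquiv_apply_apply (F := fun ξ => (T ξ).obj F) _ ξ).trans ?_
      refine (ConcreteCategory.comp_apply _ _ _).symm.trans ?_
      refine (ConcreteCategory.congr_hom (piObjIso_hom_comp_π T F ξ) _).trans ?_
      exact (ConcreteCategory.comp_apply _ _ _).symm.trans
        (ConcreteCategory.congr_hom (congr_app (Pi.lift_π (fun ξ => eval f η ξ) ξ) F) p)
    rw [h]
    exact bijective_eval f η F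
  haveI := NatIso.isIso_of_isIso_app α
  exact ⟨asIso α⟩

/-- Stalks of direct images of abelian sheaves along finite morphisms. -/
theorem nonempty_stalk_push_iso (F : EtCoh.Ab X) :
    Nonempty ((EtCoh.stalk η).obj ((EtCoh.push f).obj F) ≅
      ∐ fun ξ : {ξ : Spec (CommRingCat.of Ω) ⟶ X // ξ ≫ f = η} => (EtCoh.stalk ξ.1).obj F) := by
  obtain ⟨hfin, -, -⟩ := bijective_sections (pullback.snd f η)
  haveI : Finite {ξ : Spec (CommRingCat.of Ω) ⟶ X // ξ ≫ f = η} :=
    Finite.of_injective (fun ξ => (sec f η ξ) default) fun _ _ e => sec_injective f η e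
  let T := fun ξ : {ξ : Spec (CommRingCat.of Ω) ⟶ X // ξ ≫ f = η} => (EtCoh.stalk ξ.1).obj F
  let α : (EtCoh.stalk η).obj ((EtCoh.push f).obj F) ⟶ ∏ᶜ T := Pi.lift fun ξ => (eval f η ξ).app F
  haveI : IsIso α := by
    refine (ConcreteCategory.isIso_iff_bijective _).2
      ((Function.Bijective.of_comp_iff' (Concrete.productEquiv T).bijective _).1 ?_)
    have h : (Concrete.productEquiv T ∘ α) = fun p ξ => (eval f η ξ).app F p := by
      funext p ξ
      refine (Concrete.productEquiv_apply_apply (F := T) _ ξ).trans ?_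
      exact (ConcreteCategory.comp_apply _ _ _).symm.trans
        (ConcreteCategory.congr_hom (Pi.lift_π (fun ξ => (eval f η ξ).app F) ξ) p)
    rw [h]
    exact bijective_eval f η F
  exact ⟨asIso α ≪≫ (biproduct.isoProduct T).symm ≪≫ biproduct.isoCoproduct T⟩

end

end Groth.L27.EtSite.PushFinite
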