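import Groth.Agent.L27.EtSite.PushStalk
import Groth.Agent.L27.EtSite.HofPush
import Groth.Agent.L27.LimCoh.HMaps
import Groth.Agent.L27.EtSite.Pull
import Groth.Agent.S0071

/-! # Cohomology classes vanishing on the members of a closed cover -/

universe u

open CategoryTheory CategoryTheory.Limits AlgebraicGeometry Opposite

set_option backward.isDefEq.respectTransparency.types false
set_option linter.style.haveILetI false

namespace Groth.L27.ClosedCover

open EtSite LimCoh

variable {X Y : Scheme.{u}} (a : X ⟶ Y) [IsClosedImmersion a]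

/-- The unit of a closed immersion is bijective on stalks at points of the closed subscheme. -/
theorem bijective_stalk_unit (F : EtCoh.Ab Y) {Ω : Type u} [Field Ω] [IsSepClosed Ω]
    (ξ : Spec (CommRingCat.of Ω) ⟶ X) :
    Function.Bijective ((EtCoh.stalk (ξ ≫ a)).map ((EtCoh.pullPushAdj a).unit.app F)) := by
  haveI := isIso_counit a (propA_of_isIntegralHom a) ((EtCoh.pull a).obj F)
  haveI : IsIso ((EtCoh.pull a).map ((EtCoh.pullPushAdj a).unit.app F)) :=
    (IsIso.eq_inv_of_inv_hom_id (g := (EtCoh.pull a).map ((EtCoh.pullPushAdj a).unit.app F))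
      ((EtCoh.pullPushAdj a).left_triangle_components F)) ▸ inferInstance
  haveI : IsIso ((EtCoh.stalk (ξ ≫ a)).map ((EtCoh.pullPushAdj a).unit.app F)) :=
    (NatIso.isIso_map_iff (stalkPullIso a ξ) _).1
      (inferInstanceAs (IsIso ((EtCoh.stalk ξ).map ((EtCoh.pull a).map ((EtCoh.pullPushAdj a).unit.app F)))))
  exact ConcreteCategory.bijective_of_isIso _

theorem eq_comp_of_mem_range {Ω : Type u} [Field Ω]
    (η : Spec (CommRingCat.of Ω) ⟶ Y) (h : η.base default ∈ Set.range a.base) :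
    ∃ ξ : Spec (CommRingCat.of Ω) ⟶ X, ξ ≫ a = η := by
  let p : pullback a η ⟶ Spec (CommRingCat.of Ω) := pullback.snd a η
  haveI : Surjective p := ⟨fun t => by
    obtain rfl : t = default := Subsingleton.elim (α := Spec (CommRingCat.of Ω)) _ _
    exact (Scheme.Pullback.range_snd a η).symm.subset h⟩
  haveI : IsClosedImmersion p := inferInstanceAs (IsClosedImmersion (pullback.snd a η))
  haveI : IsIso p := isIso_of_isClosedImmersion_of_surjective p
  refine ⟨inv p ≫ pullback.fst a η, ?_⟩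
  rw [Category.assoc, pullback.condition, IsIso.inv_hom_id_assoc]

theorem epi_unit (F : EtCoh.Ab Y) : Epi ((EtCoh.pullPushAdj a).unit.app F) := by
  refine (epi_iff_stalks _).2 fun Ω _ _ η => ?_
  by_cases h : η.base default ∈ Set.range a.base
  · obtain ⟨ξ, rfl⟩ := eq_comp_of_mem_range a η h
    exact (bijective_stalk_unit a F ξ).2
  · intro y
    have hz := AddCommGrpCat.subsingleton_of_isZero (isZero_stalk_push a ((EtCoh.pull a).obj F) η h)
    exact ⟨0, @Subsingleton.elim _ hz _ _⟩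

theorem isZero_stalk_kernel_unit (F : EtCoh.Ab Y) {Ω : Type u} [Field Ω] [IsSepClosed Ω]
    (η : Spec (CommRingCat.of Ω) ⟶ Y) (h : η.base default ∈ Set.range a.base) :
    IsZero ((EtCoh.stalk η).obj (kernel ((EtCoh.pullPushAdj a).unit.app F))) := by
  obtain ⟨ξ, rfl⟩ := eq_comp_of_mem_range a η h
  let S := EtCoh.stalk (ξ ≫ a)
  haveI : Mono (S.map (kernel.ι ((EtCoh.pullPushAdj a).unit.app F))) := inferInstance
  have hinj := (AddCommGrpCat.mono_iff_injective (S.map (kernel.ι ((EtCoh.pullPushAdj a).unit.app F)))).1 inferInstance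
  have hz : ∀ x, S.map (kernel.ι ((EtCoh.pullPushAdj a).unit.app F)) x = 0 := fun x =>
    (bijective_stalk_unit a F ξ).1 (by
      rw [← ConcreteCategory.comp_apply, ← Functor.map_comp, kernel.condition, Functor.map_zero, map_zero]
      rfl)
  have : Subsingleton (S.obj (kernel ((EtCoh.pullPushAdj a).unit.app F))) :=
    ⟨fun x y => hinj ((hz x).trans (hz y).symm)⟩
  exact AddCommGrpCat.isZero_of_subsingleton _

theorem map_unit_eq_zero [PreservesFiniteLimits (EtCoh.pull a)] (F : EtCoh.Ab Y) (n : ℕ) (e : EtCoh.H Y F n)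
    (he : EtCore.Hpull a F n e = 0) :
    (EtCoh.HF Y n).map ((EtCoh.pullPushAdj a).unit.app F) e = 0 := by
  refine (EtSite.bijective_HofPush a _ (fun q hq => Groth.Agent.S0071.result a _ q hq) n).1 ?_
  exact (congrArg (EtLim.HofPush a ((EtCoh.pull a).obj F) n) (EtSite.HF_map_apply _ n e)).trans
    (((EtSite.Hpull_apply a F n e).symm.trans he).trans (map_zero _).symm)

theorem eq_zero_of_cover {Z Z₁ Z₂ W : Scheme.{u}} (a : Z₁ ⟶ Z) (b : Z₂ ⟶ Z) [IsClosedImmersion a]
    [IsClosedImmersion b] (hab : Set.range a.base ∪ Set.range b.base = Set.univ)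
    (e : W ⟶ Z₂) (e' : W ⟶ Z₁) [IsClosedImmersion e] (w : e' ≫ a = e ≫ b)
    (hr : Set.range e.base = b.base ⁻¹' Set.range a.base)
    [PreservesFiniteLimits (EtCoh.pull a)] [PreservesFiniteLimits (EtCoh.pull b)]
    (F : EtCoh.Ab Z) (n : ℕ) (hW : Subsingleton (EtCoh.H W ((EtCoh.pull (e' ≫ a)).obj F) n))
    (ξ : EtCoh.H Z F (n + 1)) (h1 : EtCore.Hpull a F (n + 1) ξ = 0)
    (h2 : EtCore.Hpull b F (n + 1) ξ = 0) : ξ = 0 := by
  haveI := preservesFiniteLimits_pull e
  let A := (EtCoh.push a).obj ((EtCoh.pull a).obj F)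
  let u : F ⟶ A := (EtCoh.pullPushAdj a).unit.app F
  haveI : Epi u := epi_unit a F
  let S := ShortComplex.mk (kernel.ι u) u (kernel.condition u)
  have hS : S.ShortExact := { exact := ShortComplex.exact_of_f_is_kernel _ (kernelIsKernel u) }
  obtain ⟨η, hη⟩ : ∃ η : EtCoh.H Z S.X₁ (n + 1), (EtCoh.HF Z (n + 1)).map S.f η = ξ := by
    obtain ⟨η, hη⟩ := Abelian.Ext.covariant_sequence_exact₂ _ hS ξ
      ((EtSite.HF_map_apply u (n + 1) ξ).symm.trans (map_unit_eq_zero a F (n + 1) ξ h1))
    exact ⟨η, (EtSite.HF_map_apply _ _ _).trans hη⟩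
  haveI : IsIso ((EtCoh.pullPushAdj b).unit.app S.X₁) := by
    refine (isIso_unit_iff b (propA_of_isIntegralHom b) _).2 ?_
    rintro y ⟨Ω, _, _, η', hη', hne⟩
    by_contra hy
    refine hne (isZero_stalk_kernel_unit a F η' ?_)
    rw [show η'.base default = y from hη'.subset ⟨default, rfl⟩]
    exact ((hab.symm.subset (Set.mem_univ y)).resolve_right hy)
  let hS' := hS.map_of_exact (EtCoh.pull b)
  have hη0 : (EtCoh.HF Z₂ (n + 1)).map (S.map (EtCoh.pull b)).f (EtCore.Hpull b S.X₁ (n + 1) η) = 0 := by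
    refine (LimCoh.Hpull_map b S.f (n + 1) η).symm.trans ?_
    rw [hη]
    exact h2
  obtain ⟨γ, hγ⟩ := LimCoh.exists_δH hS' n _ hη0
  let G := (EtCoh.pull b).obj A
  haveI : IsIso ((EtCoh.pullPushAdj e).unit.app G) := by
    refine (isIso_unit_iff e (propA_of_isIntegralHom e) _).2 ?_
    rintro y ⟨Ω, _, _, η', hη', hne⟩
    by_contra hy
    refine hne ((isZero_stalk_push a ((EtCoh.pull a).obj F) (η' ≫ b) ?_).of_iso ((stalkPullIso b η').app A))
    intro hmem
    refine hy (hr.symm.subset ?_)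
    rw [← show η'.base default = y from hη'.subset ⟨default, rfl⟩]
    exact hmem
  haveI := isIso_counit a (propA_of_isIntegralHom a) ((EtCoh.pull a).obj F)
  let α : (EtCoh.pull e).obj G ≅ (EtCoh.pull (e' ≫ a)).obj F :=
    ((EtCore.pullComp e b).symm ≪≫ EtCore.pullCongr w.symm ≪≫ EtCore.pullComp e' a).app A ≪≫
      (EtCoh.pull e').mapIso (asIso ((EtCoh.pullPushAdj a).counit.app ((EtCoh.pull a).obj F))) ≪≫
      ((EtCore.pullComp e' a).app F).symm
  have hW' : Subsingleton (EtCoh.H W ((EtCoh.pull e).obj G) n) :=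
    @Equiv.subsingleton _ _ (((EtCoh.HF W n).mapIso α).addCommGroupIsoToAddEquiv).toEquiv hW
  have hγ0 : γ = 0 :=
    (EtSite.bijective_Hpull e G (fun q hq => Groth.Agent.S0071.result e _ q hq) n).1
      (@Subsingleton.elim _ hW' _ _)
  have hη' : η = 0 := by
    refine (EtSite.bijective_Hpull b S.X₁ (fun q hq => Groth.Agent.S0071.result b _ q hq) (n + 1)).1 ?_
    exact (hγ.symm.trans ((congrArg _ hγ0).trans (map_zero _))).trans (map_zero _).symm
  exact hη.symm.trans ((congrArg ((EtCoh.HF Z (n + 1)).map S.f) hη').trans (map_zero _))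

end Groth.L27.ClosedCover
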