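import Groth.Agent.L27.EtSite.BaseChange
import Groth.Agent.L27.EtSite.Common
import Mathlib.AlgebraicGeometry.Morphisms.Flat
import Mathlib.FieldTheory.IsAlgClosed.AlgebraicClosure

/-! # Sections of inverse images along morphisms with connected geometric fibres -/

universe u v w

open CategoryTheory CategoryTheory.Limits AlgebraicGeometry TopologicalSpace Opposite

set_option backward.isDefEq.respectTransparency.types false
set_option linter.style.haveILetI false

namespace Groth.L27.EtSite.CF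

variable {X S : Scheme.{u}} (f : X ⟶ S)

/-- Morphisms between spectra of fields are epimorphisms. -/
theorem epi_field {Ω Ω' : Type u} [Field Ω] [Field Ω']
    (π : Spec (CommRingCat.of Ω') ⟶ Spec (CommRingCat.of Ω)) : Epi π := by
  have : Flat π := by
    rw [← Spec.map_preimage π, HasRingHomProperty.Spec_iff (P := @Flat), RingHom.Flat]
    infer_instance
  have : Surjective π := ⟨fun x => ⟨default, Subsingleton.elim (α := Spec (CommRingCat.of Ω)) _ _⟩⟩
  exact Flat.epi_of_flat_of_surjective π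

variable {A : Type w} [Category.{v} A] {FA : A → A → Type*} {CA : A → Type (u + 1)}
  [∀ (P Q : A), FunLike (FA P Q) (CA P) (CA Q)] [ConcreteCategory.{u + 1} A FA]
  [HasColimitsOfSize.{u, u} A] [HasProducts.{u} A] [PreservesFilteredColimitsOfSize.{u, u} (forget A)]
  [∀ X : Scheme.{u}, X.smallEtaleTopology.HasSheafCompose (forget A)]
  [((EtCoh.bc f).sheafPushforwardContinuous A S.smallEtaleTopology X.smallEtaleTopology).IsRightAdjoint]
  (F : Sheaf S.smallEtaleTopology A)

section Locus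

variable {V : S.Etale} (t : ToType ((BC.P f F).obj.obj (op ((EtCoh.bc f).obj V))))

/-- The open locus where `t` is the pullback of `s`. -/
def locus {W : S.Etale} (a : W ⟶ V) (s : ToType (F.obj.obj (op W))) : Set ((EtCoh.bc f).obj W).left :=
  {q | ∃ (Q : X.Etale) (c : Q ⟶ (EtCoh.bc f).obj W) (q' : Q.left), c.left.base q' = q ∧
    (BC.P f F).obj.map c.op ((BC.P f F).obj.map ((EtCoh.bc f).map a).op t) =
      (BC.P f F).obj.map c.op (BC.eta f F W s)}

theorem isOpen_locus {W : S.Etale} (a : W ⟶ V) (s : ToType (F.obj.obj (op W))) :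
    IsOpen (locus f F t a s) := by
  refine isOpen_iff_forall_mem_open.2 ?_
  rintro _ ⟨Q, c, q', rfl, hc⟩
  haveI : AlgebraicGeometry.Etale c.left := etale_left c
  exact ⟨Set.range c.left, by rintro _ ⟨x, rfl⟩; exact ⟨Q, c, x, rfl, hc⟩,
    c.left.isOpenMap.isOpen_range, q', rfl⟩

theorem map_mem_locus {W W' : S.Etale} {a : W ⟶ V} (b : W' ⟶ W) {a' : W' ⟶ V} (e : b ≫ a = a')
    {s : ToType (F.obj.obj (op W))} {q : ((EtCoh.bc f).obj W').left}
    (hq : q ∈ locus f F t a' (F.obj.map b.op s)) : ((EtCoh.bc f).map b).left.base q ∈ locus f F t a s := by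
  obtain ⟨Q, c, q', rfl, hc⟩ := hq
  subst e
  refine ⟨Q, c ≫ (EtCoh.bc f).map b, q', Scheme.Hom.comp_apply _ _ _, ?_⟩
  rw [BC.eta_naturality] at hc
  simp only [op_comp, Functor.map_comp, ConcreteCategory.comp_apply] at hc ⊢
  exact hc

theorem mem_locus_of_map {W W' : S.Etale} {a : W ⟶ V} (b : W' ⟶ W) {a' : W' ⟶ V} (e : b ≫ a = a')
    {s : ToType (F.obj.obj (op W))} {q : ((EtCoh.bc f).obj W').left}
    (hq : ((EtCoh.bc f).map b).left.base q ∈ locus f F t a s) : q ∈ locus f F t a' (F.obj.map b.op s) := by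
  obtain ⟨Q, c, q', hq', hc⟩ := hq
  subst e
  obtain ⟨R, i, j, r, hr1, -, hij⟩ := exists_common ((EtCoh.bc f).map b) c q q' hq'.symm
  refine ⟨R, i, r, hr1, ?_⟩
  have key : ∀ σ, (BC.P f F).obj.map i.op ((BC.P f F).obj.map ((EtCoh.bc f).map b).op σ) =
      (BC.P f F).obj.map j.op ((BC.P f F).obj.map c.op σ) := fun σ => by
    simp only [← ConcreteCategory.comp_apply, ← Functor.map_comp, ← op_comp, hij]
  rw [BC.eta_naturality, CategoryTheory.Functor.map_comp, op_comp, CategoryTheory.Functor.map_comp,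
    ConcreteCategory.comp_apply, key, key, hc]

end Locus

section Fibre

variable {Ω : Type u} [Field Ω] [IsSepClosed Ω] {η : Spec (CommRingCat.of Ω) ⟶ S}
  {V : S.Etale} (y : (Scheme.pointSmallEtale η).fiber.obj V)
  (t : ToType ((BC.P f F).obj.obj (op ((EtCoh.bc f).obj V))))

/-- The part of the geometric fibre where `t` is the pullback of `s`. -/
def O {W : S.Etale} (a : W ⟶ V) (w : (Scheme.pointSmallEtale η).fiber.obj W)
    (s : ToType (F.obj.obj (op W))) : Set ↥(pullback f η) :=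
  (fibreMap (IsPullback.of_hasPullback f η) W w) ⁻¹' locus f F t a s

theorem fibreMap_base {W W' : S.Etale} (b : W' ⟶ W) (w' : (Scheme.pointSmallEtale η).fiber.obj W')
    (z : ↥(pullback f η)) :
    ((EtCoh.bc f).map b).left.base (fibreMap (IsPullback.of_hasPullback f η) W' w' z) =
      fibreMap (IsPullback.of_hasPullback f η) W ((Scheme.pointSmallEtale η).fiber.map b w') z :=
  (Scheme.Hom.comp_apply _ _ _).symm.trans
    (congrArg (fun m : pullback f η ⟶ _ => m z) (fibreMap_map _ b w'))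

/-- Every point of the fibre lies in some locus. -/
theorem exists_mem_O (z : ↥(pullback f η)) :
    ∃ (W : S.Etale) (a : W ⟶ V) (w : (Scheme.pointSmallEtale η).fiber.obj W) (s : ToType (F.obj.obj (op W))),
      (Scheme.pointSmallEtale η).fiber.map a w = y ∧ z ∈ O f F t a w s := by
  obtain ⟨Ω', _, _, ζ, hζ⟩ := exists_geometric_point z
  let ξ := ζ ≫ pullback.fst f η
  let Φ := Scheme.pointSmallEtale ξ
  obtain ⟨p, hp⟩ := (ConcreteCategory.bijective_of_isIso
    ((Φ.sheafFiberComapIso (EtCoh.bc f) (EtCoh.coverPreserving_bc f) A).hom.app F)).2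
      (Φ.toPresheafFiber _ (BC.ptX' ζ V y) (BC.P f F).obj t)
  obtain ⟨U, x, s, rfl⟩ := (Φ.comap (EtCoh.bc f) (EtCoh.coverPreserving_bc f)).toPresheafFiber_jointly_surjective
    (P := F.obj) p
  have hkey : Φ.toPresheafFiber _ (BC.ptX' ζ V y) (BC.P f F).obj t =
      Φ.toPresheafFiber ((EtCoh.bc f).obj U) x (BC.P f F).obj (BC.eta f F U s) :=
    hp.symm.trans (((ConcreteCategory.comp_apply _ _ _).symm.trans (ConcreteCategory.congr_hom
      (toPresheafFiber_sheafFiberComapIso_hom Φ (EtCoh.bc f) (EtCoh.coverPreserving_bc f) A F U x) s)).trans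
        (ConcreteCategory.comp_apply _ _ _))
  let xd := BC.down f x
  obtain ⟨u, hu⟩ := exists_descend η U (ζ ≫ pullback.snd f η) xd.left
    ((Over.w xd).trans ((Category.assoc _ _ _).trans ((congrArg (ζ ≫ ·) pullback.condition).trans
      (Category.assoc _ _ _).symm)))
  have hx : BC.ptX' ζ U u = x := by
    rw [← BC.up_down f x]
    refine Over.OverMorphism.ext (pullback.hom_ext ?_ ?_)
    · exact ((Category.assoc _ _ _).trans ((congrArg (ζ ≫ ·) (pullback.lift_fst _ _ _)).trans
        (Category.assoc _ _ _).symm)).trans (hu.trans (pullback.lift_fst _ _ _).symm)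
    · exact ((Category.assoc _ _ _).trans (congrArg (ζ ≫ ·) (pullback.lift_snd _ _ _))).trans
        (pullback.lift_snd _ _ _).symm
  obtain ⟨⟨W, w⟩, ⟨a, ha⟩, ⟨b, hb⟩, -⟩ := IsCofilteredOrEmpty.cone_objs
    ((Scheme.pointSmallEtale η).fiber.elementsMk V y) ((Scheme.pointSmallEtale η).fiber.elementsMk U u)
  refine ⟨W, a, w, F.obj.map b.op s, ha, ?_⟩
  have heq : Φ.toPresheafFiber _ (BC.ptX' ζ W w) (BC.P f F).obj ((BC.P f F).obj.map ((EtCoh.bc f).map a).op t) =
      Φ.toPresheafFiber _ (BC.ptX' ζ W w) (BC.P f F).obj (BC.eta f F W (F.obj.map b.op s)) := by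
    rw [BC.eta_naturality, GrothendieckTopology.Point.toPresheafFiber_w_apply,
      GrothendieckTopology.Point.toPresheafFiber_w_apply, BC.map_ptX', BC.map_ptX',
      show (Scheme.pointSmallEtale η).fiber.map a w = y from ha,
      show (Scheme.pointSmallEtale η).fiber.map b w = u from hb, hx]
    exact hkey
  obtain ⟨Q, c, q, hq, hc⟩ := (Φ.toPresheafFiber_eq_iff' _ _ _ _).1 heq
  refine ⟨Q, c, q.left.base (default : Spec (CommRingCat.of Ω')), ?_, hc⟩
  rw [← hζ]
  exact (Scheme.Hom.comp_apply _ _ _).symm.trans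
    ((congrArg (fun e => e.left.base (default : Spec (CommRingCat.of Ω'))) hq).trans (Scheme.Hom.comp_apply _ _ _))

/-- Two elements over `(V, y)` have a common refinement over `(V, y)`. -/
theorem exists_refine {W W' : S.Etale} {a : W ⟶ V} {a' : W' ⟶ V}
    {w : (Scheme.pointSmallEtale η).fiber.obj W} {w' : (Scheme.pointSmallEtale η).fiber.obj W'}
    (ha : (Scheme.pointSmallEtale η).fiber.map a w = y) (ha' : (Scheme.pointSmallEtale η).fiber.map a' w' = y) :
    ∃ (R : S.Etale) (b : R ⟶ W) (b' : R ⟶ W') (r : (Scheme.pointSmallEtale η).fiber.obj R),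
      (Scheme.pointSmallEtale η).fiber.map b r = w ∧ (Scheme.pointSmallEtale η).fiber.map b' r = w' ∧
        b ≫ a = b' ≫ a' := by
  obtain ⟨⟨R, r⟩, ⟨b, hb⟩, ⟨b', hb'⟩, hc⟩ := IsCofiltered.cospan
    (show (Scheme.pointSmallEtale η).fiber.elementsMk W w ⟶ (Scheme.pointSmallEtale η).fiber.elementsMk V y from ⟨a, ha⟩)
    (show (Scheme.pointSmallEtale η).fiber.elementsMk W' w' ⟶ (Scheme.pointSmallEtale η).fiber.elementsMk V y from ⟨a', ha'⟩)
  exact ⟨R, b, b', r, hb, hb', congrArg Subtype.val hc⟩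

/-- Sections with overlapping loci have the same germ. -/
theorem germ_eq_of_mem {W : S.Etale} {a : W ⟶ V} {w : (Scheme.pointSmallEtale η).fiber.obj W}
    {s : ToType (F.obj.obj (op W))} {W' : S.Etale} {a' : W' ⟶ V}
    {w' : (Scheme.pointSmallEtale η).fiber.obj W'} {s' : ToType (F.obj.obj (op W'))}
    (ha : (Scheme.pointSmallEtale η).fiber.map a w = y) (ha' : (Scheme.pointSmallEtale η).fiber.map a' w' = y)
    {z : ↥(pullback f η)} (hz : z ∈ O f F t a w s) (hz' : z ∈ O f F t a' w' s') :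
    (Scheme.pointSmallEtale η).toPresheafFiber W w F.obj s =
      (Scheme.pointSmallEtale η).toPresheafFiber W' w' F.obj s' := by
  obtain ⟨R, b, b', r, hb, hb', hbb⟩ := exists_refine y ha ha'
  have h1 : fibreMap (IsPullback.of_hasPullback f η) R r z ∈ locus f F t (b ≫ a) (F.obj.map b.op s) :=
    mem_locus_of_map f F t b rfl (by rw [fibreMap_base, hb]; exact hz)
  have h2 : fibreMap (IsPullback.of_hasPullback f η) R r z ∈ locus f F t (b ≫ a) (F.obj.map b'.op s') :=
    mem_locus_of_map f F t b' hbb.symm (by rw [fibreMap_base, hb']; exact hz')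
  obtain ⟨Q, c, q, hq, hc⟩ := h1
  obtain ⟨Q', c', q', hq', hc'⟩ := h2
  obtain ⟨T, i, j, p, hp, -, hij⟩ := exists_common c c' q q' (hq.trans hq'.symm)
  have hT : (BC.P f F).obj.map (i ≫ c).op (BC.eta f F R (F.obj.map b.op s)) =
      (BC.P f F).obj.map (i ≫ c).op (BC.eta f F R (F.obj.map b'.op s')) := by
    conv_rhs => rw [hij, op_comp, Functor.map_comp, ConcreteCategory.comp_apply, ← hc',
      ← ConcreteCategory.comp_apply, ← Functor.map_comp, ← op_comp, ← hij]
    rw [op_comp, CategoryTheory.Functor.map_comp, ConcreteCategory.comp_apply, ConcreteCategory.comp_apply]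
    exact congrArg _ hc.symm
  -- a geometric point over `z` through `T`
  obtain ⟨Ω', _, _, ζ, hζ⟩ := exists_geometric_point z
  let ξ := ζ ≫ pullback.fst f η
  let Φ := Scheme.pointSmallEtale ξ
  let TR : Scheme.Etale ((EtCoh.bc f).obj R).left := @Scheme.Etale.mk _ _ (i ≫ c).left (etale_left (i ≫ c))
  obtain ⟨pl, -⟩ := exists_fiber (BC.ptX' ζ R r).left TR p (by
    show (i ≫ c).left.base p = (ζ ≫ fibreMap (IsPullback.of_hasPullback f η) R r).base default
    rw [Scheme.Hom.comp_apply, hζ, ← hq, ← hp]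
    exact Scheme.Hom.comp_apply _ _ _)
  let e : Φ.fiber.obj T := Over.homMk pl.left
    ((congrArg (pl.left ≫ ·) (MorphismProperty.Over.w (i ≫ c)).symm).trans
      ((Category.assoc _ _ _).symm.trans ((congrArg (· ≫ ((EtCoh.bc f).obj R).hom) (Over.w pl)).trans
        (Over.w (BC.ptX' ζ R r)))))
  have he : Φ.fiber.map (i ≫ c) e = BC.ptX' ζ R r := Over.OverMorphism.ext (Over.w pl)
  have hg := congrArg (Φ.toPresheafFiber T e (BC.P f F).obj) hT
  rw [GrothendieckTopology.Point.toPresheafFiber_w_apply, GrothendieckTopology.Point.toPresheafFiber_w_apply,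
    he] at hg
  -- transport to the stalk of `F`
  have key : ∀ σ, ((Φ.sheafFiberComapIso (EtCoh.bc f) (EtCoh.coverPreserving_bc f) A).hom.app F)
      ((Φ.comap (EtCoh.bc f) (EtCoh.coverPreserving_bc f)).toPresheafFiber R (BC.ptX' ζ R r) F.obj σ) =
      Φ.toPresheafFiber _ (BC.ptX' ζ R r) (BC.P f F).obj (BC.eta f F R σ) := fun σ =>
    ((ConcreteCategory.comp_apply _ _ _).symm.trans (ConcreteCategory.congr_hom
      (toPresheafFiber_sheafFiberComapIso_hom Φ (EtCoh.bc f) (EtCoh.coverPreserving_bc f) A F R (BC.ptX' ζ R r)) σ)).trans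
        (ConcreteCategory.comp_apply _ _ _)
  rw [← key, ← key] at hg
  obtain ⟨T₀, m, x, hmx, hm⟩ := ((Φ.comap (EtCoh.bc f) (EtCoh.coverPreserving_bc f)).toPresheafFiber_eq_iff'
    _ _ _ _).1 ((ConcreteCategory.bijective_of_isIso
      ((Φ.sheafFiberComapIso (EtCoh.bc f) (EtCoh.coverPreserving_bc f) A).hom.app F)).1 hg)
  obtain ⟨x₀, hx₀⟩ := exists_descend η T₀ (ζ ≫ pullback.snd f η) (BC.down f x).left
    ((Over.w (BC.down f x)).trans ((Category.assoc _ _ _).trans ((congrArg (ζ ≫ ·) pullback.condition).trans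
      (Category.assoc _ _ _).symm)))
  have hx₁ : (Scheme.pointSmallEtale η).fiber.map m x₀ = r := by
    refine Over.OverMorphism.ext ?_
    haveI := epi_field (ζ ≫ pullback.snd f η)
    refine (cancel_epi (ζ ≫ pullback.snd f η)).1 ?_
    have e1 := congrArg (fun e : Φ.fiber.obj ((EtCoh.bc f).obj R) => e.left ≫ pullback.fst R.hom f) hmx
    refine ((Category.assoc _ _ _).symm.trans (congrArg (· ≫ m.left) hx₀)).trans ?_
    refine Eq.trans ?_ (e1.trans ((Category.assoc _ _ _).trans
      ((congrArg (ζ ≫ ·) (pullback.lift_fst _ _ _)).trans (Category.assoc _ _ _).symm)))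
    exact (Category.assoc _ _ _).trans ((congrArg (x.left ≫ ·) (EtCoh.isPullback_bc_map f m).w.symm).trans
      (Category.assoc _ _ _).symm)
  rw [← hb, ← hb', ← hx₁, ← GrothendieckTopology.Point.toPresheafFiber_w_apply,
    ← GrothendieckTopology.Point.toPresheafFiber_w_apply, ← GrothendieckTopology.Point.toPresheafFiber_w_apply,
    ← GrothendieckTopology.Point.toPresheafFiber_w_apply]
  exact congrArg _ hm

theorem O_eq_univ [ConnectedSpace ↥(pullback f η)] {W : S.Etale} {a : W ⟶ V}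
    {w : (Scheme.pointSmallEtale η).fiber.obj W} {s : ToType (F.obj.obj (op W))}
    (ha : (Scheme.pointSmallEtale η).fiber.map a w = y) {z : ↥(pullback f η)} (hz : z ∈ O f F t a w s) :
    O f F t a w s = Set.univ := by
  let T : Set ↥(pullback f η) := {z' | ∃ (W' : S.Etale) (a' : W' ⟶ V) (w' : (Scheme.pointSmallEtale η).fiber.obj W')
    (s' : ToType (F.obj.obj (op W'))), (Scheme.pointSmallEtale η).fiber.map a' w' = y ∧ z' ∈ O f F t a' w' s' ∧
      (Scheme.pointSmallEtale η).toPresheafFiber W' w' F.obj s' = (Scheme.pointSmallEtale η).toPresheafFiber W w F.obj s}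
  have hTo : IsOpen T := isOpen_iff_forall_mem_open.2 fun z' ⟨W', a', w', s', h1, h2, h3⟩ =>
    ⟨O f F t a' w' s', fun z'' h => ⟨W', a', w', s', h1, h, h3⟩,
      (isOpen_locus f F t a' s').preimage (fibreMap (IsPullback.of_hasPullback f η) W' w').continuous, h2⟩
  have hTc : IsOpen Tᶜ := isOpen_iff_forall_mem_open.2 fun z' hz' => by
    obtain ⟨W', a', w', s', h1, h2⟩ := exists_mem_O f F y t z'
    refine ⟨O f F t a' w' s', ?_, (isOpen_locus f F t a' s').preimage
      (fibreMap (IsPullback.of_hasPullback f η) W' w').continuous, h2⟩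
    rintro z'' h ⟨W₂, a₂, w₂, s₂, g1, g2, g3⟩
    exact hz' ⟨W', a', w', s', h1, h2, (germ_eq_of_mem f F y t h1 g1 h g2).trans g3⟩
  have hT : T = Set.univ := IsClopen.eq_univ ⟨isOpen_compl_iff.1 hTc, hTo⟩ ⟨z, W, a, w, s, ha, hz, rfl⟩
  refine Set.eq_univ_of_forall fun z' => ?_
  obtain ⟨W', a', w', s', h1, h2, h3⟩ := hT.ge (Set.mem_univ z')
  obtain ⟨R, b, b', r, hb, hb', hbb⟩ := exists_refine y ha h1
  rw [← hb, ← hb', ← GrothendieckTopology.Point.toPresheafFiber_w_apply,
    ← GrothendieckTopology.Point.toPresheafFiber_w_apply] at h3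
  obtain ⟨R', d, r', hd, hd'⟩ := ((Scheme.pointSmallEtale η).toPresheafFiber_eq_iff' _ _ _ _).1 h3
  have h4 : fibreMap (IsPullback.of_hasPullback f η) R r z' ∈ locus f F t (b ≫ a) (F.obj.map b'.op s') :=
    mem_locus_of_map f F t b' hbb.symm (by rw [fibreMap_base, hb']; exact h2)
  have h5 : fibreMap (IsPullback.of_hasPullback f η) R' r' z' ∈
      locus f F t (d ≫ b ≫ a) (F.obj.map d.op (F.obj.map b'.op s')) :=
    mem_locus_of_map f F t d rfl (by rw [fibreMap_base, hd]; exact h4)
  rw [hd'] at h5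
  have h6 := map_mem_locus f F t b rfl (map_mem_locus f F t d rfl h5)
  rw [fibreMap_base, hd, fibreMap_base, hb] at h6
  exact h6

end Fibre

section Global

theorem exists_algClosed_point {Y : Scheme.{u}} (x : Y) :
    ∃ (Ω : Type u) (_ : Field Ω) (_ : IsAlgClosed Ω) (η : Spec (CommRingCat.of Ω) ⟶ Y), η.base default = x := by
  obtain ⟨Ω, _, _, ξ, rfl⟩ := exists_geometric_point x
  refine ⟨AlgebraicClosure Ω, inferInstance, inferInstance,
    Spec.map (CommRingCat.ofHom (algebraMap Ω (AlgebraicClosure Ω))) ≫ ξ, ?_⟩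
  exact (Scheme.Hom.comp_apply _ _ _).trans (congrArg ξ.base (Subsingleton.elim (α := Spec (CommRingCat.of Ω)) _ _))

variable (hc : ∀ (Ω : Type u) [Field Ω] [IsAlgClosed Ω] (s : Spec (CommRingCat.of Ω) ⟶ S),
  ConnectedSpace ↥(pullback f s))

include hc in
theorem locus_saturated {V : S.Etale} (t : ToType ((BC.P f F).obj.obj (op ((EtCoh.bc f).obj V))))
    {W : S.Etale} (a : W ⟶ V) (s : ToType (F.obj.obj (op W))) {q q' : ((EtCoh.bc f).obj W).left}
    (h : pullback.fst W.hom f q' = pullback.fst W.hom f q) (hq : q ∈ locus f F t a s) :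
    q' ∈ locus f F t a s := by
  obtain ⟨Ω, _, _, η, hη⟩ := exists_algClosed_point (pullback.fst W.hom f q)
  let w : (Scheme.pointSmallEtale (η ≫ W.hom)).fiber.obj W := Over.homMk η rfl
  have := hc Ω (η ≫ W.hom)
  obtain ⟨z, hz⟩ := exists_fibreMap_eq (IsPullback.of_hasPullback f (η ≫ W.hom)) W w q hη.symm
  obtain ⟨z', hz'⟩ := exists_fibreMap_eq (IsPullback.of_hasPullback f (η ≫ W.hom)) W w q' (h.trans hη.symm)
  have hu := O_eq_univ f F _ t (a := a) (w := w) (s := s) rfl (z := z)
    (show fibreMap _ W w z ∈ locus f F t a s from hz.symm ▸ hq)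
  have h2 : fibreMap (IsPullback.of_hasPullback f (η ≫ W.hom)) W w z' ∈ locus f F t a s :=
    hu.ge (Set.mem_univ z')
  rwa [hz'] at h2

variable (hsub : ∀ W : S.Etale, Topology.IsQuotientMap (pullback.fst W.hom f).base)

include hc in
theorem injective_eta (V : S.Etale) : Function.Injective (BC.eta f F V) := by
  intro s s' hss
  refine ext_of_locally F fun x => ?_
  obtain ⟨Ω, _, _, η, hη⟩ := exists_algClosed_point x
  let y : (Scheme.pointSmallEtale (η ≫ V.hom)).fiber.obj V := Over.homMk η rfl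
  have := hc Ω (η ≫ V.hom)
  obtain ⟨z⟩ : Nonempty ↥(pullback f (η ≫ V.hom)) := inferInstance
  obtain ⟨Ω', _, _, ζ, hζ⟩ := exists_geometric_point z
  let Φ := Scheme.pointSmallEtale (ζ ≫ pullback.fst f (η ≫ V.hom))
  have key : ∀ σ, ((Φ.sheafFiberComapIso (EtCoh.bc f) (EtCoh.coverPreserving_bc f) A).hom.app F)
      ((Φ.comap (EtCoh.bc f) (EtCoh.coverPreserving_bc f)).toPresheafFiber V (BC.ptX' ζ V y) F.obj σ) =
      Φ.toPresheafFiber _ (BC.ptX' ζ V y) (BC.P f F).obj (BC.eta f F V σ) := fun σ =>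
    ((ConcreteCategory.comp_apply _ _ _).symm.trans (ConcreteCategory.congr_hom
      (toPresheafFiber_sheafFiberComapIso_hom Φ (EtCoh.bc f) (EtCoh.coverPreserving_bc f) A F V (BC.ptX' ζ V y)) σ)).trans
        (ConcreteCategory.comp_apply _ _ _)
  have hg := congrArg (Φ.toPresheafFiber _ (BC.ptX' ζ V y) (BC.P f F).obj) hss
  rw [← key, ← key] at hg
  obtain ⟨T, m, e, hme, hm⟩ := ((Φ.comap (EtCoh.bc f) (EtCoh.coverPreserving_bc f)).toPresheafFiber_eq_iff'
    _ _ _ _).1 ((ConcreteCategory.bijective_of_isIso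
      ((Φ.sheafFiberComapIso (EtCoh.bc f) (EtCoh.coverPreserving_bc f) A).hom.app F)).1 hg)
  refine ⟨T, m, (BC.down f e).left.base (default : Spec (CommRingCat.of Ω')), ?_, hm⟩
  have e1 : (BC.down f e).left ≫ m.left = (ζ ≫ pullback.snd f (η ≫ V.hom)) ≫ η := by
    have e2 := congrArg (fun e : Φ.fiber.obj ((EtCoh.bc f).obj V) => e.left ≫ pullback.fst V.hom f) hme
    refine Eq.trans ?_ (e2.trans ((Category.assoc _ _ _).trans
      ((congrArg (ζ ≫ ·) (pullback.lift_fst _ _ _)).trans (Category.assoc _ _ _).symm)))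
    exact (Category.assoc _ _ _).trans ((congrArg (e.left ≫ ·) (EtCoh.isPullback_bc_map f m).w.symm).trans
      (Category.assoc _ _ _).symm)
  refine (Scheme.Hom.comp_apply _ _ _).symm.trans ((congrArg (fun k : Spec (CommRingCat.of Ω') ⟶ V.left => k.base default) e1).trans ?_)
  exact (Scheme.Hom.comp_apply _ _ _).trans ((congrArg η.base (Subsingleton.elim (α := Spec (CommRingCat.of Ω)) _ _)).trans hη)

include hc hsub in
theorem surjective_eta (V : S.Etale) : Function.Surjective (BC.eta f F V) := by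
  intro t
  let Sv : Sieve V :=
    { arrows := fun W a => ∃ s : ToType (F.obj.obj (op W)),
        BC.eta f F W s = (BC.P f F).obj.map ((EtCoh.bc f).map a).op t
      downward_closed := fun {W W' a} ⟨s, hs⟩ b => ⟨F.obj.map b.op s, by
        rw [BC.eta_naturality, hs]
        simp only [op_comp, Functor.map_comp, ConcreteCategory.comp_apply]⟩ }
  have hcov : Sv ∈ S.smallEtaleTopology V := by
    refine (mem_topology_iff Sv).2 fun x => ?_
    obtain ⟨Ω, _, _, η, hη⟩ := exists_algClosed_point x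
    let y : (Scheme.pointSmallEtale (η ≫ V.hom)).fiber.obj V := Over.homMk η rfl
    have := hc Ω (η ≫ V.hom)
    obtain ⟨z⟩ : Nonempty ↥(pullback f (η ≫ V.hom)) := inferInstance
    obtain ⟨W, a, w, s, ha, hz⟩ := exists_mem_O f F y t z
    let p : ((EtCoh.bc f).obj W).left ⟶ W.left := pullback.fst W.hom f
    have hsat : p.base ⁻¹' (p.base '' locus f F t a s) = locus f F t a s :=
      Set.Subset.antisymm (fun q ⟨q₀, hq₀, e⟩ => locus_saturated f F hc t a s e.symm hq₀)
        (Set.subset_preimage_image _ _)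
    let O₀ : W.left.Opens := ⟨p.base '' locus f F t a s,
      (hsub W).isOpen_preimage.1 (hsat.symm ▸ isOpen_locus f F t a s)⟩
    haveI : AlgebraicGeometry.Etale W.hom := W.prop
    let W₀ : S.Etale := Scheme.Etale.mk (O₀.ι ≫ W.hom)
    let ι₀ : W₀ ⟶ W := MorphismProperty.Over.homMk O₀.ι rfl
    have hmemO : w.left.base (default : Spec (CommRingCat.of Ω)) ∈ O₀ := by
      refine ⟨_, hz, ?_⟩
      refine (Scheme.Hom.comp_apply _ _ _).symm.trans ((congrArg (fun k : pullback f (η ≫ V.hom) ⟶ W.left => k z)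
        (pullback.lift_fst _ _ _)).trans ((Scheme.Hom.comp_apply _ _ _).trans ?_))
      exact congrArg w.left.base (Subsingleton.elim (α := Spec (CommRingCat.of Ω)) _ _)
    refine ⟨W₀, ι₀ ≫ a, ⟨w.left.base (default : Spec (CommRingCat.of Ω)), hmemO⟩, ⟨F.obj.map ι₀.op s, ?_⟩, ?_⟩
    · refine ext_of_locally (BC.P f F) fun q => ?_
      have hq : ((EtCoh.bc f).map ι₀).left.base q ∈ locus f F t a s := by
        rw [← hsat]
        show p.base _ ∈ (O₀ : Set _)
        rw [show p.base (((EtCoh.bc f).map ι₀).left.base q) = O₀.ι.base ((pullback.fst W₀.hom f).base q) from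
          (Scheme.Hom.comp_apply _ _ _).symm.trans ((congrArg (fun k : ((EtCoh.bc f).obj W₀).left ⟶ W.left => k.base q)
            (EtCoh.isPullback_bc_map f ι₀).w).trans (Scheme.Hom.comp_apply _ _ _))]
        exact ((pullback.fst W₀.hom f).base q).2
      obtain ⟨Q, c, q', hq', hcq⟩ := mem_locus_of_map f F t ι₀ rfl hq
      exact ⟨Q, c, q', hq', hcq.symm⟩
    · refine Eq.trans ?_ hη
      refine Eq.trans ?_ (congrArg (fun e : (Scheme.pointSmallEtale (η ≫ V.hom)).fiber.obj V =>
        e.left.base (default : Spec (CommRingCat.of Ω))) ha)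
      exact (Scheme.Hom.comp_apply _ _ _).trans (Scheme.Hom.comp_apply _ _ _).symm
  have hF := ((isSheaf_iff_isSheaf_of_type _ _).1 ((sheafCompose S.smallEtaleTopology (forget A)).obj F).property) Sv hcov
  let fam : Presieve.FamilyOfElements (F.obj ⋙ forget A) Sv.arrows := fun W a h => h.choose
  have hfam : fam.Compatible := by
    intro W₁ W₂ R g₁ g₂ a₁ a₂ h₁ h₂ e
    refine injective_eta f F hc R ?_
    show BC.eta f F R (F.obj.map g₁.op h₁.choose) = BC.eta f F R (F.obj.map g₂.op h₂.choose)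
    rw [BC.eta_naturality, BC.eta_naturality, h₁.choose_spec, h₂.choose_spec]
    simp only [← ConcreteCategory.comp_apply, ← Functor.map_comp, ← op_comp, e]
  obtain ⟨s, hs, -⟩ := hF fam hfam
  refine ⟨s, ext_of_locally (BC.P f F) fun q => ?_⟩
  obtain ⟨W, a, ha, w, hw⟩ : ∃ (W : S.Etale) (a : W ⟶ V), Sv.arrows a ∧ ∃ w, a.left.base w = pullback.fst V.hom f q := by
    obtain ⟨W, a, w, h1, h2⟩ := (mem_topology_iff Sv).1 hcov (pullback.fst V.hom f q)
    exact ⟨W, a, h1, w, h2⟩
  obtain ⟨r, -, hr⟩ := Scheme.exists_preimage_of_isPullback (EtCoh.isPullback_bc_map f a).flip w q hw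
  refine ⟨_, (EtCoh.bc f).map a, r, hr, ?_⟩
  rw [← BC.eta_naturality, show F.obj.map a.op s = ha.choose from hs a ha, ha.choose_spec]

end Global

end Groth.L27.EtSite.CF
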