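import Groth.Agent.L27.EtSite.BaseChange
import Groth.Agent.L27.EtSite.Common

/-! # Local form of sections of inverse images on small etale sites -/

universe u v w

open CategoryTheory CategoryTheory.Limits AlgebraicGeometry TopologicalSpace Opposite

set_option backward.isDefEq.respectTransparency.types false
set_option linter.style.haveILetI false
set_option linter.unusedSectionVars false

namespace Groth.L27.EtSite.EtaLocal

variable {T S : Scheme.{u}} (m : T ⟶ S)

theorem fst_map {V W : S.Etale} (a : W ⟶ V) (z : ((EtCoh.bc m).obj W).left) :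
    pullback.fst V.hom m (((EtCoh.bc m).map a).left z) = a.left (pullback.fst W.hom m z) :=
  (Scheme.Hom.comp_apply _ _ _).symm.trans ((congrArg (fun k : ((EtCoh.bc m).obj W).left ⟶ V.left => k z)
    (EtCoh.isPullback_bc_map m a).w).trans (Scheme.Hom.comp_apply _ _ _))

variable {A : Type w} [Category.{v} A] {FA : A → A → Type*} {CA : A → Type (u + 1)}
  [∀ (P Q : A), FunLike (FA P Q) (CA P) (CA Q)] [ConcreteCategory.{u + 1} A FA]
  [HasColimitsOfSize.{u, u} A] [HasProducts.{u} A] [PreservesFilteredColimitsOfSize.{u, u} (forget A)]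
  [∀ X : Scheme.{u}, X.smallEtaleTopology.HasSheafCompose (forget A)]
  [((EtCoh.bc m).sheafPushforwardContinuous A S.smallEtaleTopology T.smallEtaleTopology).IsRightAdjoint]
  (G : Sheaf S.smallEtaleTopology A)

theorem key {Ω : Type u} [Field Ω] [IsSepClosed Ω] (ξ : Spec (CommRingCat.of Ω) ⟶ T) (U : S.Etale)
    (x : (Scheme.pointSmallEtale ξ).fiber.obj ((EtCoh.bc m).obj U)) (σ : ToType (G.obj.obj (op U))) :
    (((Scheme.pointSmallEtale ξ).sheafFiberComapIso (EtCoh.bc m) (EtCoh.coverPreserving_bc m) A).hom.app G)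
      (((Scheme.pointSmallEtale ξ).comap (EtCoh.bc m) (EtCoh.coverPreserving_bc m)).toPresheafFiber U x G.obj σ) =
      (Scheme.pointSmallEtale ξ).toPresheafFiber _ x (BC.P m G).obj (BC.eta m G U σ) :=
  ((ConcreteCategory.comp_apply _ _ _).symm.trans (ConcreteCategory.congr_hom
    (toPresheafFiber_sheafFiberComapIso_hom (Scheme.pointSmallEtale ξ) (EtCoh.bc m) (EtCoh.coverPreserving_bc m)
      A G U x) σ)).trans (ConcreteCategory.comp_apply _ _ _)

/-- Near every point a section of the inverse image comes from a section downstairs. -/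
theorem exists_local {V : S.Etale} {Q : T.Etale} (c : Q ⟶ (EtCoh.bc m).obj V)
    (t : ToType ((BC.P m G).obj.obj (op Q))) (q : Q.left) :
    ∃ (W : S.Etale) (a : W ⟶ V) (Q' : T.Etale) (d : Q' ⟶ Q) (e : Q' ⟶ (EtCoh.bc m).obj W) (q' : Q'.left)
      (s : ToType (G.obj.obj (op W))), d.left q' = q ∧ e ≫ (EtCoh.bc m).map a = d ≫ c ∧
        (BC.P m G).obj.map d.op t = (BC.P m G).obj.map e.op (BC.eta m G W s) := by
  obtain ⟨Ω, _, _, ξ₀, hξ₀⟩ := exists_geometric_point q
  let ξ : Spec (CommRingCat.of Ω) ⟶ T := ξ₀ ≫ Q.hom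
  let Φ := Scheme.pointSmallEtale ξ
  let Ψ := Φ.comap (EtCoh.bc m) (EtCoh.coverPreserving_bc m)
  let x : Φ.fiber.obj Q := Over.homMk ξ₀ rfl
  obtain ⟨p, hp⟩ := (ConcreteCategory.bijective_of_isIso
    ((Φ.sheafFiberComapIso (EtCoh.bc m) (EtCoh.coverPreserving_bc m) A).hom.app G)).2
      (Φ.toPresheafFiber Q x (BC.P m G).obj t)
  obtain ⟨U, u', s, rfl⟩ := Ψ.toPresheafFiber_jointly_surjective (P := G.obj) p
  rw [key] at hp
  obtain ⟨⟨W, w⟩, ⟨a, ha⟩, ⟨b, hb⟩, -⟩ := IsCofilteredOrEmpty.cone_objs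
    (Ψ.fiber.elementsMk V (Φ.fiber.map c x)) (Ψ.fiber.elementsMk U u')
  obtain ⟨⟨R, r⟩, ⟨i, hi⟩, ⟨j, hj⟩, hc⟩ := IsCofiltered.cospan
    (show Φ.fiber.elementsMk Q x ⟶ Φ.fiber.elementsMk _ (Φ.fiber.map c x) from ⟨c, rfl⟩)
    (show Φ.fiber.elementsMk _ w ⟶ Φ.fiber.elementsMk _ (Φ.fiber.map c x) from ⟨(EtCoh.bc m).map a, ha⟩)
  have hij : i ≫ c = j ≫ (EtCoh.bc m).map a := congrArg Subtype.val hc
  have heq : Φ.toPresheafFiber R r (BC.P m G).obj ((BC.P m G).obj.map i.op t) =
      Φ.toPresheafFiber R r (BC.P m G).obj ((BC.P m G).obj.map j.op (BC.eta m G W (G.obj.map b.op s))) := by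
    rw [GrothendieckTopology.Point.toPresheafFiber_w_apply, GrothendieckTopology.Point.toPresheafFiber_w_apply,
      BC.eta_naturality, GrothendieckTopology.Point.toPresheafFiber_w_apply,
      show Φ.fiber.map i r = x from hi, show Φ.fiber.map j r = w from hj,
      show Φ.fiber.map ((EtCoh.bc m).map b) w = u' from hb]
    exact hp.symm
  obtain ⟨R', k, r', hr', hk⟩ := (Φ.toPresheafFiber_eq_iff' _ _ _ _).1 heq
  refine ⟨W, a, R', k ≫ i, k ≫ j, r'.left.base (default : Spec (CommRingCat.of Ω)), G.obj.map b.op s, ?_,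
    (Category.assoc _ _ _).trans ((congrArg (k ≫ ·) hij.symm).trans (Category.assoc _ _ _).symm), ?_⟩
  · have e1 : Φ.fiber.map (k ≫ i) r' = x := by
      rw [Functor.map_comp, ConcreteCategory.comp_apply, hr']
      exact hi
    refine Eq.trans ?_ hξ₀
    exact (Scheme.Hom.comp_apply _ _ _).symm.trans
      (congrArg (fun e : Φ.fiber.obj Q => e.left.base (default : Spec (CommRingCat.of Ω))) e1)
  · simp only [op_comp, Functor.map_comp, ConcreteCategory.comp_apply]
    exact hk

/-- Sections downstairs with the same inverse image near a point agree near its image. -/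
theorem eq_near {V : S.Etale} {Q : T.Etale} (c : Q ⟶ (EtCoh.bc m).obj V) (q : Q.left)
    (σ σ' : ToType (G.obj.obj (op V)))
    (h : (BC.P m G).obj.map c.op (BC.eta m G V σ) = (BC.P m G).obj.map c.op (BC.eta m G V σ')) :
    ∃ (V' : S.Etale) (b : V' ⟶ V) (v : V'.left),
      b.left v = pullback.fst V.hom m (c.left q) ∧ G.obj.map b.op σ = G.obj.map b.op σ' := by
  obtain ⟨Ω, _, _, ξ₀, hξ₀⟩ := exists_geometric_point q
  let ξ : Spec (CommRingCat.of Ω) ⟶ T := ξ₀ ≫ Q.hom
  let Φ := Scheme.pointSmallEtale ξ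
  let Ψ := Φ.comap (EtCoh.bc m) (EtCoh.coverPreserving_bc m)
  let x : Φ.fiber.obj Q := Over.homMk ξ₀ rfl
  have hg := congrArg (Φ.toPresheafFiber Q x (BC.P m G).obj) h
  rw [GrothendieckTopology.Point.toPresheafFiber_w_apply, GrothendieckTopology.Point.toPresheafFiber_w_apply,
    ← key, ← key] at hg
  obtain ⟨V', b, e, he, hb⟩ := (Ψ.toPresheafFiber_eq_iff' _ _ _ _).1 ((ConcreteCategory.bijective_of_isIso
    ((Φ.sheafFiberComapIso (EtCoh.bc m) (EtCoh.coverPreserving_bc m) A).hom.app G)).1 hg)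
  refine ⟨V', b, pullback.fst V'.hom m (e.left.base (default : Spec (CommRingCat.of Ω))), ?_, hb⟩
  refine (fst_map m b _).symm.trans (congrArg (pullback.fst V.hom m) ?_)
  rw [← hξ₀]
  exact (Scheme.Hom.comp_apply _ _ _).symm.trans
    ((congrArg (fun z : Φ.fiber.obj ((EtCoh.bc m).obj V) => z.left.base (default : Spec (CommRingCat.of Ω))) he).trans
      (Scheme.Hom.comp_apply _ _ _))

/-- Inverse image of sections along a surjective morphism is injective. -/
theorem injective_eta [Surjective m] (V : S.Etale) : Function.Injective (BC.eta m G V) := by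
  intro σ σ' h
  refine ext_of_locally G fun x => ?_
  have : Surjective (pullback.fst V.hom m) := inferInstance
  obtain ⟨q, hq⟩ := (pullback.fst V.hom m).surjective x
  obtain ⟨V', b, v, hv, hb⟩ := eq_near m G (𝟙 ((EtCoh.bc m).obj V)) q σ σ' (congrArg _ h)
  exact ⟨V', b, v, hv.trans hq, hb⟩

end Groth.L27.EtSite.EtaLocal
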