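import Groth.Agent.L27.TopSets
import Mathlib.AlgebraicGeometry.Scheme
import Mathlib.Topology.Sheaves.LocalPredicate

/-! # Global sections of sheaves of sets with one-point stalks along a closed subset -/

set_option autoImplicit false
set_option linter.style.haveILetI false
set_option backward.defeqAttrib.useBackward true
set_option backward.isDefEq.respectTransparency false
set_option backward.isDefEq.respectTransparency.types false

universe u

open CategoryTheory CategoryTheory.Limits Opposite TopologicalSpace Topology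

noncomputable section

namespace Groth.L27.TopSets

variable {X : TopCat.{u}}

/-- A sheaf with one-point stalks on a space has a global section. -/
theorem nonempty_top_of_unique_stalks (G : TopCat.Sheaf (Type u) X)
    (h1 : ∀ x : X, Subsingleton (TopCat.Presheaf.stalk (C := Type u) (X := X) G.obj x))
    (h2 : ∀ x : X, Nonempty (TopCat.Presheaf.stalk (C := Type u) (X := X) G.obj x)) :
    Nonempty (Sect G ⊤) := by
  choose U hU s hs using fun x => TopCat.Presheaf.exists_germ_eq (C := Type u) (X := X) G.obj (h2 x).some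
  have hcompat : TopCat.Presheaf.IsCompatible (C := Type u) G.obj U s := fun x y =>
    TopCat.Presheaf.section_ext G _ _ _ fun w hw => @Subsingleton.elim _ (h1 w) _ _
  obtain ⟨g, -, -⟩ := TopCat.Sheaf.existsUnique_gluing' G U ⊤ (fun x => homOfLE le_top)
    (fun x _ => Opens.mem_iSup.mpr ⟨x, hU x⟩) s hcompat
  exact ⟨g⟩

/-- If restriction to `Z` is bijective, sheaves with one-point stalks along `Z` have global sections. -/
theorem nonempty_top_of_bijective_unit {Z : Set X} (G : TopCat.Sheaf (Type u) X)
    (hb : Function.Bijective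
      (((TopCat.Sheaf.pullbackPushforwardAdjunction (Type u) (incl Z)).unit.app G).hom.app (op ⊤)))
    (h1 : ∀ z : Z, Subsingleton (TopCat.Presheaf.stalk (C := Type u) (X := X) G.obj (z : X)))
    (h2 : ∀ z : Z, Nonempty (TopCat.Presheaf.stalk (C := Type u) (X := X) G.obj (z : X))) :
    Nonempty (Sect G ⊤) := by
  have hu := isPullUnit_unit (incl Z) G
  obtain ⟨σ⟩ := nonempty_top_of_unique_stalks
    ((TopCat.Sheaf.pullback (Type u) (incl Z)).obj G)
    (fun z => ⟨fun a b => by
      obtain ⟨a, rfl⟩ := (hu z).2 a
      obtain ⟨b, rfl⟩ := (hu z).2 b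
      exact congrArg _ (@Subsingleton.elim _ (h1 z) a b)⟩)
    (fun z => (h2 z).map (stalkComp (incl Z) ((TopCat.Sheaf.pullbackPushforwardAdjunction (Type u) (incl Z)).unit.app G) z))
  obtain ⟨s, -⟩ := hb.2 σ
  exact ⟨s⟩

/-- An open containing `Z` is everything, when restriction to `Z` is bijective. -/
theorem eq_univ_of_bijective_unit {Z : Set X}
    (hb : ∀ G : TopCat.Sheaf (Type u) X, Function.Bijective
      (((TopCat.Sheaf.pullbackPushforwardAdjunction (Type u) (incl Z)).unit.app G).hom.app (op ⊤)))
    {O : Set X} (hO : IsOpen O) (hZ : Z ⊆ O) : O = Set.univ := by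
  let pre : TopCat.PrelocalPredicate (fun _ : X => PUnit.{u + 1}) :=
    { pred := fun {U} _ => (U : Set X) ⊆ O
      res := fun {_ _} i _ h => fun x hx => h (i.le hx) }
  let G := TopCat.subsheafToTypes pre.sheafify
  obtain ⟨s⟩ := nonempty_top_of_bijective_unit G (hb G)
    (fun z => (TopCat.stalkToFiber_injective pre.sheafify (z : X) (fun U V _ _ _ _ _ =>
      ⟨U ⊓ V, homOfLE inf_le_left, homOfLE inf_le_right, fun _ => rfl⟩)).subsingleton)
    (fun z => ⟨TopCat.Presheaf.germ (C := Type u) (X := X) G.obj ⟨O, hO⟩ (z : X) (hZ z.2)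
      ⟨fun _ => PUnit.unit, TopCat.PrelocalPredicate.sheafifyOf (P := pre) (U := ⟨O, hO⟩) subset_rfl⟩⟩)
  refine Set.eq_univ_of_forall fun x => ?_
  obtain ⟨V, hxV, i, hV⟩ := s.2 ⟨x, trivial⟩
  exact hV hxV

end Groth.L27.TopSets
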