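import Groth.Agent.L27.EtSite.Agree
import Groth.Agent.L27.EtSite.H0Sections
import Groth.Agent.S0410
import Mathlib.AlgebraicGeometry.Limits
import Mathlib.AlgebraicGeometry.Morphisms.Finite

/-! # Gabber's criterion for global sections of etale sheaves over a closed subscheme -/

universe u v w

open CategoryTheory CategoryTheory.Limits AlgebraicGeometry TopologicalSpace Opposite

set_option backward.isDefEq.respectTransparency.types false
set_option linter.style.haveILetI false
set_option autoImplicit false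
set_option linter.unusedSectionVars false

noncomputable section

namespace Groth.L27.EtSite.H0Gabber

open Agree (At comp_hom comp_lift lift_congr)

theorem exists_factor {T : Scheme.{u}} (K : Type u) [Field K] (f : Spec (CommRingCat.of K) ⟶ T) :
    ∃ g : Spec (CommRingCat.of K) ⟶ Spec (T.residueField (f default)),
      g ≫ T.fromSpecResidueField (f default) = f := by
  have h := (Scheme.SpecToEquivOfField K T).left_inv f
  have e : ((Scheme.SpecToEquivOfField K T) f).1 = f default :=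
    congrArg f.base (Subsingleton.elim (α := Spec (CommRingCat.of K)) _ _)
  let xf := (Scheme.SpecToEquivOfField K T) f
  have hgen : ∀ (y : T) (_ : xf.1 = y), ∃ g : Spec (CommRingCat.of K) ⟶ Spec (T.residueField y),
      g ≫ T.fromSpecResidueField y = f := by
    rintro _ rfl
    exact ⟨Spec.map xf.2, h⟩
  exact hgen _ e

theorem range_subset_of_default {T : Scheme.{u}} {K : Type u} [Field K] (f : Spec (CommRingCat.of K) ⟶ T)
    {V : T.Opens} (h : f default ∈ V) : Set.range f ⊆ Set.range V.ι := by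
  rw [Scheme.Opens.range_ι]
  rintro _ ⟨t, rfl⟩
  rw [Subsingleton.elim (α := Spec (CommRingCat.of K)) t default]
  exact h

theorem default_eq {K K' : Type u} [Field K] [Field K'] (k : Spec (CommRingCat.of K') ⟶ Spec (CommRingCat.of K)) :
    k default = default :=
  Subsingleton.elim (α := Spec (CommRingCat.of K)) _ _

theorem comp_from_default {T T' : Scheme.{u}} (g : T ⟶ T') (t : T) :
    (T.fromSpecResidueField t ≫ g) (default : Spec (CommRingCat.of (T.residueField t))) = g t :=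
  (Scheme.Hom.comp_apply _ _ _).trans (congrArg g (Scheme.fromSpecResidueField_apply t _))

theorem from_default {T : Scheme.{u}} (t : T) :
    T.fromSpecResidueField t (default : Spec (CommRingCat.of (T.residueField t))) = t := by
  exact Scheme.fromSpecResidueField_apply t _

variable {Z X : Scheme.{u}} (i : Z ⟶ X)
variable {A : Type w} [Category.{v} A] {FA : A → A → Type*} {CA : A → Type (u + 1)}
  [∀ (P Q : A), FunLike (FA P Q) (CA P) (CA Q)] [ConcreteCategory.{u + 1} A FA]
  [HasColimitsOfSize.{u, u} A] [HasProducts.{u} A] [PreservesFilteredColimitsOfSize.{u, u} (forget A)]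
  [∀ X : Scheme.{u}, X.smallEtaleTopology.HasSheafCompose (forget A)]
  [((EtCoh.bc i).sheafPushforwardContinuous A X.smallEtaleTopology Z.smallEtaleTopology).IsRightAdjoint]
  (F : Sheaf X.smallEtaleTopology A)

/-- The map to the final object. -/
def toTop (W : X.Etale) : W ⟶ EtCoh.top X := MorphismProperty.Over.homMk W.hom (Category.comp_id _)

theorem hom_top_ext {W : X.Etale} (a : W ⟶ EtCoh.top X) : a = toTop W := by
  apply MorphismProperty.Over.Hom.ext
  show a.left = W.hom
  exact (Category.comp_id _).symm.trans (comp_hom a)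

/-- A local lift of a section on the closed subscheme. -/
structure Chart {Y : Scheme.{u}} (π : Y ⟶ X) where
  W : X.Etale
  s : ToType (F.obj.obj (op W))
  V : Y.Opens
  h : (V : Scheme.{u}) ⟶ W.left
  hh : h ≫ W.hom = V.ι ≫ π

variable {F} {Y : Scheme.{u}} {π : Y ⟶ X}

/-- The image in the etale scheme of a point. -/
def Chart.pt (c : Chart F π) {T : Scheme.{u}} (f : T ⟶ Y) (hf : Set.range f ⊆ Set.range c.V.ι) : T ⟶ c.W.left :=
  IsOpenImmersion.lift c.V.ι f hf ≫ c.h

theorem Chart.pt_hom (c : Chart F π) {T : Scheme.{u}} (f : T ⟶ Y) (hf : Set.range f ⊆ Set.range c.V.ι) :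
    c.pt f hf ≫ c.W.hom = f ≫ π :=
  (Category.assoc _ _ _).trans ((congrArg (_ ≫ ·) c.hh).trans ((Category.assoc _ _ _).symm.trans
    (congrArg (· ≫ π) (IsOpenImmersion.lift_fac _ _ _))))

theorem Chart.pt_comp (c : Chart F π) {T T' : Scheme.{u}} (k : T' ⟶ T) (f : T ⟶ Y)
    (hf : Set.range f ⊆ Set.range c.V.ι) (hf' : Set.range (k ≫ f) ⊆ Set.range c.V.ι) :
    k ≫ c.pt f hf = c.pt (k ≫ f) hf' := by
  show k ≫ IsOpenImmersion.lift c.V.ι f hf ≫ c.h = IsOpenImmersion.lift c.V.ι (k ≫ f) hf' ≫ c.h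
  rw [← Category.assoc]
  congr 1
  rw [← cancel_mono c.V.ι, Category.assoc, IsOpenImmersion.lift_fac, IsOpenImmersion.lift_fac]

/-- A section agrees with a chart at a field valued point. -/
def Agrees {W : X.Etale} (s : ToType (F.obj.obj (op W))) (c : Chart F π) {K : Type u} [Field K]
    (α : Spec (CommRingCat.of K) ⟶ W.left) (f : Spec (CommRingCat.of K) ⟶ Y) : Prop :=
  ∃ (hf : f default ∈ c.V) (e : α ≫ W.hom = f ≫ π),
    At F s c.s (pullback.lift α (c.pt f (range_subset_of_default f hf))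
      (e.trans (c.pt_hom f _).symm) default)

theorem agrees_comp {W : X.Etale} (s : ToType (F.obj.obj (op W))) (c : Chart F π) {K K' : Type u} [Field K]
    [Field K'] {α : Spec (CommRingCat.of K) ⟶ W.left} {f : Spec (CommRingCat.of K) ⟶ Y}
    (e : α ≫ W.hom = f ≫ π) (k : Spec (CommRingCat.of K') ⟶ Spec (CommRingCat.of K))
    {α' : Spec (CommRingCat.of K') ⟶ W.left} {f' : Spec (CommRingCat.of K') ⟶ Y}
    (hα : k ≫ α = α') (hf : k ≫ f = f') : Agrees s c α' f' ↔ Agrees s c α f := by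
  subst hα hf
  have hd : (k ≫ f) default = f default := by rw [Scheme.Hom.comp_apply, default_eq]
  constructor
  · rintro ⟨hf', _, h⟩
    have hf : f default ∈ c.V := hd ▸ hf'
    refine ⟨hf, e, ?_⟩
    have he := comp_lift k α (c.pt f (range_subset_of_default f hf)) (e.trans (c.pt_hom f _).symm) default
    rw [default_eq] at he
    rw [he]
    exact (lift_congr rfl (c.pt_comp k f (range_subset_of_default f hf) (range_subset_of_default _ hf')) default).symm ▸ h
  · rintro ⟨hf, _, h⟩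
    have hf' : (k ≫ f) default ∈ c.V := hd.symm ▸ hf
    refine ⟨hf', (Category.assoc _ _ _).trans ((congrArg (k ≫ ·) e).trans (Category.assoc _ _ _).symm), ?_⟩
    have he := comp_lift k α (c.pt f (range_subset_of_default f hf)) (e.trans (c.pt_hom f _).symm) default
    rw [default_eq] at he
    rw [he] at h
    exact (lift_congr rfl (c.pt_comp k f (range_subset_of_default f hf) (range_subset_of_default _ hf')) default) ▸ h

/-- Agreement is open. -/
theorem isOpen_agrees {W : X.Etale} (s : ToType (F.obj.obj (op W))) (c : Chart F π) {T : Scheme.{u}}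
    (α : T ⟶ W.left) (f : T ⟶ Y) (e : α ≫ W.hom = f ≫ π) :
    IsOpen {t : T | Agrees s c (T.fromSpecResidueField t ≫ α) (T.fromSpecResidueField t ≫ f)} := by
  let U : T.Opens := f ⁻¹ᵁ c.V
  have hU : Set.range (U.ι ≫ f) ⊆ Set.range c.V.ι := by
    rw [Scheme.Opens.range_ι]
    rintro _ ⟨x, rfl⟩
    rw [Scheme.Hom.comp_apply]
    exact x.2
  have eU : (U.ι ≫ α) ≫ W.hom = c.pt (U.ι ≫ f) hU ≫ c.W.hom :=
    (Category.assoc _ _ _).trans ((congrArg (U.ι ≫ ·) e).trans
      ((Category.assoc _ _ _).symm.trans (c.pt_hom _ hU).symm))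
  let L := pullback.lift (U.ι ≫ α) (c.pt (U.ι ≫ f) hU) eU
  have key : ∀ (u : (U : Scheme.{u})), Agrees s c (T.fromSpecResidueField (U.ι u) ≫ α)
      (T.fromSpecResidueField (U.ι u) ≫ f) ↔ At F s c.s (L u) := by
    intro u
    let k : Spec (CommRingCat.of (T.residueField (U.ι u))) ⟶ (U : Scheme.{u}) :=
      IsOpenImmersion.lift U.ι (T.fromSpecResidueField (U.ι u))
        (range_subset_of_default (K := T.residueField (U.ι u)) _ (by rw [from_default]; exact u.2))
    have hk : k ≫ U.ι = T.fromSpecResidueField (U.ι u) := IsOpenImmersion.lift_fac _ _ _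
    have hku : k default = u := by
      apply U.ι.isOpenEmbedding.injective
      rw [← Scheme.Hom.comp_apply, hk]
      exact from_default _
    have hmem : (T.fromSpecResidueField (U.ι u) ≫ f) default ∈ c.V := by
      exact Eq.mpr (congrArg (fun y => y ∈ c.V) (comp_from_default f (U.ι u))) u.2
    have hL : pullback.lift (T.fromSpecResidueField (U.ι u) ≫ α)
        (c.pt (T.fromSpecResidueField (U.ι u) ≫ f) (range_subset_of_default _ hmem))
        (((Category.assoc _ _ _).trans ((congrArg (_ ≫ ·) e).trans (Category.assoc _ _ _).symm)).trans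
          (c.pt_hom _ _).symm) default = L u := by
      refine Eq.trans ?_ (congrArg L hku)
      refine Eq.trans (lift_congr ?_ ?_ default) (comp_lift k _ _ eU default).symm
      · rw [← Category.assoc, hk]
      · rw [c.pt_comp k _ hU (by rw [← Category.assoc, hk]; exact range_subset_of_default _ hmem)]
        congr 1
        rw [← Category.assoc, hk]
    refine ⟨fun ⟨_, _, h⟩ => hL ▸ h, fun h => ⟨hmem, ?_, hL.symm ▸ h⟩⟩
    exact (Category.assoc _ _ _).trans ((congrArg (_ ≫ ·) e).trans (Category.assoc _ _ _).symm)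
  have hset : {t : T | Agrees s c (T.fromSpecResidueField t ≫ α) (T.fromSpecResidueField t ≫ f)} =
      U.ι '' (L ⁻¹' {r | At F s c.s r}) := by
    ext t
    constructor
    · intro ht
      have htU : t ∈ U := by
        exact Eq.mp (congrArg (fun y => y ∈ c.V) (comp_from_default f t)) ht.1
      exact ⟨⟨t, htU⟩, (key ⟨t, htU⟩).mp ht, rfl⟩
    · rintro ⟨u, hu, rfl⟩
      exact (key u).mpr hu
  rw [hset]
  exact U.ι.isOpenEmbedding.isOpenMap _ ((Agree.isOpen_at F s c.s).preimage L.continuous)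

/-- Agreement of two charts at a pair of field valued points. -/
def Rel (c c' : Chart F π) {K : Type u} [Field K] (f f' : Spec (CommRingCat.of K) ⟶ Y) : Prop :=
  ∃ hf : f default ∈ c.V, Agrees c.s c' (c.pt f (range_subset_of_default f hf)) f'

variable {K : Type u} [Field K]

theorem Agrees.trans {W : X.Etale} {s : ToType (F.obj.obj (op W))} {c c' : Chart F π}
    {α : Spec (CommRingCat.of K) ⟶ W.left} {f f' : Spec (CommRingCat.of K) ⟶ Y}
    (h₁ : Agrees s c α f) (h₂ : Rel c c' f f') : Agrees s c' α f' := by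
  obtain ⟨hf, e, h₁⟩ := h₁
  obtain ⟨_, hf', e', h₂⟩ := h₂
  exact ⟨hf', e.trans ((c.pt_hom f _).symm.trans e'),
    Agree.At.trans F s c.s c'.s α (c.pt f _) (c'.pt f' _) _ _ default h₁ h₂⟩

theorem Rel.symm {c c' : Chart F π} {f f' : Spec (CommRingCat.of K) ⟶ Y} (h : Rel c c' f f') :
    Rel c' c f' f := by
  obtain ⟨hf, hf', e, h⟩ := h
  refine ⟨hf', hf, ?_, Agree.At.symm F c.s c'.s (c.pt f _) (c'.pt f' _) _ default h⟩
  exact (c'.pt_hom f' _).trans (e.symm.trans (c.pt_hom f _))

theorem Rel.trans {c c' c'' : Chart F π} {f f' f'' : Spec (CommRingCat.of K) ⟶ Y}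
    (h₁ : Rel c c' f f') (h₂ : Rel c' c'' f' f'') : Rel c c'' f f'' :=
  ⟨h₁.1, h₁.2.trans h₂⟩

theorem rel_refl (c : Chart F π) (f : Spec (CommRingCat.of K) ⟶ Y) (hf : f default ∈ c.V) : Rel c c f f :=
  ⟨hf, hf, c.pt_hom f _, Agree.refl' F c.s (c.pt f _) default⟩

theorem rel_comp (c c' : Chart F π) {K' : Type u} [Field K'] {f f' : Spec (CommRingCat.of K) ⟶ Y}
    (e : f ≫ π = f' ≫ π) (k : Spec (CommRingCat.of K') ⟶ Spec (CommRingCat.of K))
    {g g' : Spec (CommRingCat.of K') ⟶ Y} (hg : k ≫ f = g) (hg' : k ≫ f' = g') :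
    Rel c c' g g' ↔ Rel c c' f f' := by
  subst hg hg'
  have hd : (k ≫ f) default = f default := by rw [Scheme.Hom.comp_apply, default_eq]
  constructor
  · rintro ⟨hf, h⟩
    exact ⟨hd ▸ hf, (agrees_comp c.s c' ((c.pt_hom f _).trans e) k (c.pt_comp k f _ _) rfl).mp h⟩
  · rintro ⟨hf, h⟩
    exact ⟨hd.symm ▸ hf, (agrees_comp c.s c' ((c.pt_hom f _).trans e) k (c.pt_comp k f _ _) rfl).mpr h⟩

/-- Agreement of charts is open. -/
theorem isOpen_rel (c c' : Chart F π) {T : Scheme.{u}} (f f' : T ⟶ Y) (e : f ≫ π = f' ≫ π) :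
    IsOpen {t : T | Rel c c' (T.fromSpecResidueField t ≫ f) (T.fromSpecResidueField t ≫ f')} := by
  let U : T.Opens := f ⁻¹ᵁ c.V
  have hU : Set.range (U.ι ≫ f) ⊆ Set.range c.V.ι := by
    rw [Scheme.Opens.range_ι]
    rintro _ ⟨x, rfl⟩
    rw [Scheme.Hom.comp_apply]
    exact x.2
  have eU : c.pt (U.ι ≫ f) hU ≫ c.W.hom = (U.ι ≫ f') ≫ π :=
    (c.pt_hom _ hU).trans ((Category.assoc _ _ _).trans ((congrArg (U.ι ≫ ·) e).trans (Category.assoc _ _ _).symm))
  have key : ∀ u : (U : Scheme.{u}), Rel c c' (T.fromSpecResidueField (U.ι u) ≫ f)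
      (T.fromSpecResidueField (U.ι u) ≫ f') ↔
      Agrees c.s c' ((U : Scheme.{u}).fromSpecResidueField u ≫ c.pt (U.ι ≫ f) hU)
        ((U : Scheme.{u}).fromSpecResidueField u ≫ U.ι ≫ f') := by
    intro u
    let g : Spec (CommRingCat.of ((U : Scheme.{u}).residueField u)) ⟶ T :=
      (U : Scheme.{u}).fromSpecResidueField u ≫ U.ι
    have hg : g default = U.ι u := comp_from_default _ _
    obtain ⟨k, hk⟩ := exists_factor ((U : Scheme.{u}).residueField u) g
    have hgen : ∀ (x : T) (_ : g default = x), (∃ k : _ ⟶ Spec (T.residueField x), k ≫ T.fromSpecResidueField x = g) →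
        (Rel c c' (T.fromSpecResidueField x ≫ f) (T.fromSpecResidueField x ≫ f') ↔
          Rel c c' (g ≫ f) (g ≫ f')) := by
      rintro x - ⟨k, hk⟩
      refine (rel_comp (K := T.residueField x) (K' := (U : Scheme.{u}).residueField u) c c' ?_ k ?_ ?_).symm
      · exact (Category.assoc _ _ _).trans ((congrArg (_ ≫ ·) e).trans (Category.assoc _ _ _).symm)
      · exact (Category.assoc _ _ _).symm.trans (congrArg (· ≫ f) hk)
      · exact (Category.assoc _ _ _).symm.trans (congrArg (· ≫ f') hk)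
    rw [hgen (U.ι u) hg (hg ▸ ⟨k, hk⟩)]
    have hmem : (g ≫ f) default ∈ c.V := by rw [Scheme.Hom.comp_apply, hg]; exact u.2
    have h1 : c.pt (g ≫ f) (range_subset_of_default _ hmem) =
        (U : Scheme.{u}).fromSpecResidueField u ≫ c.pt (U.ι ≫ f) hU := by
      rw [c.pt_comp _ _ hU (by rw [← Category.assoc]; exact range_subset_of_default _ hmem)]
      congr 1
    have h2 : g ≫ f' = (U : Scheme.{u}).fromSpecResidueField u ≫ U.ι ≫ f' := Category.assoc _ _ _
    exact ⟨fun ⟨_, h⟩ => h1 ▸ h2 ▸ h, fun h => ⟨hmem, h1.symm ▸ h2.symm ▸ h⟩⟩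
  have hset : {t : T | Rel c c' (T.fromSpecResidueField t ≫ f) (T.fromSpecResidueField t ≫ f')} =
      U.ι '' {u | Agrees c.s c' ((U : Scheme.{u}).fromSpecResidueField u ≫ c.pt (U.ι ≫ f) hU)
        ((U : Scheme.{u}).fromSpecResidueField u ≫ U.ι ≫ f')} := by
    ext t
    constructor
    · intro ht
      have htU : t ∈ U := by
        exact Eq.mp (congrArg (fun y => y ∈ c.V) (comp_from_default f t)) ht.1
      exact ⟨⟨t, htU⟩, (key ⟨t, htU⟩).mp ht, rfl⟩
    · rintro ⟨u, hu, rfl⟩
      exact (key u).mpr hu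
  rw [hset]
  exact U.ι.isOpenEmbedding.isOpenMap _ (isOpen_agrees c.s c' _ _ eU)

section OverZ

variable {i}

/-- Two lifts of the same section agree over `Z`. -/
theorem at_of_mem_range (σ : ToType ((BC.P i F).obj.obj (op ((EtCoh.bc i).obj (EtCoh.top X)))))
    {W W' : X.Etale} (s : ToType (F.obj.obj (op W))) (s' : ToType (F.obj.obj (op W')))
    (hs : BC.eta i F W s = (BC.P i F).obj.map ((EtCoh.bc i).map (toTop W)).op σ)
    (hs' : BC.eta i F W' s' = (BC.P i F).obj.map ((EtCoh.bc i).map (toTop W')).op σ)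
    (r : ↥(pullback W.hom W'.hom)) (hr : W.hom (pullback.fst W.hom W'.hom r) ∈ Set.range i) :
    At F s s' r := by
  haveI : AlgebraicGeometry.Etale W.hom := W.prop
  haveI : AlgebraicGeometry.Etale W'.hom := W'.prop
  let P : X.Etale := Scheme.Etale.mk (pullback.fst W.hom W'.hom ≫ W.hom)
  let pu : P ⟶ W := MorphismProperty.Over.homMk (pullback.fst W.hom W'.hom) rfl
  let pv : P ⟶ W' := MorphismProperty.Over.homMk (pullback.snd W.hom W'.hom) pullback.condition.symm
  obtain ⟨z, hz⟩ := hr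
  obtain ⟨q, hq, -⟩ := Scheme.Pullback.exists_preimage_pullback (f := P.hom) (g := i) r z
    ((Scheme.Hom.comp_apply _ _ _).trans hz.symm)
  have heq : BC.eta i F P (F.obj.map pu.op s) = BC.eta i F P (F.obj.map pv.op s') := by
    have h0 : pu ≫ toTop W = pv ≫ toTop W' := (hom_top_ext _).trans (hom_top_ext _).symm
    have h := congrArg (fun k => (BC.P i F).obj.map ((EtCoh.bc i).map k).op σ) h0
    simp only [Functor.map_comp, op_comp, ConcreteCategory.comp_apply] at h
    rw [BC.eta_naturality, BC.eta_naturality, hs, hs']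
    exact h
  obtain ⟨R, b, v, hv, hb⟩ := EtaLocal.eq_near i F (𝟙 ((EtCoh.bc i).obj P)) q _ _ (congrArg _ heq)
  refine ⟨R, b ≫ pu, b ≫ pv, v, ?_, ?_⟩
  · have h1 : pullback.lift (b ≫ pu).left (b ≫ pv).left ((comp_hom (b ≫ pu)).trans (comp_hom (b ≫ pv)).symm) =
        (b.left : R.left ⟶ pullback W.hom W'.hom) :=
      pullback.hom_ext (pullback.lift_fst _ _ _) (pullback.lift_snd _ _ _)
    rw [h1]
    exact hv.trans hq
  · simp only [op_comp, Functor.map_comp, ConcreteCategory.comp_apply]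
    exact hb

theorem rel_of_mem_range (σ : ToType ((BC.P i F).obj.obj (op ((EtCoh.bc i).obj (EtCoh.top X)))))
    (c c' : Chart F π)
    (hs : BC.eta i F c.W c.s = (BC.P i F).obj.map ((EtCoh.bc i).map (toTop c.W)).op σ)
    (hs' : BC.eta i F c'.W c'.s = (BC.P i F).obj.map ((EtCoh.bc i).map (toTop c'.W)).op σ)
    (f f' : Spec (CommRingCat.of K) ⟶ Y) (e : f ≫ π = f' ≫ π) (hf : f default ∈ c.V) (hf' : f' default ∈ c'.V)
    (hz : π (f default) ∈ Set.range i) : Rel c c' f f' := by
  refine ⟨hf, hf', (c.pt_hom f _).trans e, at_of_mem_range σ c.s c'.s hs hs' _ ?_⟩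
  rw [← Scheme.Hom.comp_apply (pullback.lift _ _ _), pullback.lift_fst, ← Scheme.Hom.comp_apply, c.pt_hom,
    Scheme.Hom.comp_apply]
  exact hz

end OverZ

section Main

variable {i} [IsClosedImmersion i]

/-- Charts near every point of the closed subscheme. -/
theorem exists_local_lift (σ : ToType ((BC.P i F).obj.obj (op ((EtCoh.bc i).obj (EtCoh.top X))))) (z : Z) :
    ∃ (W : X.Etale) (w : W.left) (s : ToType (F.obj.obj (op W))), W.hom w = i z ∧
      BC.eta i F W s = (BC.P i F).obj.map ((EtCoh.bc i).map (toTop W)).op σ := by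
  let q : ((EtCoh.bc i).obj (EtCoh.top X)).left :=
    pullback.lift i (𝟙 Z) ((Category.comp_id i).trans (Category.id_comp i).symm) z
  obtain ⟨W, a, Q', d, e, q', s, hd, he, hs⟩ :=
    EtaLocal.exists_local i F (𝟙 ((EtCoh.bc i).obj (EtCoh.top X))) σ q
  obtain rfl := hom_top_ext a
  rw [Category.comp_id] at he
  let p : ((EtCoh.bc i).obj W).left ⟶ W.left := pullback.fst W.hom i
  haveI : IsClosedImmersion p := MorphismProperty.pullback_fst _ _ inferInstance
  have hloc : e.left q' ∈ CF.locus i F σ (toTop W) s := by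
    refine ⟨Q', e, q', rfl, ?_⟩
    rw [← hs, ← he]
    simp only [op_comp, Functor.map_comp, ConcreteCategory.comp_apply]
  obtain ⟨O, hO, hOe⟩ := p.isEmbedding.isInducing.isOpen_iff.mp (CF.isOpen_locus i F σ (toTop W) s)
  haveI : AlgebraicGeometry.Etale W.hom := W.prop
  let O₀ : W.left.Opens := ⟨O, hO⟩
  let W₀ : X.Etale := Scheme.Etale.mk (O₀.ι ≫ W.hom)
  let ι₀ : W₀ ⟶ W := MorphismProperty.Over.homMk O₀.ι rfl
  refine ⟨W₀, ⟨p (e.left q'), hOe.ge hloc⟩, F.obj.map ι₀.op s, ?_, ?_⟩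
  · show (O₀.ι ≫ W.hom) ⟨p (e.left q'), _⟩ = i z
    rw [Scheme.Hom.comp_apply]
    show W.hom (p (e.left q')) = i z
    refine ((Scheme.Hom.comp_apply p W.hom _).symm.trans
      (congrArg (fun k : ((EtCoh.bc i).obj W).left ⟶ X => k (e.left q')) pullback.condition)).trans
        ((Scheme.Hom.comp_apply _ _ _).trans ?_)
    refine congrArg i ?_
    have h1 : e.left ≫ ((EtCoh.bc i).obj W).hom = d.left ≫ ((EtCoh.bc i).obj (EtCoh.top X)).hom :=
      (comp_hom e).trans (comp_hom d).symm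
    refine ((Scheme.Hom.comp_apply e.left ((EtCoh.bc i).obj W).hom q').symm.trans
      (congrArg (fun k : Q'.left ⟶ Z => k q') h1)).trans ?_
    rw [Scheme.Hom.comp_apply, hd]
    refine (Scheme.Hom.comp_apply _ _ _).symm.trans ?_
    exact congrArg (fun k : Z ⟶ Z => k z) (pullback.lift_snd _ _ _)
  · refine ext_of_locally (BC.P i F) fun q₁ => ?_
    have hq : ((EtCoh.bc i).map ι₀).left.base q₁ ∈ CF.locus i F σ (toTop W) s := by
      rw [← hOe]
      show p.base _ ∈ O
      rw [show p.base (((EtCoh.bc i).map ι₀).left.base q₁) = O₀.ι.base ((pullback.fst W₀.hom i).base q₁) from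
        (Scheme.Hom.comp_apply _ _ _).symm.trans ((congrArg (fun k : ((EtCoh.bc i).obj W₀).left ⟶ W.left => k.base q₁)
          (EtCoh.isPullback_bc_map i ι₀).w).trans (Scheme.Hom.comp_apply _ _ _))]
      exact ((pullback.fst W₀.hom i).base q₁).2
    obtain ⟨Q, c, q₂, hq₂, hc⟩ := CF.mem_locus_of_map i F σ ι₀ (hom_top_ext _) hq
    exact ⟨Q, c, q₂, hq₂, hc.symm⟩

variable (hm : ∀ (X' : Scheme.{u}) (π : X' ⟶ X), IsFinite π → ∀ O : Set X', IsOpen O →
    π ⁻¹' Set.range i ⊆ O → O = Set.univ)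
  (hs : ∀ (X' : Scheme.{u}) (π : X' ⟶ X), IsFinite π → ∀ G : TopCat.Sheaf (Type u) X'.carrier,
    (∀ x, π x ∈ Set.range i → Subsingleton (TopCat.Presheaf.stalk (C := Type u) (X := X'.carrier) G.obj x)) →
    (∀ x, π x ∈ Set.range i → Nonempty (TopCat.Presheaf.stalk (C := Type u) (X := X'.carrier) G.obj x)) →
    Nonempty (TopSets.Sect G ⊤))

include hm in
theorem injective_top : Function.Injective (BC.eta i F (EtCoh.top X)) := by
  intro s t hst
  refine Agree.eq_of_forall F s t fun w => ?_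
  let W := EtCoh.top X
  let L := pullback.lift (f := W.hom) (g := W.hom) (𝟙 W.left) (𝟙 W.left) rfl
  have hO : L ⁻¹' {r | At F s t r} = Set.univ := by
    refine hm X (𝟙 X) inferInstance _ ((Agree.isOpen_at F s t).preimage L.continuous) ?_
    rintro x ⟨z, hz⟩
    obtain ⟨q, hq, -⟩ := Scheme.Pullback.exists_preimage_pullback (f := W.hom) (g := i) x z hz.symm
    obtain ⟨R, b, v, hv, hb⟩ := EtaLocal.eq_near i F (𝟙 ((EtCoh.bc i).obj W)) q s t (congrArg _ hst)
    refine ⟨R, b, b, v, ?_, hb⟩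
    refine Eq.trans ?_ (congrArg L (hv.trans hq))
    exact ((comp_lift b.left (𝟙 W.left) (𝟙 W.left) rfl v).trans
      (lift_congr (Category.comp_id _) (Category.comp_id _) v)).symm
  exact hO.ge (Set.mem_univ w)

/-- The relation of charts at a point, as an equivalence. -/
def relSetoid {ι : Type u} (c : ι → Chart F π) (x : Y) : Setoid {j : ι // x ∈ (c j).V} where
  r j l := Rel (c j.1) (c l.1) (Y.fromSpecResidueField x) (Y.fromSpecResidueField x)
  iseqv := ⟨fun j => rel_refl (K := Y.residueField x) _ _ (by rw [from_default]; exact j.2),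
    fun h => h.symm, fun h h' => h.trans h'⟩

include hm hs in
theorem surjective_top [CompactSpace X] [QuasiSeparatedSpace X] :
    Function.Surjective (BC.eta i F (EtCoh.top X)) := by
  classical
  intro σ
  choose W w s hw hs₀ using exists_local_lift (F := F) (i := i) σ
  let wh : ∀ z, (W z).left ⟶ X := fun z => (W z).hom
  have hop : ∀ z, IsOpenMap ⇑(wh z) := fun z => by
    haveI : AlgebraicGeometry.Etale (wh z) := (W z).prop
    exact (wh z).isOpenMap
  have hcover : (⋃ z, Set.range (wh z)) = Set.univ := by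
    refine hm X (𝟙 X) inferInstance _ (isOpen_iUnion fun z => (hop z).isOpen_range) ?_
    rintro x ⟨z, hz⟩
    exact Set.mem_iUnion.mpr ⟨z, w z, (hw z).trans hz⟩
  obtain ⟨T, hT⟩ := CompactSpace.isCompact_univ.elim_finite_subcover (fun z => Set.range (wh z))
    (fun z => (hop z).isOpen_range) hcover.ge
  let WT : T → Scheme.{u} := fun k => (W k.1).left
  let g : (∐ WT) ⟶ X := Sigma.desc fun k => (W k.1).hom
  haveI : AlgebraicGeometry.Etale g :=
    IsZariskiLocalAtSource.sigmaDesc (P := @AlgebraicGeometry.Etale) fun k => (W k.1).prop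
  haveI : Surjective g := ⟨fun x => by
    obtain ⟨z, hz, y, hy⟩ := Set.mem_iUnion₂.mp (hT (Set.mem_univ x))
    exact ⟨Sigma.ι WT ⟨z, hz⟩ y, ((Scheme.Hom.comp_apply _ _ _).symm.trans
      (congrArg (fun k : WT ⟨z, hz⟩ ⟶ X => k y) (Sigma.ι_desc _ _))).trans hy⟩⟩
  obtain ⟨Y, π, hπs, hπ, -, hloc⟩ := Groth.Agent.S0410.result g
  haveI := hπs
  haveI := hπ
  choose V₀ h₀ hmem₀ hh₀ using hloc
  have hch : ∀ y : Y, ∃ c : Chart F π, y ∈ c.V ∧
      BC.eta i F c.W c.s = (BC.P i F).obj.map ((EtCoh.bc i).map (toTop c.W)).op σ := by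
    intro y
    let 𝒰 : (∐ WT).OpenCover := sigmaOpenCover WT
    obtain ⟨k, u, hu⟩ : ∃ k : T, ∃ u, Sigma.ι WT k u = h₀ y ⟨y, hmem₀ y⟩ := 𝒰.exists_eq (h₀ y ⟨y, hmem₀ y⟩)
    let κ := Sigma.ι WT k
    haveI : IsOpenImmersion κ := 𝒰.map_prop k
    let V' : Y.Opens := (V₀ y).ι ''ᵁ (h₀ y ⁻¹ᵁ κ.opensRange)
    have hV' : V' ≤ V₀ y := fun _ ⟨x, _, hx⟩ => hx ▸ x.2
    have hr : Set.range (Y.homOfLE hV' ≫ h₀ y) ⊆ Set.range κ := by
      rintro _ ⟨x, rfl⟩
      obtain ⟨x', hx', hxe⟩ := x.2
      rw [Scheme.Hom.comp_apply]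
      have e : Y.homOfLE hV' x = x' := Subtype.ext ((congrArg Subtype.val rfl).trans (by simpa using hxe.symm))
      exact (congrArg (fun t => h₀ y t ∈ Set.range κ) e).mpr hx'
    refine ⟨⟨W k.1, s k.1, V', IsOpenImmersion.lift κ _ hr, ?_⟩,
      ⟨⟨y, hmem₀ y⟩, ⟨u, hu⟩, rfl⟩, hs₀ k.1⟩
    have h1 : κ ≫ g = (W k.1).hom := Sigma.ι_desc _ _
    rw [← h1, IsOpenImmersion.lift_fac_assoc, Category.assoc, hh₀ y, Scheme.homOfLE_ι_assoc]
  choose c hc hcσ using hch
  let E : Y → Type u := fun x => Quotient (relSetoid c x)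
  let pre : TopCat.PrelocalPredicate (X := Y.carrier) E :=
    { pred := fun {U} f => ∃ j : Y, ∀ x : U, ∃ h : (x : Y) ∈ (c j).V, f x = Quotient.mk (relSetoid c x) ⟨j, h⟩
      res := fun {U U'} φ f ⟨j, hj⟩ => ⟨j, fun x => hj ⟨x, φ.le x.2⟩⟩ }
  let G := TopCat.subsheafToTypes pre.sheafify
  have hrelZ : ∀ (x : Y), π x ∈ Set.range i → ∀ j l : {j : Y // x ∈ (c j).V}, (relSetoid c x).r j l :=
    fun x hx j l => rel_of_mem_range (K := Y.residueField x) σ _ _ (hcσ j.1) (hcσ l.1) _ _ rfl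
      (by rw [from_default]; exact j.2) (by rw [from_default]; exact l.2) (by rw [from_default]; exact hx)
  obtain ⟨τ⟩ := hs Y π hπ G (fun x hx => by
    haveI : Subsingleton (E x) := ⟨fun a b => Quotient.inductionOn₂ a b fun j l => Quotient.sound (hrelZ x hx j l)⟩
    refine (TopCat.stalkToFiber_injective pre.sheafify x fun U U' fU hU fU' hU' _ => ?_).subsingleton
    obtain ⟨N, hN, iN, j, hj⟩ := hU ⟨x, U.2⟩
    obtain ⟨N', hN', iN', l, hl⟩ := hU' ⟨x, U'.2⟩
    let R : Y.Opens := ⟨{y | Rel (c j) (c l) (Y.fromSpecResidueField y ≫ 𝟙 Y) (Y.fromSpecResidueField y ≫ 𝟙 Y)},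
      isOpen_rel (c j) (c l) (𝟙 Y) (𝟙 Y) rfl⟩
    have hxR : x ∈ R := by
      show Rel _ _ _ _
      rw [Category.comp_id]
      exact hrelZ x hx ⟨j, (hj ⟨x, hN⟩).1⟩ ⟨l, (hl ⟨x, hN'⟩).1⟩
    refine ⟨⟨(N ⊓ N') ⊓ R, ⟨hN, hN'⟩, hxR⟩, homOfLE fun y hy => iN.le hy.1.1,
      homOfLE fun y hy => iN'.le hy.1.2, fun y => ?_⟩
    obtain ⟨h1, e1⟩ := hj ⟨y.1, y.2.1.1⟩
    obtain ⟨h2, e2⟩ := hl ⟨y.1, y.2.1.2⟩
    refine e1.trans ((Quotient.sound ?_).trans e2.symm)
    have hy : Rel (c j) (c l) (Y.fromSpecResidueField y.1 ≫ 𝟙 Y) (Y.fromSpecResidueField y.1 ≫ 𝟙 Y) := y.2.2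
    rw [Category.comp_id] at hy
    exact hy)
    (fun x _ => ⟨TopCat.Presheaf.germ (C := Type u) (X := Y.carrier) G.obj (c x).V x (hc x)
      ⟨fun y => Quotient.mk (relSetoid c y) ⟨x, y.2⟩,
        TopCat.PrelocalPredicate.sheafifyOf (P := pre) ⟨x, fun y => ⟨y.2, rfl⟩⟩⟩⟩)
  choose N hxN iN J hJ using fun x : Y => τ.2 ⟨x, trivial⟩
  have hNV : ∀ x y, y ∈ N x → y ∈ (c (J x)).V := fun x y hy => (hJ x ⟨y, hy⟩).1
  have hcompat : ∀ (x x' p : Y), p ∈ N x → p ∈ N x' →
      Rel (c (J x)) (c (J x')) (Y.fromSpecResidueField p) (Y.fromSpecResidueField p) := by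
    intro x x' p hp hp'
    obtain ⟨h1, e1⟩ := hJ x ⟨p, hp⟩
    obtain ⟨h2, e2⟩ := hJ x' ⟨p, hp'⟩
    exact Quotient.exact (s := relSetoid c p) (e1.symm.trans e2)
  have hcompat' : ∀ (x x' : Y) (K : Type u) [Field K] (f : Spec (CommRingCat.of K) ⟶ Y),
      f default ∈ N x → f default ∈ N x' → Rel (c (J x)) (c (J x')) f f := by
    intro x x' K _ f h h'
    obtain ⟨k, hk⟩ := exists_factor K f
    exact (rel_comp (K := Y.residueField (f default)) _ _ rfl k hk hk).mpr (hcompat x x' _ h h')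
  let p₁ := pullback.fst π π
  let p₂ := pullback.snd π π
  let EE : Set ↥(pullback π π) := ⋃ (x : Y) (x' : Y), ({ξ | p₁ ξ ∈ N x ∧ p₂ ξ ∈ N x'} ∩
    {ξ | Rel (c (J x)) (c (J x')) ((pullback π π).fromSpecResidueField ξ ≫ p₁)
      ((pullback π π).fromSpecResidueField ξ ≫ p₂)})
  have hEE : EE = Set.univ := by
    refine hm _ (p₁ ≫ π) inferInstance EE (isOpen_iUnion fun x => isOpen_iUnion fun x' =>
      ((((N x).2.preimage p₁.continuous).inter ((N x').2.preimage p₂.continuous)).inter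
        (isOpen_rel _ _ p₁ p₂ pullback.condition))) ?_
    intro ξ hξ
    refine Set.mem_iUnion₂.mpr ⟨p₁ ξ, p₂ ξ, ⟨hxN _, hxN _⟩, ?_⟩
    refine rel_of_mem_range (K := (pullback π π).residueField ξ) σ _ _ (hcσ _) (hcσ _) _ _
      ((Category.assoc _ _ _).trans ((congrArg (_ ≫ ·) pullback.condition).trans (Category.assoc _ _ _).symm))
      ?_ ?_ ?_
    · exact (comp_from_default p₁ ξ).symm ▸ hNV _ _ (hxN _)
    · exact (comp_from_default p₂ ξ).symm ▸ hNV _ _ (hxN _)
    · refine (congrArg (fun y => π y ∈ Set.range i) (comp_from_default p₁ ξ)).mpr ?_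
      obtain ⟨z, hz⟩ := hξ
      exact ⟨z, hz.trans (Scheme.Hom.comp_apply _ _ _)⟩
  have hrel2 : ∀ (K : Type u) [Field K] (f f' : Spec (CommRingCat.of K) ⟶ Y), f ≫ π = f' ≫ π →
      ∃ x x', f default ∈ N x ∧ f' default ∈ N x' ∧ Rel (c (J x)) (c (J x')) f f' := by
    intro K _ f f' e
    let k := pullback.lift f f' e
    have hk₁ : k ≫ p₁ = f := pullback.lift_fst _ _ _
    have hk₂ : k ≫ p₂ = f' := pullback.lift_snd _ _ _
    obtain ⟨x, x', ⟨h₁, h₂⟩, h⟩ := Set.mem_iUnion₂.mp (hEE.ge (Set.mem_univ (k default)))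
    refine ⟨x, x', ?_, ?_, ?_⟩
    · rw [← hk₁, Scheme.Hom.comp_apply]; exact h₁
    · rw [← hk₂, Scheme.Hom.comp_apply]; exact h₂
    · obtain ⟨l, hl⟩ := exists_factor K k
      exact (rel_comp (K := (pullback π π).residueField (k default)) _ _
        ((Category.assoc _ _ _).trans ((congrArg (_ ≫ ·) pullback.condition).trans (Category.assoc _ _ _).symm)) l
        ((Category.assoc _ _ _).symm.trans ((congrArg (· ≫ p₁) hl).trans hk₁))
        ((Category.assoc _ _ _).symm.trans ((congrArg (· ≫ p₂) hl).trans hk₂))).mpr h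
  let Good : ∀ {R : X.Etale}, ToType (F.obj.obj (op R)) → Prop := fun {R} t =>
    ∀ (K : Type u) [Field K] (α : Spec (CommRingCat.of K) ⟶ R.left) (f : Spec (CommRingCat.of K) ⟶ Y),
      α ≫ R.hom = f ≫ π → ∃ x, f default ∈ N x ∧ Agrees t (c (J x)) α f
  have hmap : ∀ {R R' : X.Etale} (b : R' ⟶ R) (t : ToType (F.obj.obj (op R))),
      Good t → Good (F.obj.map b.op t) := by
    intro R R' b t ht K _ α f e
    have e' : (α ≫ b.left) ≫ R.hom = f ≫ π :=
      (Category.assoc _ _ _).trans ((congrArg (α ≫ ·) (comp_hom b)).trans e)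
    obtain ⟨x, hx, hf, e₁, h⟩ := ht K (α ≫ b.left) f e'
    refine ⟨x, hx, hf, e, ?_⟩
    exact Agree.At.trans F (F.obj.map b.op t) t (c (J x)).s α (α ≫ b.left) ((c (J x)).pt f _)
      ((Category.assoc _ _ _).trans (congrArg (α ≫ ·) (comp_hom b))).symm _ default
      (Agree.At.symm F t (F.obj.map b.op t) (α ≫ b.left) α _ default (Agree.refl F t α default b)) h
  have huniq : ∀ {R : X.Etale} (t t' : ToType (F.obj.obj (op R))), Good t → Good t' → t = t' := by
    intro R t t' ht ht'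
    refine Agree.eq_of_forall F t t' fun r => ?_
    obtain ⟨y, hy⟩ := π.surjective (R.hom r)
    obtain ⟨ξ, hξ, -⟩ := Scheme.Pullback.exists_preimage_pullback (f := R.hom) (g := π) r y hy.symm
    let P := pullback R.hom π
    let α := P.fromSpecResidueField ξ ≫ pullback.fst R.hom π
    let f := P.fromSpecResidueField ξ ≫ pullback.snd R.hom π
    have e : α ≫ R.hom = f ≫ π :=
      (Category.assoc _ _ _).trans ((congrArg (_ ≫ ·) pullback.condition).trans (Category.assoc _ _ _).symm)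
    obtain ⟨x, hx, h⟩ := ht (P.residueField ξ) α f e
    obtain ⟨x', hx', hf', e', h'⟩ := ht' (P.residueField ξ) α f e
    obtain ⟨_, _, h''⟩ := h.trans (hcompat' x x' (P.residueField ξ) f hx hx')
    have h2 := Agree.At.trans F t (c (J x')).s t' α ((c (J x')).pt f _) α _ _ default h''
      (Agree.At.symm F t' (c (J x')).s α _ _ default h')
    have he := comp_lift (f := R.hom) (g := R.hom) α (𝟙 R.left) (𝟙 R.left) rfl (default : Spec (CommRingCat.of (P.residueField ξ)))
    have hr : α default = r := (comp_from_default _ ξ).trans hξ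
    exact ((congrArg (pullback.lift (f := R.hom) (g := R.hom) (𝟙 R.left) (𝟙 R.left) rfl) hr).symm.trans
      (he.trans (lift_congr (Category.comp_id α) (Category.comp_id α) default))) ▸ h2
  have hex : ∀ x : X, ∃ (R : X.Etale) (r : R.left) (t : ToType (F.obj.obj (op R))), R.hom r = x ∧ Good t := by
    intro x
    obtain ⟨y₀, hy₀⟩ := π.surjective x
    let c₀ := c (J y₀)
    haveI : AlgebraicGeometry.Etale c₀.W.hom := c₀.W.prop
    have hy₀V : y₀ ∈ c₀.V := hNV _ _ (hxN y₀)
    let r₀ := c₀.h ⟨y₀, hy₀V⟩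
    let P := pullback c₀.W.hom π
    let pw := pullback.fst c₀.W.hom π
    let py := pullback.snd c₀.W.hom π
    let Aset : Set P := ⋃ x' : Y, ({p | py p ∈ N x'} ∩
      {p | Agrees c₀.s (c (J x')) (P.fromSpecResidueField p ≫ pw) (P.fromSpecResidueField p ≫ py)})
    have hAo : IsOpen Aset := isOpen_iUnion fun x' =>
      ((N x').2.preimage py.continuous).inter (isOpen_agrees c₀.s (c (J x')) pw py pullback.condition)
    haveI : IsFinite pw := MorphismProperty.pullback_fst _ _ hπ
    let O : c₀.W.left.Opens := ⟨(pw '' Asetᶜ)ᶜ, (pw.isClosedMap _ hAo.isClosed_compl).isOpen_compl⟩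
    let M₀ : Y.Opens := N y₀ ⊓ c₀.V
    let j₀ : (M₀ : Scheme.{u}) ⟶ c₀.W.left := Y.homOfLE inf_le_right ≫ c₀.h
    have hr₀ : r₀ ∈ O := by
      rintro ⟨p, hp, hp'⟩
      refine hp ?_
      have hj : j₀ ⟨y₀, hxN y₀, hy₀V⟩ = r₀ := by
        rw [Scheme.Hom.comp_apply]
        exact congrArg c₀.h (Subtype.ext (by simp))
      obtain ⟨q, hq, -⟩ := Scheme.Pullback.exists_preimage_pullback (f := pw) (g := j₀) p
        ⟨y₀, hxN y₀, hy₀V⟩ (hp'.trans hj.symm)
      let Q := pullback pw j₀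
      let η := Q.fromSpecResidueField q
      let α := η ≫ pullback.fst pw j₀ ≫ pw
      let f₁ := η ≫ pullback.fst pw j₀ ≫ py
      let f₂ := η ≫ pullback.snd pw j₀ ≫ M₀.ι
      have hf₂N : f₂ default ∈ N y₀ := by
        have e := comp_from_default (pullback.snd pw j₀ ≫ M₀.ι) q
        refine (congrArg (fun y => y ∈ N y₀) e).mpr ?_
        rw [Scheme.Hom.comp_apply]
        exact (pullback.snd pw j₀ q).2.1
      have hα : c₀.pt f₂ (range_subset_of_default (K := Q.residueField q) _ (hNV _ _ hf₂N)) = α := by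
        have h1 : f₂ = (η ≫ pullback.snd pw j₀ ≫ Y.homOfLE inf_le_right) ≫ c₀.V.ι := by
          simp only [f₂, Category.assoc, Scheme.homOfLE_ι]
        have h2 : IsOpenImmersion.lift c₀.V.ι f₂ (range_subset_of_default (K := Q.residueField q) _ (hNV _ _ hf₂N)) =
            η ≫ pullback.snd pw j₀ ≫ Y.homOfLE inf_le_right := by
          rw [← cancel_mono c₀.V.ι, IsOpenImmersion.lift_fac, h1]
        show _ ≫ c₀.h = _
        rw [h2, Category.assoc, Category.assoc]
        exact congrArg (η ≫ ·) pullback.condition.symm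
      have hαπ : α ≫ c₀.W.hom = f₁ ≫ π := by
        simp only [α, f₁, Category.assoc]
        exact congrArg (fun k => η ≫ pullback.fst pw j₀ ≫ k) pullback.condition
      have hπ' : f₁ ≫ π = f₂ ≫ π := by
        rw [← hαπ, ← hα]
        exact c₀.pt_hom _ _
      obtain ⟨a, b, ha, hb, hab⟩ := hrel2 (Q.residueField q) f₁ f₂ hπ'
      obtain ⟨_, hag⟩ := (hab.trans (hcompat' b y₀ (Q.residueField q) f₂ hb hf₂N)).symm
      rw [hα] at hag
      obtain ⟨k, hk⟩ := exists_factor (Q.residueField q) (η ≫ pullback.fst pw j₀)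
      have hpd : (η ≫ pullback.fst pw j₀) default = p := (comp_from_default _ q).trans hq
      refine Set.mem_iUnion.mpr ⟨a, ?_, ?_⟩
      · have e : f₁ default = py p := by
          refine (comp_from_default (pullback.fst pw j₀ ≫ py) q).trans ?_
          rw [Scheme.Hom.comp_apply, hq]
        exact (congrArg (fun y => y ∈ N a) e).mp ha
      · obtain ⟨k, hk⟩ : ∃ k : _ ⟶ Spec (P.residueField p),
            k ≫ P.fromSpecResidueField p = η ≫ pullback.fst pw j₀ := hpd ▸ ⟨k, hk⟩
        refine (agrees_comp (K := P.residueField p) (K' := Q.residueField q) c₀.s (c (J a))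
          ((Category.assoc _ _ _).trans ((congrArg (_ ≫ ·) pullback.condition).trans (Category.assoc _ _ _).symm)) k
          ?_ ?_).mp hag
        · exact (Category.assoc _ _ _).symm.trans ((congrArg (· ≫ pw) hk).trans (Category.assoc _ _ _))
        · exact (Category.assoc _ _ _).symm.trans ((congrArg (· ≫ py) hk).trans (Category.assoc _ _ _))
    let R : X.Etale := Scheme.Etale.mk (O.ι ≫ c₀.W.hom)
    let b : R ⟶ c₀.W := MorphismProperty.Over.homMk O.ι rfl
    refine ⟨R, ⟨r₀, hr₀⟩, F.obj.map b.op c₀.s, ?_, ?_⟩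
    · show (O.ι ≫ c₀.W.hom) ⟨r₀, hr₀⟩ = x
      rw [Scheme.Hom.comp_apply]
      refine ((Scheme.Hom.comp_apply _ _ _).symm.trans (congrArg (fun k : (c₀.V : Scheme.{u}) ⟶ X => k ⟨y₀, hy₀V⟩) c₀.hh)).trans ?_
      rw [Scheme.Hom.comp_apply]
      exact hy₀
    · intro K _ α f e
      let β := α ≫ O.ι
      have eβ : β ≫ c₀.W.hom = f ≫ π := (Category.assoc _ _ _).trans e
      let p := pullback.lift β f eβ default
      have hp : p ∈ Aset := by
        by_contra hne
        refine (α default).2 ⟨p, hne, ?_⟩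
        refine ((Scheme.Hom.comp_apply _ _ _).symm.trans
          (congrArg (fun k : Spec (CommRingCat.of K) ⟶ c₀.W.left => k default) (pullback.lift_fst _ _ _))).trans ?_
        exact Scheme.Hom.comp_apply _ _ _
      obtain ⟨x', hx', hag⟩ := Set.mem_iUnion.mp hp
      obtain ⟨k, hk⟩ := exists_factor K (pullback.lift β f eβ)
      have hk₁ : k ≫ P.fromSpecResidueField p ≫ pw = β :=
        (Category.assoc _ _ _).symm.trans ((congrArg (· ≫ pw) hk).trans (pullback.lift_fst _ _ _))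
      have hk₂ : k ≫ P.fromSpecResidueField p ≫ py = f :=
        (Category.assoc _ _ _).symm.trans ((congrArg (· ≫ py) hk).trans (pullback.lift_snd _ _ _))
      obtain ⟨hf, e₁, h⟩ := (agrees_comp (K := P.residueField p) c₀.s (c (J x'))
        ((Category.assoc _ _ _).trans ((congrArg (_ ≫ ·) pullback.condition).trans (Category.assoc _ _ _).symm))
        k hk₁ hk₂).mpr hag
      have hfN : f default ∈ N x' := by
        have h3 : f default = py p := ((Scheme.Hom.comp_apply _ _ _).symm.trans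
          (congrArg (fun k : Spec (CommRingCat.of K) ⟶ Y => k default) (pullback.lift_snd β f eβ))).symm
        exact h3 ▸ hx'
      refine ⟨x', hfN, hf, e, ?_⟩
      exact Agree.At.trans F (F.obj.map b.op c₀.s) c₀.s (c (J x')).s α β ((c (J x')).pt f _)
        (e.trans eβ.symm) _ default
        (Agree.At.symm F c₀.s (F.obj.map b.op c₀.s) β α _ default (Agree.refl F c₀.s α default b)) h
  let Sv : Sieve (EtCoh.top X) :=
    { arrows := fun R _ => ∃ t : ToType (F.obj.obj (op R)), Good t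
      downward_closed := fun {R R' a} ⟨t, ht⟩ b => ⟨F.obj.map b.op t, hmap b t ht⟩ }
  have hcov : Sv ∈ X.smallEtaleTopology (EtCoh.top X) := (mem_topology_iff Sv).2 fun x => by
    obtain ⟨R, r, t, hr, ht⟩ := hex x
    exact ⟨R, toTop R, r, ⟨t, ht⟩, hr⟩
  have hF := ((isSheaf_iff_isSheaf_of_type _ _).1 ((sheafCompose X.smallEtaleTopology (forget A)).obj F).property) Sv hcov
  let fam : Presieve.FamilyOfElements (F.obj ⋙ forget A) Sv.arrows := fun R a h => h.choose
  have hfam : fam.Compatible := by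
    intro R₁ R₂ R g₁ g₂ a₁ a₂ h₁ h₂ e
    exact huniq (R := R) (F.obj.map g₁.op h₁.choose) (F.obj.map g₂.op h₂.choose) (hmap g₁ _ h₁.choose_spec)
      (hmap g₂ _ h₂.choose_spec)
  obtain ⟨s', hs', -⟩ := hF fam hfam
  refine ⟨s', ext_of_locally (BC.P i F) fun q => ?_⟩
  obtain ⟨R, a, r, ⟨t₀, ht₀⟩, hr⟩ := (mem_topology_iff Sv).1 hcov (pullback.fst (EtCoh.top X).hom i q)
  have ha : Sv.arrows a := ⟨t₀, ht₀⟩
  let t := ha.choose
  have ht : Good t := ha.choose_spec
  obtain ⟨y, hy⟩ := π.surjective (R.hom r)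
  obtain ⟨ξ, hξ, -⟩ := Scheme.Pullback.exists_preimage_pullback (f := R.hom) (g := π) r y hy.symm
  let P := pullback R.hom π
  let α := P.fromSpecResidueField ξ ≫ pullback.fst R.hom π
  let f := P.fromSpecResidueField ξ ≫ pullback.snd R.hom π
  have e : α ≫ R.hom = f ≫ π :=
    (Category.assoc _ _ _).trans ((congrArg (_ ≫ ·) pullback.condition).trans (Category.assoc _ _ _).symm)
  obtain ⟨x', -, hf, e', R', u, v, ρ, hρ, huv⟩ := ht (P.residueField ξ) α f e
  have hu : u.left ρ = r := by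
    have h1 := congrArg (pullback.fst R.hom (c (J x')).W.hom) hρ
    rw [← Scheme.Hom.comp_apply, pullback.lift_fst, ← Scheme.Hom.comp_apply, pullback.lift_fst] at h1
    exact h1.trans ((comp_from_default _ ξ).trans hξ)
  have hbase : (u ≫ a).left ρ = pullback.fst (EtCoh.top X).hom i q := by
    show (u.left ≫ a.left) ρ = _
    rw [Scheme.Hom.comp_apply, hu]
    exact hr
  obtain ⟨q', -, hq'⟩ := Scheme.exists_preimage_of_isPullback (EtCoh.isPullback_bc_map i (u ≫ a)).flip ρ q hbase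
  refine ⟨_, (EtCoh.bc i).map (u ≫ a), q', hq', ?_⟩
  have h2 : F.obj.map (u ≫ a).op s' = F.obj.map v.op (c (J x')).s := by
    rw [op_comp, Functor.map_comp, ConcreteCategory.comp_apply]
    exact (congrArg (F.obj.map u.op) (hs' a ha)).trans huv
  rw [← BC.eta_naturality, h2, BC.eta_naturality, hcσ]
  have h3 : v ≫ toTop (c (J x')).W = u ≫ a := (hom_top_ext _).trans (hom_top_ext _).symm
  have h4 := congrArg (fun k => (BC.P i F).obj.map ((EtCoh.bc i).map k).op σ) h3
  simp only [Functor.map_comp, op_comp, ConcreteCategory.comp_apply] at h4 ⊢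
  exact h4

end Main

end Groth.L27.EtSite.H0Gabber

namespace Groth.L27.EtSite.H0Gabber

variable {Z X : Scheme.{u}} (i : Z ⟶ X) [IsClosedImmersion i]

/-- Gabber's criterion. -/
theorem bijective_of_zariski {A : Type w} [Category.{v} A] {FA : A → A → Type*} {CA : A → Type (u + 1)}
    [∀ (P Q : A), FunLike (FA P Q) (CA P) (CA Q)] [ConcreteCategory.{u + 1} A FA]
    [HasColimitsOfSize.{u, u} A] [HasProducts.{u} A] [PreservesFilteredColimitsOfSize.{u, u} (forget A)]
    [∀ X : Scheme.{u}, X.smallEtaleTopology.HasSheafCompose (forget A)]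
    [((EtCoh.bc i).sheafPushforwardContinuous A X.smallEtaleTopology Z.smallEtaleTopology).IsRightAdjoint]
    [CompactSpace X] [QuasiSeparatedSpace X] (F : Sheaf X.smallEtaleTopology A)
    (hb : ∀ (X' : Scheme.{u}) (π : X' ⟶ X), IsFinite π → ∀ G : TopCat.Sheaf (Type u) X'.carrier,
      ∃ Z' : Set X', Z' = π ⁻¹' Set.range i ∧ Function.Bijective
      (((TopCat.Sheaf.pullbackPushforwardAdjunction (Type u) (TopSets.incl (X := X'.carrier) Z')).unit.app G).hom.app
        (op ⊤))) :
    Function.Bijective (BC.eta i F (EtCoh.top X)) := by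
  have hm : ∀ (X' : Scheme.{u}) (π : X' ⟶ X), IsFinite π → ∀ O : Set X', IsOpen O →
      π ⁻¹' Set.range i ⊆ O → O = Set.univ := fun X' π h O hO hZ =>
    TopSets.eq_univ_of_bijective_unit (X := X'.carrier) (Z := π ⁻¹' Set.range i)
      (fun G => by obtain ⟨_, rfl, hG⟩ := hb X' π h G; exact hG) hO hZ
  refine ⟨injective_top hm, surjective_top hm fun X' π h G h1 h2 => ?_⟩
  obtain ⟨_, rfl, hG⟩ := hb X' π h G
  exact TopSets.nonempty_top_of_bijective_unit G hG (fun z => h1 _ z.2) (fun z => h2 _ z.2)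

end Groth.L27.EtSite.H0Gabber
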