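import Groth.Agent.L27.EtSite.DescSections

/-! # Descent of global sections along universally submersive morphisms -/

universe u

open CategoryTheory CategoryTheory.Limits AlgebraicGeometry TopologicalSpace Opposite

set_option backward.isDefEq.respectTransparency.types false
set_option linter.style.haveILetI false

namespace Groth.L27.EtSite.DescSections

open DescCan (se σ map_map)

theorem transfer_terminal {C : Type*} [Category C] {J : GrothendieckTopology C} {P Q : Sheaf J (Type (u + 1))}
    (φ : P ⟶ Q) {A B A' A'' : C} (hA : IsTerminal A) (hB : IsTerminal B) (hA' : IsTerminal A')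
    (i : A' ⟶ A) (j : A' ⟶ B) (u : P.obj.obj (op A)) (v : Q.obj.obj (op B))
    (h : φ.hom.app (op A') (P.obj.map i.op u) = Q.obj.map j.op v) (i' : A'' ⟶ A) (j' : A'' ⟶ B) :
    φ.hom.app (op A'') (P.obj.map i'.op u) = Q.obj.map j'.op v := by
  obtain rfl : i' = hA'.from A'' ≫ i := hA.hom_ext _ _
  obtain rfl : j' = hA'.from A'' ≫ j := hB.hom_ext _ _
  rw [← map_map P.obj (hA'.from A'') i rfl, ← map_map Q.obj (hA'.from A'') j rfl, ← h]
  exact NatTrans.naturality_apply φ.hom _ _

theorem iff_terminal {C : Type*} [Category C] {J : GrothendieckTopology C} {P Q : Sheaf J (Type (u + 1))}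
    (φ : P ⟶ Q) {A B B' A' A'' : C} (hA : IsTerminal A) (hB : IsTerminal B) (hA' : IsTerminal A')
    (hA'' : IsTerminal A'') (i : A' ⟶ A) (j : A' ⟶ B) (i' : A'' ⟶ A) (σ : A'' ⟶ B') (k : B' ⟶ B)
    (u : P.obj.obj (op A)) (v : Q.obj.obj (op B)) :
    φ.hom.app (op A'') (P.obj.map i'.op u) = Q.obj.map σ.op (Q.obj.map k.op v) ↔
      φ.hom.app (op A') (P.obj.map i.op u) = Q.obj.map j.op v := by
  rw [map_map Q.obj σ k rfl]
  exact ⟨fun h => transfer_terminal φ hA hB hA'' _ _ u v h _ _, fun h => transfer_terminal φ hA hB hA' _ _ u v h _ _⟩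

theorem secPull_eq {T S : Scheme.{u}} (g : T ⟶ S) (G : EtDesc.Sh S) (x : EtDesc.sect G (EtCoh.top S)) :
    EtDesc.secPull g G x =
      ((EtDesc.pullSh g).obj G).obj.map (EtCore.bcTopIso g).inv.op (se g G (EtCoh.top S) x) := rfl

variable {X' X : Scheme.{u}} (f : X' ⟶ X) {F : EtDesc.Sh X}

theorem se_map {T S : Scheme.{u}} (m : T ⟶ S) {G H : EtDesc.Sh S} (a : G ⟶ H) (U : S.Etale) (t : G.obj.obj (op U)) :
    se m H U (a.hom.app (op U) t) = ((EtDesc.pullSh m).map a).hom.app (op ((EtCoh.bc m).obj U)) (se m G U t) :=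
  congrArg (fun φ : G ⟶ (EtDesc.pushSh m).obj ((EtDesc.pullSh m).obj H) => φ.hom.app (op U) t)
    ((EtDesc.adjSh m).unit.naturality a)

theorem transfer₂ {C : Type*} [Category C] {J : GrothendieckTopology C} {P P' Q Q' : Sheaf J (Type (u + 1))}
    (φ : P ⟶ Q) (ψ : P' ⟶ Q') (ap : P ⟶ P') (aq : Q ⟶ Q') (ha : φ ≫ aq = ap ≫ ψ) {U U' : C} (σ : U ⟶ U')
    (x : P.obj.obj (op U)) (y : Q.obj.obj (op U')) (h : φ.hom.app (op U) x = Q.obj.map σ.op y) :
    ψ.hom.app (op U) (ap.hom.app (op U) x) = Q'.obj.map σ.op (aq.hom.app (op U') y) :=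
  (congrArg (fun z : P ⟶ Q' => z.hom.app (op U) x) ha).symm.trans
    ((congrArg (aq.hom.app (op U)) h).trans (NatTrans.naturality_apply aq.hom σ.op y))

/-- Morphisms compatible with the canonical data preserve agreement. -/
theorem agree_of_compatible {G : EtDesc.Sh X} (a : (EtDesc.pullSh f).obj F ⟶ (EtDesc.pullSh f).obj G)
    (ha : (EtDesc.canIso f F).hom ≫ (EtDesc.pullSh (pullback.snd f f)).map a =
      (EtDesc.pullSh (pullback.fst f f)).map a ≫ (EtDesc.canIso f G).hom)
    {V : X.Etale} {t : ((EtDesc.pullSh f).obj F).obj.obj (op ((EtCoh.bc f).obj V))} (h : Agree f F t) :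
    Agree f G (a.hom.app (op ((EtCoh.bc f).obj V)) t) := by
  unfold Agree at h ⊢
  rw [se_map, se_map]
  generalize EtDesc.canIso f F = φ at h ha
  generalize EtDesc.canIso f G = ψ at ha ⊢
  exact transfer₂ φ.hom ψ.hom _ _ ha _ _ _ h

/-- The section over `X' ×_X X` attached to a section over `X'`. -/
noncomputable abbrev extend (s' : EtDesc.sect ((EtDesc.pullSh f).obj F) (EtCoh.top X')) :
    ((EtDesc.pullSh f).obj F).obj.obj (op ((EtCoh.bc f).obj (EtCoh.top X))) :=
  ((EtDesc.pullSh f).obj F).obj.map (EtCore.bcTopIso f).hom.op s'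

theorem agree_iff (s' : EtDesc.sect ((EtDesc.pullSh f).obj F) (EtCoh.top X')) :
    Agree f F (extend f s') ↔
      (EtDesc.canIso f F).hom.hom.app (op (EtCoh.top (EtDesc.X2 f)))
          (EtDesc.secPull (pullback.fst f f) ((EtDesc.pullSh f).obj F) s') =
        EtDesc.secPull (pullback.snd f f) ((EtDesc.pullSh f).obj F) s' := by
  unfold Agree
  rw [secPull_eq, secPull_eq, DescCan.se_naturality, DescCan.se_naturality]
  generalize EtDesc.canIso f F = φ
  generalize se (pullback.fst f f) ((EtDesc.pullSh f).obj F) (EtCoh.top X') s' = u₀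
  generalize se (pullback.snd f f) ((EtDesc.pullSh f).obj F) (EtCoh.top X') s' = v₀
  exact iff_terminal φ.hom (EtCore.bcTopIsTerminal (pullback.fst f f)) (EtCore.bcTopIsTerminal (pullback.snd f f))
    (EtCore.topIsTerminal (EtDesc.X2 f)) ((EtCore.bcTopIsTerminal (pullback.fst f f)).ofIso
      ((EtCoh.bc (pullback.fst f f)).mapIso (EtCore.bcTopIso f).symm)) _ _ _ _ _ u₀ v₀

theorem secPull_eq_iff (s : EtDesc.sect F (EtCoh.top X)) (s' : EtDesc.sect ((EtDesc.pullSh f).obj F) (EtCoh.top X')) :
    EtDesc.secPull f F s = s' ↔ se f F (EtCoh.top X) s = extend f s' := by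
  rw [secPull_eq]
  constructor
  · rintro rfl
    exact ((map_map _ _ _ (EtCore.bcTopIso f).hom_inv_id _).trans (DescCan.map_id' _ _)).symm
  · intro h
    rw [h]
    exact (map_map _ _ _ (EtCore.bcTopIso f).inv_hom_id _).trans (DescCan.map_id' _ _)

theorem sections_equalizer (hf : EtDesc.IsUnivSubmersive f) :
    Function.Injective (EtDesc.secPull f F) ∧
    Set.range (EtDesc.secPull f F) =
      {s' | (EtDesc.canIso f F).hom.hom.app (op (EtCoh.top (EtDesc.X2 f)))
          (EtDesc.secPull (pullback.fst f f) ((EtDesc.pullSh f).obj F) s') =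
        EtDesc.secPull (pullback.snd f f) ((EtDesc.pullSh f).obj F) s'} := by
  refine ⟨fun s t h => injective_se f hf (EtCoh.top X)
    (((secPull_eq_iff f s _).1 rfl).trans ((secPull_eq_iff f t _).1 h.symm).symm), Set.ext fun s' => ⟨?_, ?_⟩⟩
  · rintro ⟨s, rfl⟩
    refine (agree_iff f _).1 ?_
    rw [← (secPull_eq_iff f s _).1 rfl]
    exact agree_se f s
  · intro h
    obtain ⟨s, hs⟩ := exists_of_agree f hf ((agree_iff f s').2 h)
    exact ⟨s, (secPull_eq_iff f s s').2 hs⟩

theorem exists_unique_desc (hf : EtDesc.IsUnivSubmersive f) (F G : EtDesc.Sh X)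
    (a : (EtDesc.pullSh f).obj F ⟶ (EtDesc.pullSh f).obj G)
    (ha : (EtDesc.canIso f F).hom ≫ (EtDesc.pullSh (pullback.snd f f)).map a =
      (EtDesc.pullSh (pullback.fst f f)).map a ≫ (EtDesc.canIso f G).hom) :
    ∃! b : F ⟶ G, (EtDesc.pullSh f).map b = a := by
  have hag : ∀ (V : X.Etale) (s : F.obj.obj (op V)), Agree f G (a.hom.app (op ((EtCoh.bc f).obj V)) (se f F V s)) := by
    intro V s
    exact agree_of_compatible f a ha (agree_se f s)
  choose g hg using fun (V : X.Etale) (s : F.obj.obj (op V)) => exists_of_agree f hf (hag V s)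
  have hnat : ∀ {V W : X.Etale} (c : W ⟶ V) (s : F.obj.obj (op V)),
      g W (F.obj.map c.op s) = G.obj.map c.op (g V s) := by
    intro V W c s
    refine injective_se f hf W ?_
    rw [hg, DescCan.se_naturality, DescCan.se_naturality, hg]
    exact NatTrans.naturality_apply a.hom _ _
  let b : F ⟶ G := ⟨{ app := fun V => TypeCat.ofHom (g V.unop)
                      naturality := fun V W c => by
                        apply ConcreteCategory.hom_ext
                        intro s
                        exact hnat c.unop s }⟩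
  have hb : ∀ (V : X.Etale) (s : F.obj.obj (op V)), b.hom.app (op V) s = g V s := fun V s => rfl
  have hiff : ∀ b' : F ⟶ G, (EtDesc.pullSh f).map b' = a ↔
      ∀ (V : X.Etale) (s : F.obj.obj (op V)), se f G V (b'.hom.app (op V) s) =
        a.hom.app (op ((EtCoh.bc f).obj V)) (se f F V s) := by
    intro b'
    constructor
    · rintro rfl V s
      exact congrArg (fun φ : F ⟶ (EtDesc.pushSh f).obj ((EtDesc.pullSh f).obj G) => φ.hom.app (op V) s)
        ((EtDesc.adjSh f).unit.naturality b')
    · intro h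
      refine ((EtDesc.adjSh f).homEquiv _ _).injective ?_
      rw [Adjunction.homEquiv_unit, Adjunction.homEquiv_unit]
      refine CategoryTheory.Sheaf.hom_ext (NatTrans.ext (funext fun V => ConcreteCategory.hom_ext _ _ fun s => ?_))
      exact ((congrArg (fun φ : F ⟶ (EtDesc.pushSh f).obj ((EtDesc.pullSh f).obj G) => φ.hom.app V s)
        ((EtDesc.adjSh f).unit.naturality b')).symm).trans (h V.unop s)
  refine ⟨b, (hiff b).2 fun V s => (congrArg (se f G V) (hb V s)).trans (hg V s), fun b' hb' => ?_⟩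
  refine CategoryTheory.Sheaf.hom_ext (NatTrans.ext (funext fun V => ConcreteCategory.hom_ext _ _ fun s => ?_))
  exact injective_se f hf V.unop (((hiff b').1 hb' V.unop s).trans
    ((congrArg (se f G V.unop) (hb V.unop s)).trans (hg V.unop s)).symm)

end Groth.L27.EtSite.DescSections
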