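import Groth.Agent.L27.EtSite.IntegralFibre
import Mathlib.AlgebraicGeometry.Morphisms.FlatMono

/-! # Tools for base change of direct images on small etale sites -/

universe u v w

open CategoryTheory CategoryTheory.Limits AlgebraicGeometry TopologicalSpace Opposite

set_option backward.isDefEq.respectTransparency.types false
set_option linter.style.haveILetI false

namespace Groth.L27.EtSite

section Comap

open GrothendieckTopology

variable {C D : Type*} [Category* C] [Category* D]
  {K : GrothendieckTopology D}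
  (Φ : Point.{w} K) (F : C ⥤ D) [RepresentablyFlat F] {J : GrothendieckTopology C}
  (hF : CoverPreserving J K F)
  [InitiallySmall (F ⋙ Φ.fiber).Elements]
  (A : Type*) [Category.{v} A] [HasProducts.{w} A] [HasColimitsOfSize.{w, w} A]
  [Functor.IsContinuous F J K] [(F.sheafPushforwardContinuous A J K).IsRightAdjoint]

/-- Germs under the identification of stalks of inverse images. -/
theorem toPresheafFiber_sheafFiberComapIso_hom (G : Sheaf J A) (V : C) (x : Φ.fiber.obj (F.obj V)) :
    (Φ.comap F hF).toPresheafFiber V x G.obj ≫ (Φ.sheafFiberComapIso F hF A).hom.app G =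
      ((F.sheafAdjunctionContinuous A J K).unit.app G).hom.app (op V) ≫
        Φ.toPresheafFiber (F.obj V) x ((F.sheafPullback A J K).obj G).obj := by
  let adj := F.sheafAdjunctionContinuous A J K
  let P := (F.sheafPullback A J K).obj G
  have h1 : (Φ.sheafFiberComapIso F hF A).hom.app G =
      (Φ.comap F hF).sheafFiber.map (adj.unit.app G) ≫ comapPushDesc Φ F hF A P.obj := by
    rw [← sheafFiberComapIso_counit Φ F hF A P]
    refine Eq.trans ?_ (Category.assoc _ _ _)
    refine Eq.trans ?_ (congrArg (· ≫ _) ((Φ.sheafFiberComapIso F hF A).hom.naturality (adj.unit.app G))).symm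
    refine Eq.trans ?_ (Category.assoc _ _ _).symm
    refine Eq.trans (Category.comp_id _).symm (congrArg (_ ≫ ·) ?_)
    exact ((Φ.sheafFiber.map_id _).symm.trans (congrArg Φ.sheafFiber.map (adj.left_triangle_components G).symm)).trans
      (Φ.sheafFiber.map_comp _ _)
  rw [h1]
  refine (Category.assoc _ _ _).symm.trans ?_
  refine (congrArg (· ≫ _) ((Φ.comap F hF).toPresheafFiber_naturality (adj.unit.app G).hom V x)).trans ?_
  refine (Category.assoc _ _ _).trans (congrArg (_ ≫ ·) ?_)
  exact (Φ.comap F hF).toPresheafFiber_presheafFiberDesc _ _ _ _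

end Comap

variable {X Y : Scheme.{u}} {Ω : Type u} [Field Ω] [IsSepClosed Ω]

/-- Geometric points of an etale scheme over a geometric point descend. -/
theorem exists_descend (η : Spec (CommRingCat.of Ω) ⟶ Y) (V : Y.Etale) {Ω' : Type u} [Field Ω']
    (π : Spec (CommRingCat.of Ω') ⟶ Spec (CommRingCat.of Ω)) (v : Spec (CommRingCat.of Ω') ⟶ V.left)
    (hv : v ≫ V.hom = π ≫ η) :
    ∃ y : (Scheme.pointSmallEtale η).fiber.obj V, π ≫ y.left = v := by
  let E := (EtCoh.bc η).obj V
  let pt : Spec (CommRingCat.of Ω') ⟶ E.left := pullback.lift v π hv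
  obtain ⟨σ, hσ⟩ := exists_fiber (𝟙 (Spec (CommRingCat.of Ω))) E (pt default)
    (Subsingleton.elim (α := Spec (CommRingCat.of Ω)) _ _)
  let s : Spec (CommRingCat.of Ω) ⟶ E.left := σ.left
  have hs : s ≫ pullback.snd V.hom η = 𝟙 _ := Over.w σ
  haveI : AlgebraicGeometry.Etale V.hom := V.prop
  haveI : AlgebraicGeometry.Etale (pullback.snd V.hom η) := inferInstance
  haveI : AlgebraicGeometry.Etale (s ≫ pullback.snd V.hom η) := by rw [hs]; infer_instance
  haveI : AlgebraicGeometry.Etale s :=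
    MorphismProperty.of_postcomp (W := EtCoh.etaleMP) (W' := EtCoh.etaleMP) s (pullback.snd V.hom η)
      ‹AlgebraicGeometry.Etale (pullback.snd V.hom η)› ‹AlgebraicGeometry.Etale (s ≫ pullback.snd V.hom η)›
  haveI : IsSplitMono s := ⟨⟨⟨pullback.snd V.hom η, hs⟩⟩⟩
  haveI : IsOpenImmersion s := IsOpenImmersion.of_flat_of_mono s
  have hr : Set.range pt ⊆ Set.range s := by
    rintro _ ⟨t, rfl⟩
    obtain rfl : t = (default : Spec (CommRingCat.of Ω')) := Subsingleton.elim (α := Spec (CommRingCat.of Ω')) _ _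
    exact ⟨default, hσ⟩
  let m := IsOpenImmersion.lift s pt hr
  have hm : m ≫ s = pt := IsOpenImmersion.lift_fac _ _ _
  have hmπ : m = π := by
    have h1 : (m ≫ s) ≫ pullback.snd V.hom η = π := by rw [hm]; exact pullback.lift_snd _ _ _
    rw [Category.assoc, hs, Category.comp_id] at h1
    exact h1
  refine ⟨Over.homMk (s ≫ pullback.fst V.hom η) ?_, ?_⟩
  · refine (Category.assoc _ _ _).trans ((congrArg (s ≫ ·) pullback.condition).trans ?_)
    exact (Category.assoc _ _ _).symm.trans ((congrArg (· ≫ η) hs).trans (Category.id_comp _))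
  · show π ≫ s ≫ pullback.fst V.hom η = v
    rw [← hmπ, ← Category.assoc, hm]
    exact pullback.lift_fst _ _ _

section Fibre

variable {Z : Scheme.{u}} {f : X ⟶ Y} {η : Spec (CommRingCat.of Ω) ⟶ Y} {p : Z ⟶ X}
  {q : Z ⟶ Spec (CommRingCat.of Ω)}

/-- The geometric fibre covers the fibre of the base change over the marked point. -/
theorem exists_fibreMap_eq (h : IsPullback p q f η) (V : Y.Etale) (y : (Scheme.pointSmallEtale η).fiber.obj V)
    (x : ((EtCoh.bc f).obj V).left)
    (hx : pullback.fst V.hom f x = y.left.base (default : Spec (CommRingCat.of Ω))) :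
    ∃ z : Z, fibreMap h V y z = x := by
  let yl : Spec (CommRingCat.of Ω) ⟶ V.left := y.left
  have hyl : yl ≫ V.hom = η := Over.w y
  have hbig : IsPullback p q f (yl ≫ V.hom) := hyl.symm ▸ h
  have hsnd : fibreMap h V y ≫ pullback.snd V.hom f = p := pullback.lift_snd _ _ _
  have H : IsPullback (fibreMap h V y) q (pullback.fst V.hom f) yl :=
    IsPullback.of_right (hsnd.symm ▸ hbig) (pullback.lift_fst _ _ _)
      (IsPullback.of_hasPullback V.hom f).flip
  obtain ⟨w, hw, -⟩ := Scheme.Pullback.exists_preimage_pullback (f := pullback.fst V.hom f) (g := yl) x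
    (default : Spec (CommRingCat.of Ω)) hx
  refine ⟨H.isoPullback.inv w, ?_⟩
  exact (Scheme.Hom.comp_apply _ _ _).symm.trans
    ((congrArg (fun k : pullback (pullback.fst V.hom f) yl ⟶ ((EtCoh.bc f).obj V).left => k w)
      H.isoPullback_inv_fst).trans hw)

/-- An open containing the fibre over the marked point contains a base change of a neighbourhood. -/
theorem exists_shrink_fibre [UniversallyClosed f] (V : Y.Etale) (y : (Scheme.pointSmallEtale η).fiber.obj V)
    (E : ((EtCoh.bc f).obj V).left.Opens)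
    (hE : ∀ x, pullback.fst V.hom f x = y.left.base (default : Spec (CommRingCat.of Ω)) → x ∈ E) :
    ∃ (V' : Y.Etale) (a : V' ⟶ V) (y' : (Scheme.pointSmallEtale η).fiber.obj V'),
      (Scheme.pointSmallEtale η).fiber.map a y' = y ∧ Set.range ((EtCoh.bc f).map a).left ⊆ E := by
  let pr : ((EtCoh.bc f).obj V).left ⟶ V.left := pullback.fst V.hom f
  haveI : UniversallyClosed pr := inferInstanceAs (UniversallyClosed (pullback.fst V.hom f))
  let O : V.left.Opens := ⟨(pr '' (E : Set _)ᶜ)ᶜ, (pr.isClosedMap _ E.2.isClosed_compl).isOpen_compl⟩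
  let V' : Y.Etale := Scheme.Etale.mk (O.ι ≫ V.hom)
  let a : V' ⟶ V := MorphismProperty.Over.homMk O.ι rfl
  have hr : Set.range y.left ⊆ Set.range O.ι := by
    rintro _ ⟨t, rfl⟩
    refine (Scheme.Opens.range_ι O).ge ?_
    obtain rfl : t = (default : Spec (CommRingCat.of Ω)) := Subsingleton.elim (α := Spec (CommRingCat.of Ω)) _ _
    rintro ⟨x, hx, hxy⟩
    exact hx (hE x hxy)
  let l : Spec (CommRingCat.of Ω) ⟶ (O : Scheme.{u}) := IsOpenImmersion.lift O.ι y.left hr
  have hl : l ≫ O.ι = y.left := IsOpenImmersion.lift_fac _ _ _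
  refine ⟨V', a, Over.homMk l ?_, Over.OverMorphism.ext hl, ?_⟩
  · exact (Category.assoc _ _ _).symm.trans ((congrArg (· ≫ V.hom) hl).trans (Over.w y))
  · rintro _ ⟨z, rfl⟩
    by_contra hz
    have h1 : pr (((EtCoh.bc f).map a).left z) = O.ι (pullback.fst V'.hom f z) :=
      (Scheme.Hom.comp_apply _ _ _).symm.trans ((congrArg (fun m : ((EtCoh.bc f).obj V').left ⟶ V.left => m z)
        (EtCoh.isPullback_bc_map f a).w).trans (Scheme.Hom.comp_apply _ _ _))
    exact (pullback.fst V'.hom f z).2 ⟨_, hz, h1⟩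

variable {A : Type w} [Category.{v} A] {FA : A → A → Type*} {CA : A → Type (u + 1)}
  [∀ (P Q : A), FunLike (FA P Q) (CA P) (CA Q)] [ConcreteCategory.{u + 1} A FA]
  [∀ X : Scheme.{u}, X.smallEtaleTopology.HasSheafCompose (forget A)]

/-- Sections equal near every point of the fibre are equal after shrinking the neighbourhood. -/
theorem exists_eq_of_locally [UniversallyClosed f] (G : Sheaf X.smallEtaleTopology A) (V : Y.Etale)
    (y : (Scheme.pointSmallEtale η).fiber.obj V) (s₁ s₂ : ToType (G.obj.obj (op ((EtCoh.bc f).obj V))))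
    (hloc : ∀ x, pullback.fst V.hom f x = y.left.base (default : Spec (CommRingCat.of Ω)) →
      ∃ (T : X.Etale) (a : T ⟶ (EtCoh.bc f).obj V), x ∈ Set.range a.left ∧ G.obj.map a.op s₁ = G.obj.map a.op s₂) :
    ∃ (V' : Y.Etale) (a : V' ⟶ V) (y' : (Scheme.pointSmallEtale η).fiber.obj V'),
      (Scheme.pointSmallEtale η).fiber.map a y' = y ∧
        G.obj.map ((EtCoh.bc f).map a).op s₁ = G.obj.map ((EtCoh.bc f).map a).op s₂ := by
  let S : Set ((EtCoh.bc f).obj V).left := {x | ∃ (T : X.Etale) (a : T ⟶ (EtCoh.bc f).obj V),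
    x ∈ Set.range a.left ∧ G.obj.map a.op s₁ = G.obj.map a.op s₂}
  have hS : IsOpen S := isOpen_iff_forall_mem_open.2 fun x ⟨T, a, hx, he⟩ =>
    ⟨Set.range a.left, fun x' hx' => ⟨T, a, hx', he⟩,
      (haveI := etale_left a; a.left.isOpenMap.isOpen_range), hx⟩
  obtain ⟨V', a, y', hy', hr⟩ := exists_shrink_fibre V y ⟨S, hS⟩ hloc
  refine ⟨V', a, y', hy', ?_⟩
  let GT := (sheafCompose X.smallEtaleTopology (forget A)).obj G
  refine ((isSheaf_iff_isSheaf_of_type _ _).1 GT.property).isSeparated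
    (Presheaf.equalizerSieve (F := G.obj) (G.obj.map ((EtCoh.bc f).map a).op s₁)
      (G.obj.map ((EtCoh.bc f).map a).op s₂))
    ((mem_topology_iff _).2 fun x' => ?_) |>.ext fun W b hb => hb
  obtain ⟨T, c, ⟨t, ht⟩, he⟩ := hr ⟨x', rfl⟩
  obtain ⟨Ω', _, _, ξ, hξ⟩ := exists_geometric_point (((EtCoh.bc f).obj V).hom (((EtCoh.bc f).map a).left x'))
  obtain ⟨e₁, he₁⟩ := exists_fiber ξ ((EtCoh.bc f).obj V') x' (by
    rw [hξ]
    exact ((Scheme.Hom.comp_apply _ _ _).symm.trans
      (congrArg (fun m : ((EtCoh.bc f).obj V').left ⟶ X => m x') (MorphismProperty.Over.w ((EtCoh.bc f).map a)))).symm)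
  haveI := etale_left c
  let d : Spec (CommRingCat.of Ω') ⟶ ((EtCoh.bc f).obj V).left :=
    ((Scheme.pointSmallEtale ξ).fiber.map ((EtCoh.bc f).map a) e₁).left
  have hd : d default = c.left t := by
    rw [ht]
    show (e₁.left ≫ ((EtCoh.bc f).map a).left) (default : Spec (CommRingCat.of Ω')) = _
    exact (Scheme.Hom.comp_apply _ _ _).trans (congrArg ((EtCoh.bc f).map a).left.base he₁)
  let CT : Scheme.Etale ((EtCoh.bc f).obj V).left := @Scheme.Etale.mk _ _ c.left (etale_left c)
  obtain ⟨k, hk⟩ := exists_fiber d CT t hd.symm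
  let e₂ : (Scheme.pointSmallEtale ξ).fiber.obj T := Over.homMk k.left
    ((congrArg (k.left ≫ ·) (MorphismProperty.Over.w c).symm).trans
      ((Category.assoc _ _ _).symm.trans ((congrArg (· ≫ ((EtCoh.bc f).obj V).hom) (Over.w k)).trans
        (Over.w ((Scheme.pointSmallEtale ξ).fiber.map ((EtCoh.bc f).map a) e₁)))))
  let E₀ := (Scheme.pointSmallEtale ξ).fiber.elementsMk ((EtCoh.bc f).obj V)
    ((Scheme.pointSmallEtale ξ).fiber.map ((EtCoh.bc f).map a) e₁)
  obtain ⟨⟨W, e⟩, ⟨b₁, hb₁⟩, ⟨b₂, hb₂⟩, hcomm⟩ := IsCofiltered.cospan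
    (show (Scheme.pointSmallEtale ξ).fiber.elementsMk _ e₁ ⟶ E₀ from ⟨(EtCoh.bc f).map a, rfl⟩)
    (show (Scheme.pointSmallEtale ξ).fiber.elementsMk _ e₂ ⟶ E₀ from ⟨c, Over.OverMorphism.ext (Over.w k)⟩)
  have hcomm' : b₁ ≫ (EtCoh.bc f).map a = b₂ ≫ c := congrArg Subtype.val hcomm
  refine ⟨W, b₁, e.left.base (default : Spec (CommRingCat.of Ω')), ?_, ?_⟩
  · show G.obj.map b₁.op _ = G.obj.map b₁.op _
    simp only [← ConcreteCategory.comp_apply, ← G.obj.map_comp, ← op_comp, hcomm']
    simp only [op_comp, G.obj.map_comp, ConcreteCategory.comp_apply, he]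
  · rw [← he₁]
    exact (Scheme.Hom.comp_apply _ _ _).symm.trans
      (congrArg (fun w => w.left.base (default : Spec (CommRingCat.of Ω'))) hb₁)

end Fibre

end Groth.L27.EtSite
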