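import Groth.Agent.L27.EtSite.ConnMap
import Groth.Prelude.Def_SGA1
import Mathlib.AlgebraicGeometry.Geometrically.Connected

/-! # Base change of direct images along morphisms locally with connected fibres -/

universe u v w

open CategoryTheory CategoryTheory.Limits AlgebraicGeometry TopologicalSpace Opposite

set_option backward.isDefEq.respectTransparency.types false
set_option linter.style.haveILetI false

namespace Groth.L27.EtSite.CBC

variable {X Y X' Y' : Scheme.{u}} {f : X ⟶ Y} {g : Y' ⟶ Y} {f' : X' ⟶ Y'} {g' : X' ⟶ X}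
  (h : IsPullback g' f' f g)

/-- The morphism `bot m` is universally submersive with connected geometric fibres. -/
def Good {U : Y'.Etale} {V : Y.Etale} (m : U ⟶ (EtCoh.bc g).obj V) : Prop :=
  SGA1.UnivSubmersive (CM.bot m) ∧
    ∀ (Ω : Type u) [Field Ω] [IsAlgClosed Ω] (η : Spec (CommRingCat.of Ω) ⟶ V.left),
      ConnectedSpace ↥(pullback (CM.bot m) η)

/-- The base change of `m` along `f'`. -/
noncomputable def push {U : Y'.Etale} {V : Y.Etale} (m : U ⟶ (EtCoh.bc g).obj V) :
    (EtCoh.bc f').obj U ⟶ (EtCoh.bc g').obj ((EtCoh.bc f).obj V) :=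
  (EtCoh.bc f').map m ≫ BC.swap h.w V

theorem isPullback_bot_push {U : Y'.Etale} {V : Y.Etale} (m : U ⟶ (EtCoh.bc g).obj V) :
    IsPullback (CM.bot (push h m)) (pullback.fst U.hom f') (pullback.fst V.hom f) (CM.bot m) := by
  have e1 : ((EtCoh.bc f').map m).left ≫ pullback.fst (pullback.snd V.hom g) f' =
      pullback.fst U.hom f' ≫ m.left := (EtCoh.isPullback_bc_map f' m).w
  have e1' : ((EtCoh.bc f').map m).left ≫ pullback.snd (pullback.snd V.hom g) f' = pullback.snd U.hom f' :=
    MorphismProperty.Over.w ((EtCoh.bc f').map m)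
  have e2 : (BC.swap h.w V).left ≫ pullback.fst (pullback.snd V.hom f) g' ≫ pullback.fst V.hom f =
      pullback.fst (pullback.snd V.hom g) f' ≫ pullback.fst V.hom g :=
    (Category.assoc _ _ _).symm.trans ((congrArg (· ≫ pullback.fst V.hom f) (pullback.lift_fst _ _ _)).trans
      (pullback.lift_fst _ _ _))
  have e3 : (BC.swap h.w V).left ≫ pullback.fst (pullback.snd V.hom f) g' ≫ pullback.snd V.hom f =
      pullback.snd (pullback.snd V.hom g) f' ≫ g' :=
    (Category.assoc _ _ _).symm.trans ((congrArg (· ≫ pullback.snd V.hom f) (pullback.lift_fst _ _ _)).trans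
      (pullback.lift_snd _ _ _))
  have hsnd : CM.bot (push h m) ≫ pullback.snd V.hom f = pullback.snd U.hom f' ≫ g' := by
    refine (Category.assoc _ _ _).trans ((Category.assoc _ _ _).trans ((congrArg (_ ≫ ·) e3).trans ?_))
    exact (Category.assoc _ _ _).symm.trans (congrArg (· ≫ g') e1')
  have hfst : CM.bot (push h m) ≫ pullback.fst V.hom f = pullback.fst U.hom f' ≫ CM.bot m := by
    refine (Category.assoc _ _ _).trans ((Category.assoc _ _ _).trans ((congrArg (_ ≫ ·) e2).trans ?_))
    exact (Category.assoc _ _ _).symm.trans ((congrArg (· ≫ pullback.fst V.hom g) e1).trans (Category.assoc _ _ _))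
  refine IsPullback.of_right ?_ hfst (IsPullback.of_hasPullback V.hom f).flip
  have hbig := (IsPullback.of_hasPullback U.hom f').flip.paste_horiz h
  have e4 : CM.bot m ≫ V.hom = U.hom ≫ g :=
    (Category.assoc _ _ _).trans ((congrArg (m.left ≫ ·) pullback.condition).trans
      ((Category.assoc _ _ _).symm.trans (congrArg (· ≫ g) (MorphismProperty.Over.w m))))
  exact hsnd.symm ▸ e4.symm ▸ hbig

theorem good_push {U : Y'.Etale} {V : Y.Etale} (m : U ⟶ (EtCoh.bc g).obj V) (hm : Good m) :
    Good (push h m) := by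
  have sq := isPullback_bot_push h m
  have : (SGA1.UnivSubmersive.{u}).IsStableUnderBaseChange :=
    inferInstanceAs (MorphismProperty.universally _).IsStableUnderBaseChange
  refine ⟨MorphismProperty.of_isPullback (P := SGA1.UnivSubmersive.{u}) sq.flip hm.1, fun Ω _ _ η => ?_⟩
  haveI := hm.2 Ω (η ≫ pullback.fst V.hom f)
  have sq2 := (IsPullback.of_hasPullback (CM.bot (push h m)) η).paste_horiz sq.flip
  exact sq2.isoPullback.inv.homeomorph.surjective.connectedSpace sq2.isoPullback.inv.continuous

theorem isQuotientMap_of_univSubmersive {U : Y'.Etale} {V : Y.Etale} (m : U ⟶ (EtCoh.bc g).obj V)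
    (hm : Good m) (W : Y.Etale) (a : W ⟶ V) :
    Topology.IsQuotientMap (pullback.snd (CM.bot m) a.left).base :=
  hm.1 _ _ _ (IsPullback.of_hasPullback (CM.bot m) a.left).flip

section Main

variable {A : Type w} [Category.{v} A] {FA : A → A → Type*} {CA : A → Type (u + 1)}
  [∀ (P Q : A), FunLike (FA P Q) (CA P) (CA Q)] [ConcreteCategory.{u + 1} A FA]
  [HasColimitsOfSize.{u, u} A] [HasProducts.{u} A] [PreservesFilteredColimitsOfSize.{u, u} (forget A)]
  [∀ X : Scheme.{u}, X.smallEtaleTopology.HasSheafCompose (forget A)]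
  [((EtCoh.bc g').sheafPushforwardContinuous A X.smallEtaleTopology X'.smallEtaleTopology).IsRightAdjoint]
  [((EtCoh.bc g).sheafPushforwardContinuous A Y.smallEtaleTopology Y'.smallEtaleTopology).IsRightAdjoint]
  (F : Sheaf X.smallEtaleTopology A)
  (θ : ((EtCoh.bc g).sheafPullback A Y.smallEtaleTopology Y'.smallEtaleTopology).obj
      (((EtCoh.bc f).sheafPushforwardContinuous A Y.smallEtaleTopology X.smallEtaleTopology).obj F) ⟶
    ((EtCoh.bc f').sheafPushforwardContinuous A Y'.smallEtaleTopology X'.smallEtaleTopology).obj (BC.P g' F))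
  (hθ : ∀ (V : Y.Etale) (s : ToType (F.obj.obj (op ((EtCoh.bc f).obj V)))),
      ((((EtCoh.bc g).sheafAdjunctionContinuous A Y.smallEtaleTopology Y'.smallEtaleTopology).homEquiv _ _) θ).hom.app
        (op V) s = BC.psi h F V s)

include hθ in
theorem bijective_app {U : Y'.Etale} {V : Y.Etale} (m : U ⟶ (EtCoh.bc g).obj V) (hm : Good m) :
    Function.Bijective (θ.hom.app (op U)) := by
  let G := ((EtCoh.bc f).sheafPushforwardContinuous A Y.smallEtaleTopology X.smallEtaleTopology).obj F
  have h1 : Function.Bijective (CM.res m G) :=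
    ⟨CM.injective_res m G hm.2, CM.surjective_res m G hm.2 (isQuotientMap_of_univSubmersive m hm)⟩
  have hm' := good_push h m hm
  have h2 : Function.Bijective (CM.res (push h m) F) :=
    ⟨CM.injective_res (push h m) F hm'.2, CM.surjective_res (push h m) F hm'.2
      (isQuotientMap_of_univSubmersive (push h m) hm')⟩
  have key : ∀ s, θ.hom.app (op U) (CM.res m G s) = CM.res (push h m) F s := fun s => by
    have e1 : θ.hom.app (op ((EtCoh.bc g).obj V)) (BC.eta g G V s) = BC.psi h F V s := by
      rw [← hθ V s, Adjunction.homEquiv_unit]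
      exact (ConcreteCategory.comp_apply _ _ _).symm
    refine (NatTrans.naturality_apply θ.hom m.op (BC.eta g G V s)).trans ?_
    rw [e1]
    exact ((ConcreteCategory.comp_apply _ _ _).symm.trans (ConcreteCategory.congr_hom
      ((BC.P g' F).obj.map_comp (BC.swap h.w V).op ((EtCoh.bc f').map m).op).symm _))
  have : (θ.hom.app (op U) : _ → _) ∘ CM.res m G = CM.res (push h m) F := funext key
  exact (Function.Bijective.of_comp_iff _ h1).1 (this.symm ▸ h2)

include hθ in
theorem isLocallyInjective_and_surjective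
    (hcov : ∀ (U : Y'.Etale) (x : U.left), ∃ (U₁ : Y'.Etale) (p : U₁ ⟶ U) (x₁ : U₁.left) (V : Y.Etale)
      (m : U₁ ⟶ (EtCoh.bc g).obj V), p.left.base x₁ = x ∧ Good m) :
    Presheaf.IsLocallyInjective Y'.smallEtaleTopology θ.hom ∧
      Presheaf.IsLocallySurjective Y'.smallEtaleTopology θ.hom := by
  refine ⟨⟨fun {U} s t hst => (mem_topology_iff _).2 fun x => ?_⟩,
    ⟨fun {U} s => (mem_topology_iff _).2 fun x => ?_⟩⟩
  · obtain ⟨U₁, p, x₁, V, m, hx, hm⟩ := hcov U.unop x
    refine ⟨U₁, p, x₁, ?_, hx⟩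
    refine (bijective_app h F θ hθ m hm).1 ?_
    exact ((NatTrans.naturality_apply θ.hom p.op s).trans (congrArg _ hst)).trans
      (NatTrans.naturality_apply θ.hom p.op t).symm
  · obtain ⟨U₁, p, x₁, V, m, hx, hm⟩ := hcov U x
    exact ⟨U₁, p, x₁, (bijective_app h F θ hθ m hm).2 _, hx⟩

end Main

end Groth.L27.EtSite.CBC
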