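import Groth.Agent.L27.EtSite.StrictLocal
import Groth.Agent.L27.StrictCover
import Mathlib.FieldTheory.IsSepClosed

/-! # The small etale topos of a separably closed field is the category of sets -/

set_option autoImplicit false
set_option linter.style.haveILetI false
set_option backward.isDefEq.respectTransparency.types false

universe u

open CategoryTheory CategoryTheory.Limits AlgebraicGeometry Opposite

namespace Groth.L27.SepClosedPoint

open Groth.L27.EtSite

variable (k : Type u) [Field k] [IsSepClosed k]

theorem isSepClosed_residueField : IsSepClosed (IsLocalRing.ResidueField k) :=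
  Groth.L27.StrictCover.isSepClosed_of_ringEquiv (RingEquiv.ofBijective (IsLocalRing.residue k)
    ⟨(IsLocalRing.residue k).injective, Ideal.Quotient.mk_surjective⟩)

attribute [local instance] isSepClosed_residueField

/-- Presheaf maps which are bijective on global sections are locally bijective. -/
theorem locallyBijective_of_top {P Q : (Spec (CommRingCat.of k)).Etaleᵒᵖ ⥤ Type (u + 1)} (f : P ⟶ Q)
    (hf : Function.Bijective (f.app (op (EtCoh.top (Spec (CommRingCat.of k)))))) :
    Presheaf.IsLocallyInjective (Spec (CommRingCat.of k)).smallEtaleTopology f ∧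
      Presheaf.IsLocallySurjective (Spec (CommRingCat.of k)).smallEtaleTopology f := by
  have hP := bijective_toPresheafFiber k (A := Type (u + 1)) P
  have hQ := bijective_toPresheafFiber k (A := Type (u + 1)) Q
  have hb : Function.Bijective ((Scheme.pointSmallEtale (closedPt k)).presheafFiber.map f) := by
    refine ⟨fun p p' h => ?_, fun q => ?_⟩
    · obtain ⟨s, rfl⟩ := hP.2 p
      obtain ⟨s', rfl⟩ := hP.2 p'
      rw [GrothendieckTopology.Point.toPresheafFiber_naturality_apply,
        GrothendieckTopology.Point.toPresheafFiber_naturality_apply] at h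
      rw [hf.1 (hQ.1 h)]
    · obtain ⟨t, rfl⟩ := hQ.2 q
      obtain ⟨s, rfl⟩ := hf.2 t
      exact ⟨_, GrothendieckTopology.Point.toPresheafFiber_naturality_apply _ f _ _ s⟩
  have hx : ∀ x : Spec (CommRingCat.of k), ∃ (Ω : Type u) (_ : Field Ω) (_ : IsSepClosed Ω)
      (ξ : Spec (CommRingCat.of Ω) ⟶ Spec (CommRingCat.of k)), ξ.base default = x ∧
        Function.Bijective ((Scheme.pointSmallEtale ξ).presheafFiber.map f) := fun x =>
    ⟨IsLocalRing.ResidueField k, inferInstance, inferInstance, closedPt k,
      Subsingleton.elim (α := PrimeSpectrum k) _ _, hb⟩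
  exact ⟨isLocallyInjective_of_some_stalks f fun x =>
      let ⟨Ω, i₁, i₂, ξ, h1, h2⟩ := hx x; ⟨Ω, i₁, i₂, ξ, h1, h2.1⟩,
    isLocallySurjective_of_some_stalks f fun x =>
      let ⟨Ω, i₁, i₂, ξ, h1, h2⟩ := hx x; ⟨Ω, i₁, i₂, ξ, h1, h2.2⟩⟩

theorem isEquivalence_sections :
    ((sheafSections (Spec (CommRingCat.of k)).smallEtaleTopology (Type (u + 1))).obj
      (op (EtCoh.top (Spec (CommRingCat.of k))))).IsEquivalence := by
  let X := Spec (CommRingCat.of k)
  let adj := constantSheafAdj X.smallEtaleTopology (Type (u + 1)) (isTerminalTop X)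
  have hunit : ∀ M, IsIso (adj.unit.app M) := fun M => by
    rw [isIso_iff_bijective]
    let P := (Functor.const X.Etaleᵒᵖ).obj M
    have h2 : Function.Bijective
        ((toSheafify X.smallEtaleTopology P).app (op (EtCoh.top X))) := by
      have hP := bijective_toPresheafFiber k (A := Type (u + 1)) P
      have hQ := bijective_toPresheafFiber k (A := Type (u + 1)) (sheafify X.smallEtaleTopology P)
      have hm : Function.Bijective
          ((Scheme.pointSmallEtale (closedPt k)).presheafFiber.map (toSheafify X.smallEtaleTopology P)) :=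
        (isIso_iff_bijective _).1 inferInstance
      refine ⟨fun s s' h => hP.1 (hm.1 ?_), fun t => ?_⟩
      · rw [GrothendieckTopology.Point.toPresheafFiber_naturality_apply,
          GrothendieckTopology.Point.toPresheafFiber_naturality_apply, h]
      · obtain ⟨p, hp⟩ := hm.2 ((Scheme.pointSmallEtale (closedPt k)).toPresheafFiber _ (topPt k) (sheafify X.smallEtaleTopology P) t)
        obtain ⟨s, rfl⟩ := hP.2 p
        rw [GrothendieckTopology.Point.toPresheafFiber_naturality_apply] at hp
        exact ⟨s, hQ.1 hp⟩
    exact h2
  have hcounit : ∀ F, IsIso (adj.counit.app F) := fun F => by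
    haveI := hunit
    haveI : IsIso (((sheafSections X.smallEtaleTopology (Type (u + 1))).obj
        (op (EtCoh.top X))).map (adj.counit.app F)) := by
      exact IsIso.of_isIso_fac_left (adj.right_triangle_components F)
    obtain ⟨h1, h2⟩ := locallyBijective_of_top k (adj.counit.app F).hom ((isIso_iff_bijective _).1
      (inferInstanceAs (IsIso (((sheafSections X.smallEtaleTopology (Type (u + 1))).obj
        (op (EtCoh.top X))).map (adj.counit.app F)))))
    exact (Sheaf.isLocallyBijective_iff_isIso (adj.counit.app F)).1 ⟨h1, h2⟩
  exact (adj.toEquivalence).isEquivalence_inverse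

end Groth.L27.SepClosedPoint
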