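import Groth.Agent.L27.EtSite.Points
import Mathlib.AlgebraicGeometry.Limits
import Mathlib.AlgebraicGeometry.Morphisms.Affine
import Mathlib.AlgebraicGeometry.Morphisms.Etale
import Mathlib.AlgebraicGeometry.Morphisms.UniversallyOpen

/-! # Étale sheaves are Zariski sheaves satisfying descent for affine surjections -/

set_option autoImplicit false
set_option linter.style.haveILetI false
set_option backward.isDefEq.respectTransparency.types false

universe w u

open CategoryTheory CategoryTheory.Limits AlgebraicGeometry Opposite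

namespace Groth.L27.SheafCriterion

variable {X : Scheme.{u}}

/-- The Zariski topology on the small étale category. -/
abbrev zar (X : Scheme.{u}) : GrothendieckTopology X.Etale :=
  X.smallGrothendieckTopology (P := @IsOpenImmersion)

lemma mem_zar_iff {U : X.Etale} (S : Sieve U) :
    S ∈ zar X U ↔ ∀ x : U.left, ∃ (V : X.Etale) (g : V ⟶ U) (v : V.left),
      S g ∧ IsOpenImmersion g.left ∧ g.left.base v = x := by
  have hle : (@IsOpenImmersion : MorphismProperty Scheme.{u}) ≤ EtCoh.etaleMP := fun A B f hf => by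
    haveI := hf
    exact (inferInstance : AlgebraicGeometry.Etale f)
  have e : zar X = (X.smallPretopology (P := @IsOpenImmersion) (Q := EtCoh.etaleMP)).toGrothendieck :=
    Scheme.smallGrothendieckTopology_eq_toGrothendieck_smallPretopology X hle
  rw [e]
  exact Scheme.mem_toGrothendieck_smallPretopology U S

lemma zar_le : zar X ≤ X.smallEtaleTopology := fun U S hS => by
  rw [EtSite.mem_topology_iff]
  intro x
  obtain ⟨V, g, v, hg, -, hv⟩ := (mem_zar_iff S).1 hS x
  exact ⟨V, g, v, hg, hv⟩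

variable (X) in
/-- The affine opens of an object. -/
def affPresieve (U : X.Etale) : Presieve U :=
  fun W g => IsAffine W.left ∧ IsOpenImmersion g.left

lemma exists_aff (U : X.Etale) (x : U.left) : ∃ (W : X.Etale) (g : W ⟶ U) (v : W.left),
    affPresieve X U g ∧ g.left.base v = x := by
  obtain ⟨O, hO, hxO⟩ : ∃ O : U.left.Opens, IsAffineOpen O ∧ x ∈ O := by
    obtain ⟨_, ⟨O, hO, rfl⟩, hxO, -⟩ := U.left.isBasis_affineOpens.exists_subset_of_mem_open
      (Set.mem_univ x) isOpen_univ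
    exact ⟨O, hO, hxO⟩
  haveI : AlgebraicGeometry.Etale U.hom := U.prop
  let W : X.Etale := MorphismProperty.Over.mk ⊤ (O.ι ≫ U.hom)
    (inferInstanceAs (AlgebraicGeometry.Etale _))
  exact ⟨W, MorphismProperty.Over.homMk O.ι rfl, (⟨x, hxO⟩ : O),
    ⟨hO, (inferInstance : IsOpenImmersion O.ι)⟩, rfl⟩

lemma generate_aff_mem (U : X.Etale) : Sieve.generate (affPresieve X U) ∈ zar X U :=
  (mem_zar_iff _).2 fun x => by
    obtain ⟨W, g, v, hg, hv⟩ := exists_aff U x
    exact ⟨W, g, v, Sieve.le_generate _ _ _ hg, hg.2, hv⟩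

/-- A covering sieve of an affine object is dominated by an affine surjection, Zariski locally. -/
lemma exists_affine_dom {W : X.Etale} [IsAffine W.left] (S : Sieve W)
    (hS : S ∈ X.smallEtaleTopology W) :
    ∃ (V : X.Etale) (_ : IsAffine V.left) (f : V ⟶ W) (_ : Surjective f.left) (T : Sieve V),
      T ∈ zar X V ∧ ∀ ⦃Z : X.Etale⦄ (g : Z ⟶ V), T g → S (g ≫ f) := by
  classical
  haveI : AlgebraicGeometry.Etale W.hom := W.prop
  have hS' := (EtSite.mem_topology_iff _).1 hS
  have hloc : ∀ x : W.left, ∃ (A : X.Etale) (a : A ⟶ W),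
      IsAffine A.left ∧ S a ∧ x ∈ Set.range a.left := by
    intro x
    obtain ⟨V, g, v, hg, hv⟩ := hS' x
    obtain ⟨A, i, y, hA, hy⟩ := exists_aff V v
    refine ⟨A, i ≫ g, hA.1, S.downward_closed hg i, y, ?_⟩
    show g.left (i.left y) = x
    rw [← hv, ← hy]
  choose A a hA haS hax using hloc
  have hcover : (Set.univ : Set W.left) ⊆ ⋃ x, Set.range (a x).left := fun x _ =>
    Set.mem_iUnion.2 ⟨x, hax x⟩
  haveI : CompactSpace W.left := inferInstance
  obtain ⟨t, ht⟩ := isCompact_univ.elim_finite_subcover (fun x => Set.range (a x).left)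
    (fun x => (a x).left.isOpenMap.isOpen_range) hcover
  let g : t → Scheme.{u} := fun i => (A i.1).left
  haveI : ∀ i, IsAffine (g i) := fun i => hA i.1
  let q : (∐ g) ⟶ W.left := Sigma.desc fun i => (a i.1).left
  haveI : ∀ i : t, AlgebraicGeometry.Etale (a i.1).left := fun i => EtSite.etale_left _
  haveI : AlgebraicGeometry.Etale q := IsZariskiLocalAtSource.sigmaDesc fun i => inferInstance
  let V : X.Etale := MorphismProperty.Over.mk ⊤ (q ≫ W.hom)
    (inferInstanceAs (AlgebraicGeometry.Etale _))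
  let f : V ⟶ W := MorphismProperty.Over.homMk q rfl
  let inj : ∀ i : t, A i.1 ⟶ V := fun i => MorphismProperty.Over.homMk (Sigma.ι g i) (by
    show Sigma.ι g i ≫ q ≫ W.hom = (A i.1).hom
    rw [Sigma.ι_desc_assoc]
    exact Over.w (a i.1).hom)
  have hinj : ∀ i, inj i ≫ f = a i.1 := fun i =>
    MorphismProperty.Over.Hom.ext (Sigma.ι_desc _ _)
  refine ⟨V, (inferInstance : IsAffine (∐ g)), f, ⟨fun x => ?_⟩,
    Sieve.ofArrows (fun i : t => A i.1) inj, (mem_zar_iff _).2 fun v => ?_, ?_⟩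
  · obtain ⟨i, hi, y, hy⟩ := Set.mem_iUnion₂.1 (ht (Set.mem_univ x))
    refine ⟨Sigma.ι g ⟨i, hi⟩ y, ?_⟩
    show q (Sigma.ι g ⟨i, hi⟩ y) = x
    rw [← Scheme.Hom.comp_apply, Sigma.ι_desc]
    exact hy
  · obtain ⟨i, y, hy⟩ := (sigmaOpenCover g).exists_eq v
    exact ⟨A i.1, inj i, y, Sieve.ofArrows_mk _ _ i,
      inferInstanceAs (IsOpenImmersion (Sigma.ι g i)), hy⟩
  · intro Z h hh
    obtain ⟨i, k, rfl⟩ : ∃ (i : t) (k : Z ⟶ A i.1), k ≫ inj i = h := by
      obtain ⟨_, k, _, ⟨i⟩, hk⟩ := hh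
      exact ⟨i, k, hk⟩
    rw [Category.assoc, hinj]
    exact S.downward_closed (haS i.1) k

variable (F : X.Etaleᵒᵖ ⥤ Type w) (hZ : Presieve.IsSheaf (zar X) F)
  (hA : ∀ (U V : X.Etale) [IsAffine U.left] [IsAffine V.left] (f : V ⟶ U) [Surjective f.left],
    Presieve.IsSheafFor F (Presieve.singleton f))

include hZ hA in
lemma ext_of_cover {U : X.Etale} (S : Sieve U) (hS : S ∈ X.smallEtaleTopology U)
    (s t : F.obj (op U)) (h : ∀ ⦃Z : X.Etale⦄ (g : Z ⟶ U), S g → F.map g.op s = F.map g.op t) :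
    s = t := by
  refine (hZ _ (generate_aff_mem U)).isSeparatedFor.ext fun Z k hk => ?_
  obtain ⟨W, l, w, ⟨hW, hw⟩, rfl⟩ := hk
  suffices e : F.map w.op s = F.map w.op t by
    rw [op_comp, Functor.map_comp_apply, Functor.map_comp_apply, e]
  haveI := hW
  obtain ⟨V, hV, f, hf, T, hT, hTS⟩ := exists_affine_dom (S.pullback w)
    (X.smallEtaleTopology.pullback_stable w hS)
  refine (hA W V f).isSeparatedFor.ext fun Z k hk => ?_
  obtain ⟨⟩ := hk
  refine (hZ _ hT).isSeparatedFor.ext fun Z g hg => ?_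
  have := h _ (hTS g hg)
  simp only [op_comp, Functor.map_comp_apply] at this
  exact this

include hZ hA in
lemma exists_glue_affine {U : X.Etale} (S : Sieve U) (hS : S ∈ X.smallEtaleTopology U)
    (x : Presieve.FamilyOfElements F S.arrows) (hx : x.Compatible) {W : X.Etale} [IsAffine W.left]
    (w : W ⟶ U) :
    ∃ s : F.obj (op W), ∀ ⦃Z : X.Etale⦄ (h : Z ⟶ W) (hh : S (h ≫ w)),
      F.map h.op s = x (h ≫ w) hh := by
  have hx' : ∀ ⦃Y Z : X.Etale⦄ (f : Y ⟶ U) (g : Z ⟶ Y) (hf : S f) (hgf : S (g ≫ f)),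
      x (g ≫ f) hgf = F.map g.op (x f hf) := fun Y Z f g hf hgf =>
    (Presieve.compatible_iff_sieveCompatible x).1 hx f g hf
  obtain ⟨V, hV, f, hf, T, hT, hTS⟩ := exists_affine_dom (S.pullback w)
    (X.smallEtaleTopology.pullback_stable w hS)
  have hTS' : ∀ ⦃Z : X.Etale⦄ (g : Z ⟶ V), T g → S (g ≫ f ≫ w) := fun Z g hg => by
    have : S ((g ≫ f) ≫ w) := hTS g hg
    rwa [Category.assoc] at this
  let z : Presieve.FamilyOfElements F T.arrows := fun Z g hg => x (g ≫ f ≫ w) (hTS' g hg)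
  have hz : z.Compatible := by
    intro Y₁ Y₂ Z g₁ g₂ f₁ f₂ h₁ h₂ e
    exact hx g₁ g₂ (hTS' f₁ h₁) (hTS' f₂ h₂) (by rw [← Category.assoc, e, Category.assoc])
  let y : F.obj (op V) := (hZ T hT).amalgamate z hz
  have hy : ∀ ⦃Z : X.Etale⦄ (g : Z ⟶ V) (hg : T g), F.map g.op y = x (g ≫ f ≫ w) (hTS' g hg) :=
    fun Z g hg => Presieve.IsSheafFor.valid_glue (hZ T hT) hz g hg
  obtain ⟨s, hs, -⟩ := (Presieve.isSheafFor_singleton.1 (hA W V f)) y fun {Z} p₁ p₂ e => by
    refine (hZ _ ((zar X).intersection_covering ((zar X).pullback_stable p₁ hT)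
      ((zar X).pullback_stable p₂ hT))).isSeparatedFor.ext fun Z' k hk => ?_
    rw [← Functor.map_comp_apply, ← Functor.map_comp_apply, ← op_comp, ← op_comp,
      hy (k ≫ p₁) hk.1, hy (k ≫ p₂) hk.2]
    congr 1
    rw [Category.assoc, Category.assoc, reassoc_of% e]
  refine ⟨s, fun Z h hh => ?_⟩
  let T' : Sieve W :=
    { arrows := fun Y k => ∃ m : Y ⟶ V, m ≫ f = k ∧ T m
      downward_closed := fun {Y₁ Y₂ k} hk l => by
        obtain ⟨m, rfl, hm⟩ := hk
        exact ⟨l ≫ m, Category.assoc _ _ _, T.downward_closed hm l⟩ }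
  have hT' : T' ∈ X.smallEtaleTopology W := (EtSite.mem_topology_iff _).2 fun p => by
    obtain ⟨v, hv⟩ := f.left.surjective p
    obtain ⟨Y, g, y', hg, -, hy'⟩ := (mem_zar_iff _).1 hT v
    exact ⟨Y, g ≫ f, y', ⟨g, rfl, hg⟩, by rw [← hv, ← hy']; rfl⟩
  refine ext_of_cover F hZ hA (T'.pullback h) (X.smallEtaleTopology.pullback_stable h hT') _ _
    fun Y k hk => ?_
  obtain ⟨m, hm, hTm⟩ := hk
  have hk' : S (k ≫ h ≫ w) := S.downward_closed hh k
  rw [← hx' _ k hh hk', ← Functor.map_comp_apply, ← op_comp, ← hm, op_comp,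
    Functor.map_comp_apply, hs, hy m hTm]
  congr 1
  rw [← Category.assoc, hm, Category.assoc]

include hZ hA in
theorem isSheaf : Presieve.IsSheaf X.smallEtaleTopology F := by
  intro U S hS x hx
  have hx' : ∀ ⦃Y Z : X.Etale⦄ (f : Y ⟶ U) (g : Z ⟶ Y) (hf : S f) (hgf : S (g ≫ f)),
      x (g ≫ f) hgf = F.map g.op (x f hf) := fun Y Z f g hf hgf =>
    (Presieve.compatible_iff_sieveCompatible x).1 hx f g hf
  choose s hs using fun (W : X.Etale) (w : W ⟶ U) (hw : affPresieve X U w) =>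
    haveI := hw.1
    exists_glue_affine F hZ hA S hS x hx w
  let z : Presieve.FamilyOfElements F (affPresieve X U) := fun W w hw => s W w hw
  have hz : z.Compatible := by
    intro W₁ W₂ Z g₁ g₂ w₁ w₂ h₁ h₂ e
    refine ext_of_cover F hZ hA (S.pullback (g₁ ≫ w₁))
      (X.smallEtaleTopology.pullback_stable _ hS) _ _ fun Y k hk => ?_
    have k₁ : S ((k ≫ g₁) ≫ w₁) := by rw [Category.assoc]; exact hk
    have k₂ : S ((k ≫ g₂) ≫ w₂) := by rw [Category.assoc, ← e]; exact hk
    rw [← Functor.map_comp_apply, ← Functor.map_comp_apply, ← op_comp, ← op_comp,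
      hs W₁ w₁ h₁ (k ≫ g₁) k₁, hs W₂ w₂ h₂ (k ≫ g₂) k₂]
    congr 1
    rw [Category.assoc, Category.assoc, e]
  have hsh := (Presieve.isSheafFor_iff_generate _).2 (hZ _ (generate_aff_mem U))
  have key : x.IsAmalgamation (hsh.amalgamate z hz) := by
    intro Z h hh
    refine ext_of_cover F hZ hA ((Sieve.generate (affPresieve X U)).pullback h)
      (X.smallEtaleTopology.pullback_stable h (zar_le U (generate_aff_mem U))) _ _ fun Y k hk => ?_
    obtain ⟨W, m, w, hw, e⟩ := hk
    have hk' : S (k ≫ h) := S.downward_closed hh k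
    have hm : S (m ≫ w) := by rw [e]; exact hk'
    rw [← Functor.map_comp_apply, ← op_comp, ← hx' h k hh hk']
    have h2 : x (k ≫ h) hk' = x (m ≫ w) hm := by
      congr 1
      exact e.symm
    rw [h2]
    refine (congrArg (fun q : Y ⟶ U => F.map q.op (hsh.amalgamate z hz)) e.symm).trans ?_
    show F.map (m ≫ w).op (hsh.amalgamate z hz) = _
    rw [op_comp, Functor.map_comp_apply, hsh.valid_glue hz w hw]
    exact hs W w hw m hm
  refine ⟨_, key, fun t ht => ext_of_cover F hZ hA S hS _ _ fun Z g hg => ?_⟩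
  rw [ht g hg, key g hg]

theorem isSheaf_iff :
    Presieve.IsSheaf X.smallEtaleTopology F ↔
      Presieve.IsSheaf (zar X) F ∧
        ∀ (U V : X.Etale) [IsAffine U.left] [IsAffine V.left] (f : V ⟶ U) [Surjective f.left],
          Presieve.IsSheafFor F (Presieve.singleton f) := by
  refine ⟨fun h => ⟨Presieve.isSheaf_of_le F zar_le h, fun U V _ _ f _ => ?_⟩,
    fun h => isSheaf F h.1 h.2⟩
  rw [Presieve.isSheafFor_iff_generate]
  refine h _ ((EtSite.mem_topology_iff _).2 fun x => ?_)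
  obtain ⟨v, hv⟩ := f.left.surjective x
  exact ⟨V, f, v, Sieve.le_generate _ _ _ (Presieve.singleton_self f), hv⟩

end Groth.L27.SheafCriterion
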