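import Groth.Agent.L27.EtSite.Separation
import Groth.Agent.L27.EtSite.PushStalk

/-! # The topology of geometric fibres of integral morphisms -/

universe u

open CategoryTheory CategoryTheory.Limits AlgebraicGeometry TopologicalSpace Opposite TensorProduct

set_option backward.isDefEq.respectTransparency.types false
set_option linter.style.haveILetI false

namespace Groth.L27.EtSite

variable {X Y Z : Scheme.{u}} {f : X ⟶ Y} {Ω : Type u} [Field Ω] [IsSepClosed Ω]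
  {η : Spec (CommRingCat.of Ω) ⟶ Y} {p : Z ⟶ X} {q : Z ⟶ Spec (CommRingCat.of Ω)}

/-- The geometric fibre maps to the base change to any etale neighbourhood. -/
noncomputable def fibreMap (h : IsPullback p q f η) (V : Y.Etale) (y : (Scheme.pointSmallEtale η).fiber.obj V) :
    Z ⟶ ((EtCoh.bc f).obj V).left :=
  pullback.lift (q ≫ y.left) p
    ((Category.assoc _ _ _).trans ((congrArg (q ≫ ·) (Over.w y)).trans h.w.symm))

variable (h : IsPullback p q f η)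

theorem fibreMap_map {V V' : Y.Etale} (a : V' ⟶ V) (y' : (Scheme.pointSmallEtale η).fiber.obj V') :
    fibreMap h V' y' ≫ ((EtCoh.bc f).map a).left =
      fibreMap h V ((Scheme.pointSmallEtale η).fiber.map a y') := by
  refine pullback.hom_ext ?_ ?_
  · refine (Category.assoc _ _ _).trans ((congrArg (_ ≫ ·) (EtCoh.isPullback_bc_map f a).w).trans ?_)
    exact ((Category.assoc _ _ _).symm.trans (congrArg (· ≫ a.left) (pullback.lift_fst _ _ _))).trans
      ((Category.assoc _ _ _).trans (pullback.lift_fst _ _ _).symm)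
  · refine (Category.assoc _ _ _).trans ((congrArg (_ ≫ ·) (MorphismProperty.Over.w ((EtCoh.bc f).map a))).trans ?_)
    exact (pullback.lift_snd _ _ _).trans (pullback.lift_snd _ _ _).symm

/-- Two points of the geometric fibre are separated by a clopen over an etale neighbourhood. -/
theorem exists_separation [IsIntegralHom f] (h : IsPullback p q f η) (z z' : Z) (hne : z ≠ z') :
    ∃ (V : Y.Etale) (y : (Scheme.pointSmallEtale η).fiber.obj V) (W : ((EtCoh.bc f).obj V).left.Opens),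
      IsClosed (W : Set ((EtCoh.bc f).obj V).left) ∧ fibreMap h V y z ∈ W ∧ fibreMap h V y z' ∉ W := by
  obtain ⟨_, ⟨Vo, hVo, rfl⟩, hy0, -⟩ := Y.isBasis_affineOpens.exists_subset_of_mem_open
    (Set.mem_univ (η.base default)) isOpen_univ
  have hXo : IsAffineOpen (f ⁻¹ᵁ Vo) := hVo.preimage f
  obtain ⟨a, ha⟩ : ∃ a : Γ(Y, Vo) ⟶ CommRingCat.of Ω, Spec.map a ≫ hVo.fromSpec = η := by
    have hr : Set.range η ⊆ Set.range hVo.fromSpec := by
      rintro _ ⟨t, rfl⟩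
      obtain rfl : t = (default : Spec (CommRingCat.of Ω)) := Subsingleton.elim (α := Spec (CommRingCat.of Ω)) _ _
      exact hVo.range_fromSpec.ge hy0
    obtain ⟨a, ha⟩ : ∃ a, Spec.map a = IsOpenImmersion.lift hVo.fromSpec η hr := Spec.map_surjective _
    exact ⟨a, by rw [ha, IsOpenImmersion.lift_fac]⟩
  letI : Algebra Γ(Y, Vo) Γ(X, f ⁻¹ᵁ Vo) := (f.app Vo).hom.toAlgebra
  letI : Algebra Γ(Y, Vo) Ω := a.hom.toAlgebra
  haveI : Algebra.IsIntegral Γ(Y, Vo) Γ(X, f ⁻¹ᵁ Vo) := ⟨IsIntegralHom.isIntegral_app f Vo hVo⟩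
  -- the fibre as a spectrum
  have H2 : IsPullback (Spec.map (f.app Vo)) hXo.fromSpec hVo.fromSpec f := by
    refine IsOpenImmersion.isPullback _ _ _ _ ?_ ?_
    · rw [← IsAffineOpen.SpecMap_appLE_fromSpec f hVo hXo le_rfl, Scheme.Hom.app_eq_appLE]
    · rw [IsAffineOpen.opensRange_fromSpec, IsAffineOpen.opensRange_fromSpec]
  let inl : Γ(X, f ⁻¹ᵁ Vo) ⟶ CommRingCat.of (Γ(X, f ⁻¹ᵁ Vo) ⊗[Γ(Y, Vo)] Ω) :=
    CommRingCat.ofHom Algebra.TensorProduct.includeLeftRingHom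
  let inr : CommRingCat.of Ω ⟶ CommRingCat.of (Γ(X, f ⁻¹ᵁ Vo) ⊗[Γ(Y, Vo)] Ω) :=
    CommRingCat.ofHom (Algebra.TensorProduct.includeRight : Ω →ₐ[Γ(Y, Vo)] _).toRingHom
  have hpo : IsPushout (f.app Vo) a inl inr :=
    CommRingCat.isPushout_tensorProduct Γ(Y, Vo) Γ(X, f ⁻¹ᵁ Vo) Ω
  have H1 := isPullback_SpecMap_of_isPushout _ _ _ _ hpo
  have H3 : IsPullback (Spec.map inl ≫ hXo.fromSpec) (Spec.map inr) f η :=
    ha ▸ (H1.flip.paste_vert H2.flip.flip).flip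
  let e := h.isoIsPullback _ _ H3
  have he1 : e.hom ≫ Spec.map inl ≫ hXo.fromSpec = p := IsPullback.isoIsPullback_hom_fst _ _ _ _
  have he2 : e.hom ≫ Spec.map inr = q := IsPullback.isoIsPullback_hom_snd _ _ _ _
  obtain ⟨A', _, _, hA', φ, ε, hε, hεz, hεz'⟩ := exists_sep_idem Γ(Y, Vo) Γ(X, f ⁻¹ᵁ Vo) Ω (e.hom z) (e.hom z')
    (fun he => hne (e.hom.homeomorph.injective he))
  let v₀ : Spec (CommRingCat.of A') ⟶ Spec Γ(Y, Vo) := Spec.map (CommRingCat.ofHom (algebraMap Γ(Y, Vo) A'))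
  haveI : AlgebraicGeometry.Etale v₀ := HasRingHomProperty.Spec_iff.mpr (RingHom.etale_algebraMap.mpr hA')
  let v : Spec (CommRingCat.of A') ⟶ Y := v₀ ≫ hVo.fromSpec
  haveI : AlgebraicGeometry.Etale v := inferInstanceAs (AlgebraicGeometry.Etale (_ ≫ _))
  let jl : Γ(X, f ⁻¹ᵁ Vo) ⟶ CommRingCat.of (Γ(X, f ⁻¹ᵁ Vo) ⊗[Γ(Y, Vo)] A') :=
    CommRingCat.ofHom Algebra.TensorProduct.includeLeftRingHom
  let jr : CommRingCat.of A' ⟶ CommRingCat.of (Γ(X, f ⁻¹ᵁ Vo) ⊗[Γ(Y, Vo)] A') :=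
    CommRingCat.ofHom (Algebra.TensorProduct.includeRight : A' →ₐ[Γ(Y, Vo)] _).toRingHom
  have hpo' : IsPushout (f.app Vo) (CommRingCat.ofHom (algebraMap Γ(Y, Vo) A')) jl jr :=
    CommRingCat.isPushout_tensorProduct Γ(Y, Vo) Γ(X, f ⁻¹ᵁ Vo) A'
  have H4 : IsPullback (Spec.map jr) (Spec.map jl ≫ hXo.fromSpec) v f :=
    (isPullback_SpecMap_of_isPushout _ _ _ _ hpo').flip.paste_vert H2.flip.flip
  let V : Y.Etale := Scheme.Etale.mk v
  let y : (Scheme.pointSmallEtale η).fiber.obj V := Over.homMk (Spec.map (CommRingCat.ofHom φ.toRingHom)) (by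
    show Spec.map (CommRingCat.ofHom φ.toRingHom) ≫ v₀ ≫ hVo.fromSpec = η
    rw [← Category.assoc, ← Spec.map_comp, ← ha]
    exact congrArg (· ≫ hVo.fromSpec) (congrArg Spec.map (CommRingCat.hom_ext φ.comp_algebraMap)))
  let ε' := H4.isoPullback
  let O : (Spec (CommRingCat.of (Γ(X, f ⁻¹ᵁ Vo) ⊗[Γ(Y, Vo)] A'))).Opens := PrimeSpectrum.basicOpen ε
  let μ : CommRingCat.of (Γ(X, f ⁻¹ᵁ Vo) ⊗[Γ(Y, Vo)] A') ⟶ CommRingCat.of (Γ(X, f ⁻¹ᵁ Vo) ⊗[Γ(Y, Vo)] Ω) :=
    CommRingCat.ofHom (Algebra.TensorProduct.map (AlgHom.id Γ(X, f ⁻¹ᵁ Vo) Γ(X, f ⁻¹ᵁ Vo)) φ).toRingHom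
  have hμl : jl ≫ μ = inl := CommRingCat.hom_ext (RingHom.ext fun b => by simp [jl, μ, inl])
  have hμr : jr ≫ μ = CommRingCat.ofHom φ.toRingHom ≫ inr :=
    CommRingCat.hom_ext (RingHom.ext fun b => by simp [jr, μ, inr])
  have hk : fibreMap h V y ≫ ε'.inv = e.hom ≫ Spec.map μ := by
    rw [Iso.comp_inv_eq, Category.assoc]
    refine pullback.hom_ext ?_ ?_
    · refine (pullback.lift_fst _ _ _).trans ?_
      show q ≫ Spec.map (CommRingCat.ofHom φ.toRingHom) =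
        (e.hom ≫ Spec.map μ ≫ H4.isoPullback.hom) ≫ pullback.fst v f
      rw [Category.assoc, Category.assoc, IsPullback.isoPullback_hom_fst, ← Spec.map_comp, hμr, Spec.map_comp,
        ← Category.assoc, he2]
    · refine (pullback.lift_snd _ _ _).trans ?_
      show p = (e.hom ≫ Spec.map μ ≫ H4.isoPullback.hom) ≫ pullback.snd v f
      rw [Category.assoc, Category.assoc, IsPullback.isoPullback_hom_snd, ← Spec.map_comp_assoc, hμl, he1]
  have hk' : ∀ w, ε'.inv (fibreMap h V y w) = Spec.map μ (e.hom w) := fun w =>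
    (Scheme.Hom.comp_apply _ _ _).symm.trans ((congrArg (fun m : Z ⟶ _ => m w) hk).trans (Scheme.Hom.comp_apply _ _ _))
  refine ⟨V, y, ε'.inv ⁻¹ᵁ O, ?_, ?_, ?_⟩
  · exact ((PrimeSpectrum.isClopen_iff.2 ⟨ε, hε, rfl⟩).1.preimage ε'.inv.continuous)
  · show ε'.inv (fibreMap h V y z) ∈ O
    exact (hk' z).symm ▸ hεz
  · show ε'.inv (fibreMap h V y z') ∉ O
    exact fun hh => (show Spec.map μ (e.hom z') ∈ O from (hk' z') ▸ hh) hεz'

/-- Clopens over etale neighbourhoods are a basis of the topology of the geometric fibre. -/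
theorem exists_clopen_subset [IsIntegralHom f] (h : IsPullback p q f η) (z : Z) (O : Set Z)
    (hO : IsOpen O) (hz : z ∈ O) :
    ∃ (V : Y.Etale) (y : (Scheme.pointSmallEtale η).fiber.obj V) (W : ((EtCoh.bc f).obj V).left.Opens),
      IsClosed (W : Set ((EtCoh.bc f).obj V).left) ∧ fibreMap h V y z ∈ W ∧
        ∀ z', fibreMap h V y z' ∈ W → z' ∈ O := by
  haveI : IsAffineHom q := MorphismProperty.of_isPullback h inferInstance
  haveI : CompactSpace Z := QuasiCompact.compactSpace_of_compactSpace q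
  choose V y W hW hz1 hz2 using fun z' : (Oᶜ : Set Z) =>
    exists_separation h z z' (fun e => z'.2 (e ▸ hz))
  obtain ⟨s, hs⟩ := hO.isClosed_compl.isCompact.elim_finite_subcover
    (fun i : (Oᶜ : Set Z) => (fibreMap h (V i) (y i)) ⁻¹' ((W i : Set ((EtCoh.bc f).obj (V i)).left))ᶜ)
    (fun i => IsOpen.preimage (fibreMap h (V i) (y i)).continuous (hW i).isOpen_compl)
    (fun z' hz' => Set.mem_iUnion.2 ⟨⟨z', hz'⟩, hz2 ⟨z', hz'⟩⟩)
  clear hz2
  classical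
  have key : ∀ s : Finset (Oᶜ : Set Z), ∃ (V₀ : Y.Etale) (y₀ : (Scheme.pointSmallEtale η).fiber.obj V₀)
      (W₀ : ((EtCoh.bc f).obj V₀).left.Opens), IsClosed (W₀ : Set ((EtCoh.bc f).obj V₀).left) ∧
      fibreMap h V₀ y₀ z ∈ W₀ ∧ ∀ z', fibreMap h V₀ y₀ z' ∈ W₀ → ∀ i ∈ s, fibreMap h (V i) (y i) z' ∈ W i := by
    intro s
    induction s using Finset.induction_on with
    | empty =>
      obtain ⟨⟨V₀, y₀⟩⟩ := (inferInstance : IsCofiltered (Scheme.pointSmallEtale η).fiber.Elements).nonempty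
      exact ⟨V₀, y₀, ⊤, by simp, trivial, fun _ _ i hi => absurd hi (Finset.notMem_empty i)⟩
    | insert i s hi ih =>
      obtain ⟨V₀, y₀, W₀, hW₀, hz₀, hs₀⟩ := ih
      obtain ⟨⟨V₁, y₁⟩, ⟨a, ha⟩, ⟨b, hb⟩, -⟩ := IsCofilteredOrEmpty.cone_objs
        ((Scheme.pointSmallEtale η).fiber.elementsMk V₀ y₀) ((Scheme.pointSmallEtale η).fiber.elementsMk (V i) (y i))
      have ea : ∀ x, ((EtCoh.bc f).map a).left (fibreMap h V₁ y₁ x) = fibreMap h V₀ y₀ x := fun x =>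
        (Scheme.Hom.comp_apply _ _ _).symm.trans ((congrArg (fun m : Z ⟶ _ => m x) (fibreMap_map h a y₁)).trans
          (congrArg (fun w => fibreMap h V₀ w x) ha))
      have eb : ∀ x, ((EtCoh.bc f).map b).left (fibreMap h V₁ y₁ x) = fibreMap h (V i) (y i) x := fun x =>
        (Scheme.Hom.comp_apply _ _ _).symm.trans ((congrArg (fun m : Z ⟶ _ => m x) (fibreMap_map h b y₁)).trans
          (congrArg (fun w => fibreMap h (V i) w x) hb))
      refine ⟨V₁, y₁, ((EtCoh.bc f).map a).left ⁻¹ᵁ W₀ ⊓ ((EtCoh.bc f).map b).left ⁻¹ᵁ W i,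
        (hW₀.preimage ((EtCoh.bc f).map a).left.continuous).inter ((hW i).preimage ((EtCoh.bc f).map b).left.continuous),
        ⟨show _ ∈ W₀ from (ea z).symm ▸ hz₀, show _ ∈ W i from (eb z).symm ▸ hz1 i⟩, fun z' hz' j hj => ?_⟩
      rcases Finset.mem_insert.1 hj with rfl | hj
      · exact eb z' ▸ hz'.2
      · exact hs₀ z' (ea z' ▸ hz'.1) j hj
  obtain ⟨V₀, y₀, W₀, hW₀, hz₀, hs₀⟩ := key s
  refine ⟨V₀, y₀, W₀, hW₀, hz₀, fun z' hz' => ?_⟩
  by_contra hzO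
  obtain ⟨i, hi, hmem⟩ := Set.mem_iUnion₂.1 (hs hzO)
  exact hmem (hs₀ z' hz' i hi)

end Groth.L27.EtSite
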