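import Groth.Agent.L27.EtSite.BaseChangeAux

/-! # Base change of direct images along integral morphisms -/

universe u v w

open CategoryTheory CategoryTheory.Limits AlgebraicGeometry TopologicalSpace Opposite

set_option backward.isDefEq.respectTransparency.types false
set_option linter.style.haveILetI false

namespace Groth.L27.EtSite.BC

variable {X Y X' Y' : Scheme.{u}} {f : X ⟶ Y} {g : Y' ⟶ Y} {f' : X' ⟶ Y'} {g' : X' ⟶ X}

/-- `X' ×_{Y'} (Y' ×_Y V) ⟶ X' ×_X (X ×_Y V)`. -/
noncomputable def swap (w : g' ≫ f = f' ≫ g) (V : Y.Etale) :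
    (EtCoh.bc f').obj ((EtCoh.bc g).obj V) ⟶ (EtCoh.bc g').obj ((EtCoh.bc f).obj V) :=
  MorphismProperty.Over.homMk
    (pullback.lift (pullback.lift (pullback.fst (pullback.snd V.hom g) f' ≫ pullback.fst V.hom g)
      (pullback.snd (pullback.snd V.hom g) f' ≫ g')
      ((Category.assoc _ _ _).trans ((congrArg (_ ≫ ·) pullback.condition).trans ((Category.assoc _ _ _).symm.trans
        ((congrArg (· ≫ g) pullback.condition).trans ((Category.assoc _ _ _).trans
          ((congrArg (_ ≫ ·) w.symm).trans (Category.assoc _ _ _).symm)))))))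
      (pullback.snd (pullback.snd V.hom g) f') (pullback.lift_snd _ _ _))
    (pullback.lift_snd _ _ _)

section Points

variable {Ω : Type u} [Field Ω] [IsSepClosed Ω]

/-- A geometric point of a base change from one downstairs. -/
noncomputable def up {S T : Scheme.{u}} (m : T ⟶ S) {ξ : Spec (CommRingCat.of Ω) ⟶ T} {W : S.Etale}
    (x : (Scheme.pointSmallEtale (ξ ≫ m)).fiber.obj W) :
    (Scheme.pointSmallEtale ξ).fiber.obj ((EtCoh.bc m).obj W) :=
  Over.homMk (pullback.lift x.left ξ (Over.w x)) (pullback.lift_snd _ _ _)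

/-- The inverse of `up`. -/
noncomputable def down {S T : Scheme.{u}} (m : T ⟶ S) {ξ : Spec (CommRingCat.of Ω) ⟶ T} {W : S.Etale}
    (x : (Scheme.pointSmallEtale ξ).fiber.obj ((EtCoh.bc m).obj W)) :
    (Scheme.pointSmallEtale (ξ ≫ m)).fiber.obj W :=
  (fiberBcIso m ξ).hom.app W x

theorem up_down {S T : Scheme.{u}} (m : T ⟶ S) {ξ : Spec (CommRingCat.of Ω) ⟶ T} {W : S.Etale}
    (x : (Scheme.pointSmallEtale ξ).fiber.obj ((EtCoh.bc m).obj W)) : up m (down m x) = x :=
  Over.OverMorphism.ext (pullback.hom_ext ((pullback.lift_fst _ _ _).trans rfl)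
    ((pullback.lift_snd _ _ _).trans (Over.w x).symm))

theorem up_injective {S T : Scheme.{u}} (m : T ⟶ S) {ξ : Spec (CommRingCat.of Ω) ⟶ T} {W : S.Etale}
    {x x' : (Scheme.pointSmallEtale (ξ ≫ m)).fiber.obj W} (h : up m x = up m x') : x = x' :=
  Over.OverMorphism.ext ((pullback.lift_fst _ _ _).symm.trans
    ((congrArg (fun e : (Scheme.pointSmallEtale ξ).fiber.obj ((EtCoh.bc m).obj W) =>
      e.left ≫ pullback.fst W.hom m) h).trans (pullback.lift_fst _ _ _)))

theorem map_up {S T : Scheme.{u}} (m : T ⟶ S) {ξ : Spec (CommRingCat.of Ω) ⟶ T} {W W' : S.Etale}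
    (c : W' ⟶ W) (x : (Scheme.pointSmallEtale (ξ ≫ m)).fiber.obj W') :
    (Scheme.pointSmallEtale ξ).fiber.map ((EtCoh.bc m).map c) (up m x) =
      up m ((Scheme.pointSmallEtale (ξ ≫ m)).fiber.map c x) := by
  refine Over.OverMorphism.ext (pullback.hom_ext ?_ ?_)
  · refine (Category.assoc _ _ _).trans ((congrArg (_ ≫ ·) (EtCoh.isPullback_bc_map m c).w).trans ?_)
    exact ((Category.assoc _ _ _).symm.trans (congrArg (· ≫ c.left) (pullback.lift_fst _ _ _))).trans
      (pullback.lift_fst (x.left ≫ c.left) ξ _).symm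
  · refine (Category.assoc _ _ _).trans ((congrArg (_ ≫ ·) (MorphismProperty.Over.w ((EtCoh.bc m).map c))).trans ?_)
    exact (pullback.lift_snd _ _ _).trans (pullback.lift_snd (x.left ≫ c.left) ξ _).symm

end Points

variable (h : IsPullback g' f' f g) {Ω : Type u} [Field Ω] [IsSepClosed Ω]
  (η' : Spec (CommRingCat.of Ω) ⟶ Y')

include h in
theorem isPullback_fibre :
    IsPullback (pullback.fst f' η' ≫ g') (pullback.snd f' η') f (η' ≫ g) :=
  (IsPullback.of_hasPullback f' η').paste_horiz h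

section Zeta

variable {η'} {Ω' : Type u} [Field Ω'] [IsSepClosed Ω']
  (ζ : Spec (CommRingCat.of Ω') ⟶ pullback f' η')

/-- The geometric point of `X ×_Y V` attached to a geometric point of the fibre. -/
noncomputable def ptX (V : Y.Etale) (y : (Scheme.pointSmallEtale (η' ≫ g)).fiber.obj V) :
    (Scheme.pointSmallEtale ((ζ ≫ pullback.fst f' η') ≫ g')).fiber.obj ((EtCoh.bc f).obj V) :=
  Over.homMk (ζ ≫ fibreMap (isPullback_fibre h η') V y)
    (((Category.assoc _ _ _).trans (congrArg (ζ ≫ ·) (pullback.lift_snd _ _ _))).trans (Category.assoc _ _ _).symm)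

/-- The geometric point of `X' ×_{Y'} R` attached to a geometric point of the fibre. -/
noncomputable def ptX' (R : Y'.Etale) (r : (Scheme.pointSmallEtale η').fiber.obj R) :
    (Scheme.pointSmallEtale (ζ ≫ pullback.fst f' η')).fiber.obj ((EtCoh.bc f').obj R) :=
  Over.homMk (ζ ≫ fibreMap (IsPullback.of_hasPullback f' η') R r)
    ((Category.assoc _ _ _).trans (congrArg (ζ ≫ ·) (pullback.lift_snd _ _ _)))

theorem map_ptX {V V' : Y.Etale} (a : V' ⟶ V) (y' : (Scheme.pointSmallEtale (η' ≫ g)).fiber.obj V') :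
    (Scheme.pointSmallEtale ((ζ ≫ pullback.fst f' η') ≫ g')).fiber.map ((EtCoh.bc f).map a) (ptX h ζ V' y') =
      ptX h ζ V ((Scheme.pointSmallEtale (η' ≫ g)).fiber.map a y') :=
  Over.OverMorphism.ext ((Category.assoc _ _ _).trans (congrArg (ζ ≫ ·) (fibreMap_map _ a y')))

theorem map_ptX' {R R' : Y'.Etale} (a : R' ⟶ R) (r' : (Scheme.pointSmallEtale η').fiber.obj R') :
    (Scheme.pointSmallEtale (ζ ≫ pullback.fst f' η')).fiber.map ((EtCoh.bc f').map a) (ptX' ζ R' r') =
      ptX' ζ R ((Scheme.pointSmallEtale η').fiber.map a r') :=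
  Over.OverMorphism.ext ((Category.assoc _ _ _).trans (congrArg (ζ ≫ ·) (fibreMap_map _ a r')))

theorem map_swap (V : Y.Etale) (y : (Scheme.pointSmallEtale (η' ≫ g)).fiber.obj V) :
    (Scheme.pointSmallEtale (ζ ≫ pullback.fst f' η')).fiber.map (swap h.w V)
      (ptX' ζ ((EtCoh.bc g).obj V) (up g y)) = up g' (ptX h ζ V y) := by
  have e1 : fibreMap (IsPullback.of_hasPullback f' η') ((EtCoh.bc g).obj V) (up g y) ≫
      pullback.fst (pullback.snd V.hom g) f' = pullback.snd f' η' ≫ (up g y).left := pullback.lift_fst _ _ _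
  have e2 : fibreMap (IsPullback.of_hasPullback f' η') ((EtCoh.bc g).obj V) (up g y) ≫
      pullback.snd (pullback.snd V.hom g) f' = pullback.fst f' η' := pullback.lift_snd _ _ _
  refine Over.OverMorphism.ext (pullback.hom_ext ?_ ?_)
  · refine (Category.assoc _ _ _).trans ((congrArg (_ ≫ ·) (pullback.lift_fst _ _ _)).trans ?_)
    refine Eq.trans ?_ (pullback.lift_fst (ptX h ζ V y).left (ζ ≫ pullback.fst f' η') _).symm
    show (ζ ≫ fibreMap (IsPullback.of_hasPullback f' η') ((EtCoh.bc g).obj V) (up g y)) ≫ _ =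
      ζ ≫ fibreMap (isPullback_fibre h η') V y
    rw [Category.assoc]
    refine congrArg (ζ ≫ ·) (pullback.hom_ext ?_ ?_)
    · refine (Category.assoc _ _ _).trans ((congrArg (_ ≫ ·) (pullback.lift_fst _ _ _)).trans ?_)
      refine (Category.assoc _ _ _).symm.trans ((congrArg (· ≫ _) e1).trans ?_)
      exact ((Category.assoc _ _ _).trans (congrArg (_ ≫ ·) (pullback.lift_fst y.left η' _))).trans
        (pullback.lift_fst _ _ _).symm
    · refine (Category.assoc _ _ _).trans ((congrArg (_ ≫ ·) (pullback.lift_snd _ _ _)).trans ?_)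
      exact ((Category.assoc _ _ _).symm.trans (congrArg (· ≫ g') e2)).trans (pullback.lift_snd _ _ _).symm
  · refine (Category.assoc _ _ _).trans ((congrArg (_ ≫ ·) (pullback.lift_snd _ _ _)).trans ?_)
    refine Eq.trans ?_ (pullback.lift_snd (ptX h ζ V y).left (ζ ≫ pullback.fst f' η') _).symm
    exact (Category.assoc _ _ _).trans (congrArg (ζ ≫ ·) e2)

end Zeta

section Germs

variable {A : Type w} [Category.{v} A] {FA : A → A → Type*} {CA : A → Type (u + 1)}
  [∀ (P Q : A), FunLike (FA P Q) (CA P) (CA Q)] [ConcreteCategory.{u + 1} A FA]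
  [HasColimitsOfSize.{u, u} A] [HasProducts.{u} A] [PreservesFilteredColimitsOfSize.{u, u} (forget A)]
  [∀ X : Scheme.{u}, X.smallEtaleTopology.HasSheafCompose (forget A)]
  [((EtCoh.bc g').sheafPushforwardContinuous A X.smallEtaleTopology X'.smallEtaleTopology).IsRightAdjoint]
  (F : Sheaf X.smallEtaleTopology A)

variable (g') in
/-- The inverse image `g'^* F`. -/
noncomputable abbrev P : Sheaf X'.smallEtaleTopology A :=
  ((EtCoh.bc g').sheafPullback A X.smallEtaleTopology X'.smallEtaleTopology).obj F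

variable (g') in
/-- Pullback of sections. -/
noncomputable abbrev eta (U : X.Etale) : F.obj.obj (op U) ⟶ (P g' F).obj.obj (op ((EtCoh.bc g').obj U)) :=
  (((EtCoh.bc g').sheafAdjunctionContinuous A X.smallEtaleTopology X'.smallEtaleTopology).unit.app F).hom.app (op U)

theorem eta_naturality {U U' : X.Etale} (c : U' ⟶ U) (s : ToType (F.obj.obj (op U))) :
    eta g' F U' (F.obj.map c.op s) = (P g' F).obj.map ((EtCoh.bc g').map c).op (eta g' F U s) :=
  NatTrans.naturality_apply
    (((EtCoh.bc g').sheafAdjunctionContinuous A X.smallEtaleTopology X'.smallEtaleTopology).unit.app F).hom c.op s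

/-- The candidate for base change on sections. -/
noncomputable def psi (V : Y.Etale) (s : ToType (F.obj.obj (op ((EtCoh.bc f).obj V)))) :
    ToType ((P g' F).obj.obj (op ((EtCoh.bc f').obj ((EtCoh.bc g).obj V)))) :=
  (P g' F).obj.map (swap h.w V).op (eta g' F ((EtCoh.bc f).obj V) s)

variable {η'} (R : Y'.Etale) (r : (Scheme.pointSmallEtale η').fiber.obj R)
  (t : ToType ((P g' F).obj.obj (op ((EtCoh.bc f').obj R))))

/-- `t` comes from the section `s` on `c : Q ⟶ X ×_Y V` near the point `z` of the fibre. -/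
def IsLocal (V : Y.Etale) (y : (Scheme.pointSmallEtale (η' ≫ g)).fiber.obj V) {Q : X.Etale}
    (c : Q ⟶ (EtCoh.bc f).obj V) (s : ToType (F.obj.obj (op Q))) (z : ↥(pullback f' η')) : Prop :=
  ∃ (Ω' : Type u) (_ : Field Ω') (_ : IsSepClosed Ω') (ζ : Spec (CommRingCat.of Ω') ⟶ pullback f' η')
    (q : (Scheme.pointSmallEtale ((ζ ≫ pullback.fst f' η') ≫ g')).fiber.obj Q),
    ζ.base default = z ∧
    (Scheme.pointSmallEtale ((ζ ≫ pullback.fst f' η') ≫ g')).fiber.map c q = ptX h ζ V y ∧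
    (Scheme.pointSmallEtale (ζ ≫ pullback.fst f' η')).toPresheafFiber _ (ptX' ζ R r) (P g' F).obj t =
      (Scheme.pointSmallEtale (ζ ≫ pullback.fst f' η')).toPresheafFiber _ (up g' q) (P g' F).obj (eta g' F Q s)

theorem isOpen_isLocal (V : Y.Etale) (y : (Scheme.pointSmallEtale (η' ≫ g)).fiber.obj V) {Q : X.Etale}
    (c : Q ⟶ (EtCoh.bc f).obj V) (s : ToType (F.obj.obj (op Q))) :
    IsOpen {z | IsLocal h F R r t V y c s z} := by
  refine isOpen_iff_forall_mem_open.2 ?_
  rintro z ⟨Ω', _, _, ζ, q, hz, hq, heq⟩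
  obtain ⟨⟨R', r'⟩, ⟨aR, haR⟩, ⟨b, hb⟩, -⟩ := IsCofilteredOrEmpty.cone_objs
    ((Scheme.pointSmallEtale η').fiber.elementsMk R r)
    ((Scheme.pointSmallEtale η').fiber.elementsMk ((EtCoh.bc g).obj V) (up g y))
  let Φ := Scheme.pointSmallEtale (ζ ≫ pullback.fst f' η')
  let E₀ := Φ.fiber.elementsMk ((EtCoh.bc g').obj ((EtCoh.bc f).obj V)) (up g' (ptX h ζ V y))
  have h1 : Φ.fiber.map ((EtCoh.bc f').map b ≫ swap h.w V) (ptX' ζ R' r') = up g' (ptX h ζ V y) := by
    rw [CategoryTheory.Functor.map_comp, ConcreteCategory.comp_apply, map_ptX', hb, map_swap]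
  have h2 : Φ.fiber.map ((EtCoh.bc g').map c) (up g' q) = up g' (ptX h ζ V y) := by rw [map_up, hq]
  obtain ⟨⟨W, e⟩, ⟨a, ha⟩, ⟨k, hk⟩, hcomm⟩ := IsCofiltered.cospan
    (show Φ.fiber.elementsMk _ (ptX' ζ R' r') ⟶ E₀ from ⟨_, h1⟩)
    (show Φ.fiber.elementsMk _ (up g' q) ⟶ E₀ from ⟨_, h2⟩)
  have hcomm' : a ≫ (EtCoh.bc f').map b ≫ swap h.w V = k ≫ (EtCoh.bc g').map c := congrArg Subtype.val hcomm
  have heq' : Φ.toPresheafFiber W e (P g' F).obj ((P g' F).obj.map (a ≫ (EtCoh.bc f').map aR).op t) =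
      Φ.toPresheafFiber W e (P g' F).obj ((P g' F).obj.map k.op (eta g' F Q s)) := by
    rw [GrothendieckTopology.Point.toPresheafFiber_w_apply, GrothendieckTopology.Point.toPresheafFiber_w_apply,
      show Φ.fiber.map k e = up g' q from hk, CategoryTheory.Functor.map_comp, ConcreteCategory.comp_apply,
      show Φ.fiber.map a e = ptX' ζ R' r' from ha, map_ptX', show (Scheme.pointSmallEtale η').fiber.map aR r' = r from haR]
    exact heq
  obtain ⟨W₂, d, e₂, hd, hsec⟩ := (Φ.toPresheafFiber_eq_iff' _ _ _ _).1 heq'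
  let κ : pullback f' η' ⟶ ((EtCoh.bc f').obj R').left := fibreMap (IsPullback.of_hasPullback f' η') R' r'
  let α : W₂.left ⟶ ((EtCoh.bc f').obj R').left := (d ≫ a).left
  haveI : AlgebraicGeometry.Etale α := etale_left (d ≫ a)
  refine ⟨κ ⁻¹' Set.range α, ?_, κ.continuous.isOpen_preimage _ α.isOpenMap.isOpen_range, ?_⟩
  · rintro z' ⟨w', hw'⟩
    obtain ⟨π, hπ1, -⟩ := Scheme.Pullback.exists_preimage_pullback (f := κ) (g := α) z' w' hw'.symm
    obtain ⟨Ω₂, _, _, ζ₂, hζ₂⟩ := exists_geometric_point π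
    let ζ' : Spec (CommRingCat.of Ω₂) ⟶ pullback f' η' := ζ₂ ≫ pullback.fst κ α
    let Φ' := Scheme.pointSmallEtale (ζ' ≫ pullback.fst f' η')
    have hwl : (ζ₂ ≫ pullback.snd κ α) ≫ α = ζ' ≫ κ :=
      (Category.assoc _ _ _).trans ((congrArg (ζ₂ ≫ ·) pullback.condition.symm).trans (Category.assoc _ _ _).symm)
    let e' : Φ'.fiber.obj W₂ := Over.homMk (ζ₂ ≫ pullback.snd κ α)
      ((congrArg (_ ≫ ·) (MorphismProperty.Over.w (d ≫ a)).symm).trans ((Category.assoc _ _ _).symm.trans
        ((congrArg (· ≫ ((EtCoh.bc f').obj R').hom) hwl).trans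
          ((Category.assoc _ _ _).trans (congrArg (ζ' ≫ ·) (pullback.lift_snd _ _ _))))))
    have hea : Φ'.fiber.map (d ≫ a) e' = ptX' ζ' R' r' := Over.OverMorphism.ext hwl
    refine ⟨Ω₂, inferInstance, inferInstance, ζ', down g' (Φ'.fiber.map (d ≫ k) e'), ?_, ?_, ?_⟩
    · rw [← hπ1, ← hζ₂]
      exact Scheme.Hom.comp_apply _ _ _
    · apply up_injective g'
      have e5 : (d ≫ k) ≫ (EtCoh.bc g').map c = (d ≫ a) ≫ (EtCoh.bc f').map b ≫ swap h.w V :=
        (Category.assoc _ _ _).trans ((congrArg (d ≫ ·) hcomm'.symm).trans (Category.assoc _ _ _).symm)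
      rw [← map_up, up_down, ← ConcreteCategory.comp_apply, ← CategoryTheory.Functor.map_comp, e5,
        CategoryTheory.Functor.map_comp, ConcreteCategory.comp_apply, hea, CategoryTheory.Functor.map_comp,
        ConcreteCategory.comp_apply, map_ptX', show (Scheme.pointSmallEtale η').fiber.map b r' = up g y from hb, map_swap]
    · rw [up_down, ← show (Scheme.pointSmallEtale η').fiber.map aR r' = r from haR, ← map_ptX', ← hea,
        ← GrothendieckTopology.Point.toPresheafFiber_w_apply, ← GrothendieckTopology.Point.toPresheafFiber_w_apply,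
        ← GrothendieckTopology.Point.toPresheafFiber_w_apply]
      refine congrArg _ ?_
      simp only [op_comp, Functor.map_comp, ConcreteCategory.comp_apply] at hsec ⊢
      exact hsec
  · show κ z ∈ Set.range α
    refine ⟨e₂.left.base (default : Spec (CommRingCat.of Ω')), ?_⟩
    have h3 : Φ.fiber.map (d ≫ a) e₂ = ptX' ζ R' r' := by
      rw [CategoryTheory.Functor.map_comp, ConcreteCategory.comp_apply, hd]; exact ha
    rw [← hz]
    exact (Scheme.Hom.comp_apply _ _ _).symm.trans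
      ((congrArg (fun x => x.left.base (default : Spec (CommRingCat.of Ω'))) h3).trans (Scheme.Hom.comp_apply _ _ _))

variable {h F R r t}

theorem IsLocal.refine {V V' : Y.Etale} {y : (Scheme.pointSmallEtale (η' ≫ g)).fiber.obj V}
    {y' : (Scheme.pointSmallEtale (η' ≫ g)).fiber.obj V'} (a : V' ⟶ V)
    (hy : (Scheme.pointSmallEtale (η' ≫ g)).fiber.map a y' = y) {Q Q' : X.Etale}
    {c : Q ⟶ (EtCoh.bc f).obj V} [IsOpenImmersion c.left] {c' : Q' ⟶ (EtCoh.bc f).obj V'}
    [IsOpenImmersion c'.left] (d : Q' ⟶ Q) (hd : d ≫ c = c' ≫ (EtCoh.bc f).map a)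
    {s : ToType (F.obj.obj (op Q))} {z : ↥(pullback f' η')} (hl : IsLocal h F R r t V y c s z)
    (hz : fibreMap (isPullback_fibre h η') V' y' z ∈ Set.range c'.left) :
    IsLocal h F R r t V' y' c' (F.obj.map d.op s) z := by
  obtain ⟨Ω', _, _, ζ, q, hζ, hq, heq⟩ := hl
  have hr : Set.range (ptX h ζ V' y').left ⊆ Set.range c'.left := by
    rintro _ ⟨t, rfl⟩
    obtain rfl : t = (default : Spec (CommRingCat.of Ω')) := Subsingleton.elim (α := Spec (CommRingCat.of Ω')) _ _
    rw [← hζ] at hz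
    exact (Scheme.Hom.comp_apply _ _ _).symm ▸ hz
  let l : Spec (CommRingCat.of Ω') ⟶ Q'.left := IsOpenImmersion.lift c'.left (ptX h ζ V' y').left hr
  have hl : l ≫ c'.left = (ptX h ζ V' y').left := IsOpenImmersion.lift_fac _ _ _
  let q' : (Scheme.pointSmallEtale ((ζ ≫ pullback.fst f' η') ≫ g')).fiber.obj Q' := Over.homMk l
    ((congrArg (l ≫ ·) (MorphismProperty.Over.w c').symm).trans
      ((Category.assoc _ _ _).symm.trans ((congrArg (· ≫ ((EtCoh.bc f).obj V').hom) hl).trans
        (Over.w (ptX h ζ V' y')))))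
  have hq' : (Scheme.pointSmallEtale ((ζ ≫ pullback.fst f' η') ≫ g')).fiber.map c' q' = ptX h ζ V' y' :=
    Over.OverMorphism.ext hl
  have hdq : (Scheme.pointSmallEtale ((ζ ≫ pullback.fst f' η') ≫ g')).fiber.map d q' = q := by
    refine Over.OverMorphism.ext ((cancel_mono c.left).1 ?_)
    have : (Scheme.pointSmallEtale ((ζ ≫ pullback.fst f' η') ≫ g')).fiber.map (d ≫ c) q' =
        (Scheme.pointSmallEtale ((ζ ≫ pullback.fst f' η') ≫ g')).fiber.map c q := by
      rw [hd, hq, CategoryTheory.Functor.map_comp, ConcreteCategory.comp_apply, hq', map_ptX, hy]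
    exact (Category.assoc _ _ _).trans (congrArg (fun e => e.left) this)
  refine ⟨Ω', inferInstance, inferInstance, ζ, q', hζ, hq', heq.trans ?_⟩
  rw [eta_naturality, GrothendieckTopology.Point.toPresheafFiber_w_apply, map_up, hdq]

variable (h F R r t)

/-- Near every point of the fibre `t` is the pullback of a section over a clopen piece. -/
theorem exists_isLocal [IsIntegralHom f] (z : ↥(pullback f' η')) :
    ∃ (V : Y.Etale) (y : (Scheme.pointSmallEtale (η' ≫ g)).fiber.obj V) (Q : X.Etale)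
      (c : Q ⟶ (EtCoh.bc f).obj V) (_ : IsOpenImmersion c.left) (s : ToType (F.obj.obj (op Q))),
      IsClosed (Set.range c.left) ∧ fibreMap (isPullback_fibre h η') V y z ∈ Set.range c.left ∧
        ∀ z', fibreMap (isPullback_fibre h η') V y z' ∈ Set.range c.left → IsLocal h F R r t V y c s z' := by
  obtain ⟨Ω', _, _, ζ, hζ⟩ := exists_geometric_point z
  let ξ := ζ ≫ pullback.fst f' η'
  let Φ := Scheme.pointSmallEtale ξ
  -- a local lift of `t`
  obtain ⟨p, hp⟩ := (ConcreteCategory.bijective_of_isIso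
    ((Φ.sheafFiberComapIso (EtCoh.bc g') (EtCoh.coverPreserving_bc g') A).hom.app F)).2
      (Φ.toPresheafFiber _ (ptX' ζ R r) (P g' F).obj t)
  obtain ⟨U, x, s, rfl⟩ := (Φ.comap (EtCoh.bc g') (EtCoh.coverPreserving_bc g')).toPresheafFiber_jointly_surjective
    (P := F.obj) p
  have hkey : Φ.toPresheafFiber _ (ptX' ζ R r) (P g' F).obj t =
      Φ.toPresheafFiber ((EtCoh.bc g').obj U) x (P g' F).obj (eta g' F U s) :=
    hp.symm.trans (((ConcreteCategory.comp_apply _ _ _).symm.trans (ConcreteCategory.congr_hom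
      (toPresheafFiber_sheafFiberComapIso_hom Φ (EtCoh.bc g') (EtCoh.coverPreserving_bc g') A F U x) s)).trans
        (ConcreteCategory.comp_apply _ _ _))
  let xd := down g' x
  -- a piece of a neighbourhood mapping to `U`
  obtain ⟨V, Qb, cb, hc, hd, hcov, L, w, hw⟩ := exists_piece_of_propA f (propA_of_isIntegralHom f) U
    (xd.left.base (default : Spec (CommRingCat.of Ω')))
  let UL : Scheme.Etale U.left := @Scheme.Etale.mk _ _ L.left (etale_left L)
  obtain ⟨wl, -⟩ := exists_fiber xd.left UL w hw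
  let y₁ : (Scheme.pointSmallEtale (ξ ≫ g')).fiber.obj (Qb true) := Over.homMk wl.left
    ((congrArg (wl.left ≫ ·) (MorphismProperty.Over.w L).symm).trans
      ((Category.assoc _ _ _).symm.trans ((congrArg (· ≫ U.hom) (Over.w wl)).trans (Over.w xd))))
  have hy₁ : (Scheme.pointSmallEtale (ξ ≫ g')).fiber.map L y₁ = xd := Over.OverMorphism.ext (Over.w wl)
  haveI := hc
  let v : Spec (CommRingCat.of Ω') ⟶ V.left := (y₁.left ≫ (cb true).left) ≫ pullback.fst V.hom f
  obtain ⟨y, hy⟩ := exists_descend (η' ≫ g) V (ζ ≫ pullback.snd f' η') v (by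
    have e0 : (y₁.left ≫ (cb true).left) ≫ pullback.snd V.hom f = ξ ≫ g' :=
      Over.w ((Scheme.pointSmallEtale (ξ ≫ g')).fiber.map (cb true) y₁)
    calc v ≫ V.hom = ((y₁.left ≫ (cb true).left) ≫ pullback.snd V.hom f) ≫ f :=
          (Category.assoc _ _ _).trans ((congrArg (_ ≫ ·) pullback.condition).trans (Category.assoc _ _ _).symm)
      _ = (ξ ≫ g') ≫ f := congrArg (· ≫ f) e0
      _ = ζ ≫ (pullback.fst f' η' ≫ g') ≫ f := by simp only [ξ, Category.assoc]
      _ = ζ ≫ pullback.snd f' η' ≫ η' ≫ g := by rw [(isPullback_fibre h η').w]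
      _ = (ζ ≫ pullback.snd f' η') ≫ η' ≫ g := (Category.assoc _ _ _).symm)
  have hmap : (Scheme.pointSmallEtale (ξ ≫ g')).fiber.map (cb true) y₁ = ptX h ζ V y := by
    refine Over.OverMorphism.ext (pullback.hom_ext ?_ ?_)
    · refine hy.symm.trans ?_
      exact ((Category.assoc _ _ _).trans (congrArg (ζ ≫ ·) (pullback.lift_fst _ _ _).symm)).trans
        (Category.assoc _ _ _).symm
    · exact (Over.w ((Scheme.pointSmallEtale (ξ ≫ g')).fiber.map (cb true) y₁)).trans (Over.w (ptX h ζ V y)).symm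
  let s₁ : ToType (F.obj.obj (op (Qb true))) := F.obj.map L.op s
  have hlz : IsLocal h F R r t V y (cb true) s₁ z := by
    refine ⟨Ω', inferInstance, inferInstance, ζ, y₁, hζ, hmap, hkey.trans ?_⟩
    rw [eta_naturality, GrothendieckTopology.Point.toPresheafFiber_w_apply, map_up, hy₁, up_down]
  -- shrink to a clopen on which it stays a local lift
  have hrz : fibreMap (isPullback_fibre h η') V y z ∈ Set.range (cb true).left :=
    ⟨y₁.left.base (default : Spec (CommRingCat.of Ω')), by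
      rw [← hζ]
      exact ((Scheme.Hom.comp_apply _ _ _).symm.trans
        (congrArg (fun e => e.left.base (default : Spec (CommRingCat.of Ω'))) hmap)).trans (Scheme.Hom.comp_apply _ _ _)⟩
  have hclosed : IsClosed (Set.range (cb true).left) := by
    have : Set.range (cb true).left = (Set.range (cb false).left)ᶜ := by
      ext x
      constructor
      · exact fun hx hx' => Set.disjoint_left.1 (hd (show true ≠ false by decide)) hx hx'
      · intro hx
        obtain ⟨b, z, hz⟩ := hcov x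
        cases b
        · exact absurd ⟨z, hz⟩ hx
        · exact ⟨z, hz⟩
    rw [this]
    exact (cb false).left.isOpenEmbedding.isOpen_range.isClosed_compl
  obtain ⟨V₁, y₁', W₁, hW₁, hzW, hW⟩ := exists_clopen_subset (isPullback_fibre h η') z
    {z' | IsLocal h F R r t V y (cb true) s₁ z'} (isOpen_isLocal h F R r t V y (cb true) s₁) hlz
  obtain ⟨⟨V₂, y₂⟩, ⟨a, ha⟩, ⟨b, hb⟩, -⟩ := IsCofilteredOrEmpty.cone_objs
    ((Scheme.pointSmallEtale (η' ≫ g)).fiber.elementsMk V y)
    ((Scheme.pointSmallEtale (η' ≫ g)).fiber.elementsMk V₁ y₁')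
  let ma : ((EtCoh.bc f).obj V₂).left ⟶ ((EtCoh.bc f).obj V).left := ((EtCoh.bc f).map a).left
  let mb : ((EtCoh.bc f).obj V₂).left ⟶ ((EtCoh.bc f).obj V₁).left := ((EtCoh.bc f).map b).left
  have ea : ∀ z', ma (fibreMap (isPullback_fibre h η') V₂ y₂ z') = fibreMap (isPullback_fibre h η') V y z' := fun z' =>
    (Scheme.Hom.comp_apply _ _ _).symm.trans ((congrArg (fun m : pullback f' η' ⟶ _ => m z')
      (fibreMap_map _ a y₂)).trans (congrArg (fun w => fibreMap (isPullback_fibre h η') V w z') ha))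
  have eb : ∀ z', mb (fibreMap (isPullback_fibre h η') V₂ y₂ z') = fibreMap (isPullback_fibre h η') V₁ y₁' z' := fun z' =>
    (Scheme.Hom.comp_apply _ _ _).symm.trans ((congrArg (fun m : pullback f' η' ⟶ _ => m z')
      (fibreMap_map _ b y₂)).trans (congrArg (fun w => fibreMap (isPullback_fibre h η') V₁ w z') hb))
  let O : ((EtCoh.bc f).obj V₂).left.Opens := ma ⁻¹ᵁ (cb true).left.opensRange ⊓ mb ⁻¹ᵁ W₁
  let Q : X.Etale := Scheme.Etale.mk (O.ι ≫ ((EtCoh.bc f).obj V₂).hom)
  let c : Q ⟶ (EtCoh.bc f).obj V₂ := MorphismProperty.Over.homMk O.ι rfl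
  haveI : IsOpenImmersion c.left := inferInstanceAs (IsOpenImmersion O.ι)
  let dl : (O : Scheme.{u}) ⟶ (Qb true).left := IsOpenImmersion.lift (cb true).left (O.ι ≫ ma) (by
    rintro _ ⟨o, rfl⟩
    exact o.2.1)
  have hdl : dl ≫ (cb true).left = O.ι ≫ ma := IsOpenImmersion.lift_fac _ _ _
  let d : Q ⟶ Qb true := MorphismProperty.Over.homMk dl
    ((congrArg (dl ≫ ·) (MorphismProperty.Over.w (cb true)).symm).trans ((Category.assoc _ _ _).symm.trans
      ((congrArg (· ≫ ((EtCoh.bc f).obj V).hom) hdl).trans ((Category.assoc _ _ _).trans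
        (congrArg (O.ι ≫ ·) (MorphismProperty.Over.w ((EtCoh.bc f).map a)))))))
  have hdc : d ≫ cb true = c ≫ (EtCoh.bc f).map a := MorphismProperty.Over.Hom.ext hdl
  have hr : Set.range c.left = (O : Set _) := Scheme.Opens.range_ι O
  refine ⟨V₂, y₂, Q, c, inferInstance, F.obj.map d.op s₁, ?_, ?_, fun z' hz' => ?_⟩
  · rw [hr]
    exact (hclosed.preimage ma.continuous).inter (hW₁.preimage mb.continuous)
  · rw [hr]
    exact ⟨show ma _ ∈ Set.range (cb true).left from (ea z).symm ▸ hrz, show mb _ ∈ W₁ from (eb z).symm ▸ hzW⟩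
  · have hz'' : fibreMap (isPullback_fibre h η') V₂ y₂ z' ∈ O := hr.subset hz'
    exact (hW z' (eb z' ▸ hz''.2)).refine a ha d hdc hz'

/-- `t` is the pullback of a section over an etale neighbourhood, at every point of the fibre. -/
theorem exists_global [IsIntegralHom f] :
    ∃ (V : Y.Etale) (y : (Scheme.pointSmallEtale (η' ≫ g)).fiber.obj V)
      (s : ToType (F.obj.obj (op ((EtCoh.bc f).obj V)))),
      ∀ z, IsLocal h F R r t V y (𝟙 ((EtCoh.bc f).obj V)) s z := by
  classical
  choose V y Q c hc s hclosed hmem hloc using exists_isLocal h F R r t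
  haveI := hc
  haveI : IsAffineHom (pullback.snd f' η') := by
    haveI : IsAffineHom f' := MorphismProperty.of_isPullback h inferInstance
    infer_instance
  haveI : CompactSpace ↥(pullback f' η') := QuasiCompact.compactSpace_of_compactSpace (pullback.snd f' η')
  obtain ⟨σ, hσ⟩ := isCompact_univ.elim_finite_subcover
    (fun i => (fibreMap (isPullback_fibre h η') (V i) (y i)) ⁻¹' Set.range (c i).left)
    (fun i => IsOpen.preimage (fibreMap (isPullback_fibre h η') (V i) (y i)).continuous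
      (c i).left.isOpenEmbedding.isOpen_range)
    (fun z _ => Set.mem_iUnion.2 ⟨z, hmem z⟩)
  have key : ∀ σ : Finset ↥(pullback f' η'), ∃ (V₀ : Y.Etale) (y₀ : (Scheme.pointSmallEtale (η' ≫ g)).fiber.obj V₀),
      ∀ i ∈ σ, ∃ a : V₀ ⟶ V i, (Scheme.pointSmallEtale (η' ≫ g)).fiber.map a y₀ = y i := by
    intro σ
    induction σ using Finset.induction_on with
    | empty =>
      obtain ⟨⟨V₀, y₀⟩⟩ := (inferInstance : IsCofiltered (Scheme.pointSmallEtale (η' ≫ g)).fiber.Elements).nonempty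
      exact ⟨V₀, y₀, fun i hi => absurd hi (Finset.notMem_empty i)⟩
    | insert i σ hi ih =>
      obtain ⟨V₀, y₀, h₀⟩ := ih
      obtain ⟨⟨V₁, y₁⟩, ⟨a, ha⟩, ⟨b, hb⟩, -⟩ := IsCofilteredOrEmpty.cone_objs
        ((Scheme.pointSmallEtale (η' ≫ g)).fiber.elementsMk V₀ y₀)
        ((Scheme.pointSmallEtale (η' ≫ g)).fiber.elementsMk (V i) (y i))
      refine ⟨V₁, y₁, fun j hj => ?_⟩
      rcases Finset.mem_insert.1 hj with rfl | hj
      · exact ⟨b, hb⟩
      · obtain ⟨a', ha'⟩ := h₀ j hj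
        exact ⟨a ≫ a', by rw [CategoryTheory.Functor.map_comp, ConcreteCategory.comp_apply,
          show (Scheme.pointSmallEtale (η' ≫ g)).fiber.map a y₁ = y₀ from ha, ha']⟩
  obtain ⟨V₀, y₀, h₀⟩ := key σ
  choose a ha using h₀
  let n := σ.card
  let I : Fin n → σ := σ.equivFin.symm
  -- disjoint pieces
  let B : Fin n → Set ((EtCoh.bc f).obj V₀).left := fun k =>
    ((EtCoh.bc f).map (a (I k).1 (I k).2)).left ⁻¹' Set.range (c (I k).1).left
  have hB : ∀ k, IsClopen (B k) := fun k =>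
    ⟨(hclosed _).preimage ((EtCoh.bc f).map (a (I k).1 (I k).2)).left.continuous,
      IsOpen.preimage ((EtCoh.bc f).map (a (I k).1 (I k).2)).left.continuous (c (I k).1).left.isOpenEmbedding.isOpen_range⟩
  let D : Fin n → Set ((EtCoh.bc f).obj V₀).left := fun k => B k ∩ ⋂ j : {j : Fin n // j < k}, (B j.1)ᶜ
  have hD : ∀ k, IsClopen (D k) := fun k => (hB k).inter (isClopen_iInter_of_finite fun j => (hB j.1).compl)
  have hfib : ∀ z, ∃ k, fibreMap (isPullback_fibre h η') V₀ y₀ z ∈ B k := fun z => by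
    obtain ⟨i, hi, hz⟩ := Set.mem_iUnion₂.1 (hσ (Set.mem_univ z))
    refine ⟨σ.equivFin ⟨i, hi⟩, ?_⟩
    have : ∀ j : σ, j = ⟨i, hi⟩ → ((EtCoh.bc f).map (a j.1 j.2)).left
        (fibreMap (isPullback_fibre h η') V₀ y₀ z) ∈ Set.range (c j.1).left := by
      rintro _ rfl
      refine ((Scheme.Hom.comp_apply _ _ _).symm.trans ((congrArg (fun m : pullback f' η' ⟶ _ => m z)
        (fibreMap_map _ (a i hi) y₀)).trans (congrArg (fun w => fibreMap (isPullback_fibre h η') (V i) w z)
          (ha i hi)))).symm ▸ hz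
    exact this _ (σ.equivFin.symm_apply_apply _)
  let E : ((EtCoh.bc f).obj V₀).left.Opens := ⟨⋃ k, D k, isOpen_iUnion fun k => (hD k).isOpen⟩
  have hDcov : ∀ x k, x ∈ B k → x ∈ E := fun x k hx => by
    obtain ⟨k₀, hk₀, hmin⟩ := (Finset.univ.filter fun j => x ∈ B j).exists_minimal ⟨k, by simp [hx]⟩
    refine Set.mem_iUnion.2 ⟨k₀, (Finset.mem_filter.1 hk₀).2, Set.mem_iInter.2 fun j hj => ?_⟩
    exact absurd (hmin (by simp [show x ∈ B j.1 from hj]) j.2.le) (not_le.2 j.2)
  have hEfib : ∀ x, pullback.fst V₀.hom f x = y₀.left.base (default : Spec (CommRingCat.of Ω)) → x ∈ E := fun x hx => by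
    obtain ⟨z, rfl⟩ := exists_fibreMap_eq (isPullback_fibre h η') V₀ y₀ x hx
    obtain ⟨k, hk⟩ := hfib z
    exact hDcov _ k hk
  obtain ⟨V', a', y', hy', hE'⟩ := exists_shrink_fibre V₀ y₀ E hEfib
  let m' : ((EtCoh.bc f).obj V').left ⟶ ((EtCoh.bc f).obj V₀).left := ((EtCoh.bc f).map a').left
  let O : Fin n → ((EtCoh.bc f).obj V').left.Opens := fun k =>
    ⟨m' ⁻¹' D k, IsOpen.preimage m'.continuous (hD k).isOpen⟩
  let Q' : Fin n → X.Etale := fun k => Scheme.Etale.mk ((O k).ι ≫ ((EtCoh.bc f).obj V').hom)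
  let c' : ∀ k, Q' k ⟶ (EtCoh.bc f).obj V' := fun k => MorphismProperty.Over.homMk (O k).ι rfl
  haveI : ∀ k, IsOpenImmersion (c' k).left := fun k => inferInstanceAs (IsOpenImmersion (O k).ι)
  have hl : ∀ k, ∃ d : Q' k ⟶ Q (I k).1, d ≫ c (I k).1 = c' k ≫ (EtCoh.bc f).map (a' ≫ a (I k).1 (I k).2) := by
    intro k
    let m : (O k : Scheme.{u}) ⟶ ((EtCoh.bc f).obj (V (I k).1)).left :=
      (O k).ι ≫ ((EtCoh.bc f).map (a' ≫ a (I k).1 (I k).2)).left
    let l : (O k : Scheme.{u}) ⟶ (Q (I k).1).left := IsOpenImmersion.lift (c (I k).1).left m (by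
      rintro _ ⟨o, rfl⟩
      have h1 : m' ((O k).ι o) ∈ B k := o.2.1
      have h2 : m o = ((EtCoh.bc f).map (a (I k).1 (I k).2)).left (m' ((O k).ι o)) := by
        show ((O k).ι ≫ ((EtCoh.bc f).map (a' ≫ a (I k).1 (I k).2)).left) o = _
        rw [(EtCoh.bc f).map_comp]
        rfl
      exact h2.symm ▸ h1)
    have hl : l ≫ (c (I k).1).left = m := IsOpenImmersion.lift_fac _ _ _
    exact ⟨MorphismProperty.Over.homMk l ((congrArg (l ≫ ·) (MorphismProperty.Over.w (c (I k).1)).symm).trans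
      ((Category.assoc _ _ _).symm.trans ((congrArg (· ≫ ((EtCoh.bc f).obj (V (I k).1)).hom) hl).trans
        ((Category.assoc _ _ _).trans (congrArg ((O k).ι ≫ ·) (MorphismProperty.Over.w _)))))),
      MorphismProperty.Over.Hom.ext hl⟩
  choose d hd using hl
  have hdQ : Pairwise fun i k => Disjoint (Set.range (c' i).left) (Set.range (c' k).left) := by
    intro i k hik
    show Disjoint (Set.range (O i).ι) (Set.range (O k).ι)
    rw [Scheme.Opens.range_ι, Scheme.Opens.range_ι]
    refine Set.disjoint_left.2 fun x (hi : m' x ∈ D i) (hk : m' x ∈ D k) => ?_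
    rcases lt_or_gt_of_ne hik with hlt | hlt
    · exact Set.mem_iInter.1 hk.2 ⟨i, hlt⟩ hi.1
    · exact Set.mem_iInter.1 hi.2 ⟨k, hlt⟩ hk.1
  have hcQ : ∀ x : ((EtCoh.bc f).obj V').left, ∃ i z, (c' i).left z = x := fun x => by
    obtain ⟨i, hi⟩ := Set.mem_iUnion.1 (hE' ⟨x, rfl⟩)
    exact ⟨i, ⟨x, hi⟩, rfl⟩
  obtain ⟨s₀, hs₀⟩ := (bijective_of_disjoint ((sheafCompose X.smallEtaleTopology (forget A)).obj F) Q' c' hdQ hcQ).2
    fun k => F.obj.map (d k).op (s (I k).1)
  refine ⟨V', y', s₀, fun z => ?_⟩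
  obtain ⟨k, hk⟩ : ∃ k, fibreMap (isPullback_fibre h η') V' y' z ∈ Set.range (c' k).left := by
    obtain ⟨i, w, hw⟩ := hcQ (fibreMap (isPullback_fibre h η') V' y' z)
    exact ⟨i, w, hw⟩
  have hcomp : (Scheme.pointSmallEtale (η' ≫ g)).fiber.map (a' ≫ a (I k).1 (I k).2) y' = y (I k).1 := by
    rw [CategoryTheory.Functor.map_comp, ConcreteCategory.comp_apply, hy', ha]
  have hkl : IsLocal h F R r t (V (I k).1) (y (I k).1) (c (I k).1) (s (I k).1) z := by
    refine hloc _ z ?_
    obtain ⟨w, hw⟩ := hk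
    refine ⟨(d k).left w, ?_⟩
    refine (Scheme.Hom.comp_apply _ _ _).symm.trans ((congrArg (fun m : Q' k ⟶ _ => m.left w) (hd k)).trans ?_)
    refine (Scheme.Hom.comp_apply _ _ _).trans ((congrArg _ hw).trans ?_)
    exact (Scheme.Hom.comp_apply _ _ _).symm.trans ((congrArg (fun m : pullback f' η' ⟶ _ => m z)
      (fibreMap_map _ (a' ≫ a (I k).1 (I k).2) y')).trans
        (congrArg (fun w => fibreMap (isPullback_fibre h η') (V (I k).1) w z) hcomp))
  obtain ⟨Ω', _, _, ζ, q, hζ, hq, heq⟩ := hkl.refine _ hcomp (d k) (hd k) hk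
  refine ⟨Ω', inferInstance, inferInstance, ζ, ptX h ζ V' y', hζ, ?_, heq.trans ?_⟩
  · rw [CategoryTheory.Functor.map_id]
    rfl
  · have : F.obj.map (c' k).op s₀ = F.obj.map (d k).op (s (I k).1) := congrFun hs₀ k
    rw [← this, eta_naturality, GrothendieckTopology.Point.toPresheafFiber_w_apply, map_up, hq]

/-- Surjectivity of base change on stalks. -/
theorem exists_psi_eq [UniversallyClosed f]
    (hglob : ∃ (V : Y.Etale) (y : (Scheme.pointSmallEtale (η' ≫ g)).fiber.obj V)
      (s : ToType (F.obj.obj (op ((EtCoh.bc f).obj V)))),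
      ∀ z, IsLocal h F R r t V y (𝟙 ((EtCoh.bc f).obj V)) s z) :
    ∃ (V : Y.Etale) (y : (Scheme.pointSmallEtale (η' ≫ g)).fiber.obj V)
      (s : ToType (F.obj.obj (op ((EtCoh.bc f).obj V)))) (R' : Y'.Etale)
      (r' : (Scheme.pointSmallEtale η').fiber.obj R') (a : R' ⟶ R) (b : R' ⟶ (EtCoh.bc g).obj V),
      (Scheme.pointSmallEtale η').fiber.map a r' = r ∧ (Scheme.pointSmallEtale η').fiber.map b r' = up g y ∧
      (P g' F).obj.map ((EtCoh.bc f').map a).op t = (P g' F).obj.map ((EtCoh.bc f').map b).op (psi h F V s) := by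
  obtain ⟨V, y, s, hs⟩ := hglob
  obtain ⟨⟨R', r'⟩, ⟨a, ha⟩, ⟨b, hb⟩, -⟩ := IsCofilteredOrEmpty.cone_objs
    ((Scheme.pointSmallEtale η').fiber.elementsMk R r)
    ((Scheme.pointSmallEtale η').fiber.elementsMk ((EtCoh.bc g).obj V) (up g y))
  haveI : UniversallyClosed f' := MorphismProperty.of_isPullback h inferInstance
  let hZ := IsPullback.of_hasPullback f' η'
  obtain ⟨R'', c, r'', hr'', hsec⟩ := exists_eq_of_locally (η := η') (P g' F) R' r'
    ((P g' F).obj.map ((EtCoh.bc f').map a).op t) ((P g' F).obj.map ((EtCoh.bc f').map b).op (psi h F V s))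
    (fun x hx => by
      obtain ⟨z, rfl⟩ := exists_fibreMap_eq hZ R' r' x hx
      obtain ⟨Ω', _, _, ζ, q, hζ, hq, heq⟩ := hs z
      obtain rfl : q = ptX h ζ V y := by
        rw [CategoryTheory.Functor.map_id] at hq
        exact hq
      let Φ := Scheme.pointSmallEtale (ζ ≫ pullback.fst f' η')
      have : Φ.toPresheafFiber _ (ptX' ζ R' r') (P g' F).obj ((P g' F).obj.map ((EtCoh.bc f').map a).op t) =
          Φ.toPresheafFiber _ (ptX' ζ R' r') (P g' F).obj
            ((P g' F).obj.map ((EtCoh.bc f').map b).op (psi h F V s)) := by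
        rw [GrothendieckTopology.Point.toPresheafFiber_w_apply, GrothendieckTopology.Point.toPresheafFiber_w_apply,
          map_ptX', map_ptX', show (Scheme.pointSmallEtale η').fiber.map a r' = r from ha,
          show (Scheme.pointSmallEtale η').fiber.map b r' = up g y from hb, psi,
          GrothendieckTopology.Point.toPresheafFiber_w_apply, map_swap]
        exact heq
      obtain ⟨T, e, p, hp, hT⟩ := (Φ.toPresheafFiber_eq_iff' _ _ _ _).1 this
      refine ⟨T, e, ⟨p.left.base (default : Spec (CommRingCat.of Ω')), ?_⟩, hT⟩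
      rw [← hζ]
      exact ((Scheme.Hom.comp_apply _ _ _).symm.trans
        (congrArg (fun e => e.left.base (default : Spec (CommRingCat.of Ω'))) hp)).trans (Scheme.Hom.comp_apply _ _ _))
  refine ⟨V, y, s, R'', r'', c ≫ a, c ≫ b, ?_, ?_, ?_⟩
  · rw [CategoryTheory.Functor.map_comp, ConcreteCategory.comp_apply, hr'']; exact ha
  · rw [CategoryTheory.Functor.map_comp, ConcreteCategory.comp_apply, hr'']; exact hb
  · simp only [(EtCoh.bc f').map_comp, op_comp, (P g' F).obj.map_comp, ConcreteCategory.comp_apply]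
    exact hsec

omit r t R in
/-- Injectivity of base change on stalks. -/
theorem eq_of_psi_eq [UniversallyClosed f] (V : Y.Etale) (y : (Scheme.pointSmallEtale (η' ≫ g)).fiber.obj V)
    (s₁ s₂ : ToType (F.obj.obj (op ((EtCoh.bc f).obj V))))
    (R : Y'.Etale) (r : (Scheme.pointSmallEtale η').fiber.obj R) (b : R ⟶ (EtCoh.bc g).obj V)
    (hb : (Scheme.pointSmallEtale η').fiber.map b r = up g y)
    (he : (P g' F).obj.map ((EtCoh.bc f').map b).op (psi h F V s₁) =
      (P g' F).obj.map ((EtCoh.bc f').map b).op (psi h F V s₂)) :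
    ∃ (V' : Y.Etale) (a : V' ⟶ V) (y' : (Scheme.pointSmallEtale (η' ≫ g)).fiber.obj V'),
      (Scheme.pointSmallEtale (η' ≫ g)).fiber.map a y' = y ∧
        F.obj.map ((EtCoh.bc f).map a).op s₁ = F.obj.map ((EtCoh.bc f).map a).op s₂ := by
  refine exists_eq_of_locally F V y s₁ s₂ fun x hx => ?_
  obtain ⟨z, rfl⟩ := exists_fibreMap_eq (isPullback_fibre h η') V y x hx
  obtain ⟨Ω', _, _, ζ, hζ⟩ := exists_geometric_point z
  let Φ := Scheme.pointSmallEtale (ζ ≫ pullback.fst f' η')
  have key : ∀ s, Φ.toPresheafFiber _ (ptX' ζ R r) (P g' F).obj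
      ((P g' F).obj.map ((EtCoh.bc f').map b).op (psi h F V s)) =
      (Φ.sheafFiberComapIso (EtCoh.bc g') (EtCoh.coverPreserving_bc g') A).hom.app F
        ((Φ.comap (EtCoh.bc g') (EtCoh.coverPreserving_bc g')).toPresheafFiber _ (up g' (ptX h ζ V y)) F.obj s) := by
    intro s
    rw [GrothendieckTopology.Point.toPresheafFiber_w_apply, map_ptX', hb, psi,
      GrothendieckTopology.Point.toPresheafFiber_w_apply, map_swap]
    exact ((ConcreteCategory.comp_apply _ _ _).symm.trans ((ConcreteCategory.congr_hom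
      (toPresheafFiber_sheafFiberComapIso_hom Φ (EtCoh.bc g') (EtCoh.coverPreserving_bc g') A F _ _) s).trans
        (ConcreteCategory.comp_apply _ _ _))).symm
  have h1 := (key s₁).symm.trans ((congrArg (Φ.toPresheafFiber _ (ptX' ζ R r) (P g' F).obj) he).trans (key s₂))
  obtain ⟨T, e, p, hp, hT⟩ := ((Φ.comap (EtCoh.bc g') (EtCoh.coverPreserving_bc g')).toPresheafFiber_eq_iff' _ _ _ _).1
    ((ConcreteCategory.bijective_of_isIso ((Φ.sheafFiberComapIso (EtCoh.bc g') (EtCoh.coverPreserving_bc g') A).app F).hom).1 h1)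
  refine ⟨T, e, ⟨(down g' p).left.base (default : Spec (CommRingCat.of Ω')), ?_⟩, hT⟩
  rw [← hζ]
  have hp' : Φ.fiber.map ((EtCoh.bc g').map e) p = up g' (ptX h ζ V y) := hp
  have h3 : (Scheme.pointSmallEtale ((ζ ≫ pullback.fst f' η') ≫ g')).fiber.map e (down g' p) = ptX h ζ V y := by
    apply up_injective g'
    rw [← map_up, up_down, hp']
  exact ((Scheme.Hom.comp_apply _ _ _).symm.trans
    (congrArg (fun e => e.left.base (default : Spec (CommRingCat.of Ω'))) h3)).trans (Scheme.Hom.comp_apply _ _ _)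

end Germs

section Main

variable {A : Type w} [Category.{v} A] {FA : A → A → Type*} {CA : A → Type (u + 1)}
  [∀ (P Q : A), FunLike (FA P Q) (CA P) (CA Q)] [ConcreteCategory.{u + 1} A FA]
  [HasColimitsOfSize.{u, u} A] [HasProducts.{u} A] [PreservesFilteredColimitsOfSize.{u, u} (forget A)]
  [∀ X : Scheme.{u}, X.smallEtaleTopology.HasSheafCompose (forget A)]
  [((EtCoh.bc g').sheafPushforwardContinuous A X.smallEtaleTopology X'.smallEtaleTopology).IsRightAdjoint]
  [((EtCoh.bc g).sheafPushforwardContinuous A Y.smallEtaleTopology Y'.smallEtaleTopology).IsRightAdjoint]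
  (F : Sheaf X.smallEtaleTopology A)
  (θ : ((EtCoh.bc g).sheafPullback A Y.smallEtaleTopology Y'.smallEtaleTopology).obj
      (((EtCoh.bc f).sheafPushforwardContinuous A Y.smallEtaleTopology X.smallEtaleTopology).obj F) ⟶
    ((EtCoh.bc f').sheafPushforwardContinuous A Y'.smallEtaleTopology X'.smallEtaleTopology).obj (P g' F))

/-- A transpose of `psi` is bijective on stalks. -/
theorem bijective_stalk_of_global [UniversallyClosed f]
    (hglob : ∀ (R : Y'.Etale) (r : (Scheme.pointSmallEtale η').fiber.obj R)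
      (t : ToType ((P g' F).obj.obj (op ((EtCoh.bc f').obj R)))),
      ∃ (V : Y.Etale) (y : (Scheme.pointSmallEtale (η' ≫ g)).fiber.obj V)
      (s : ToType (F.obj.obj (op ((EtCoh.bc f).obj V)))),
      ∀ z, IsLocal h F R r t V y (𝟙 ((EtCoh.bc f).obj V)) s z)
    (hθ : ∀ (V : Y.Etale) (s : ToType (F.obj.obj (op ((EtCoh.bc f).obj V)))),
      ((((EtCoh.bc g).sheafAdjunctionContinuous A Y.smallEtaleTopology Y'.smallEtaleTopology).homEquiv _ _) θ).hom.app
        (op V) s = psi h F V s) :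
    Function.Bijective ((Scheme.pointSmallEtale η').sheafFiber.map θ) := by
  let Φ := Scheme.pointSmallEtale η'
  let G := ((EtCoh.bc f).sheafPushforwardContinuous A Y.smallEtaleTopology X.smallEtaleTopology).obj F
  let adj := (EtCoh.bc g).sheafAdjunctionContinuous A Y.smallEtaleTopology Y'.smallEtaleTopology
  let e := (Φ.sheafFiberComapIso (EtCoh.bc g) (EtCoh.coverPreserving_bc g) A).hom.app G
  let Q := ((EtCoh.bc f').sheafPushforwardContinuous A Y'.smallEtaleTopology X'.smallEtaleTopology).obj (P g' F)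
  have key : ∀ (V : Y.Etale) (x : Φ.fiber.obj ((EtCoh.bc g).obj V))
      (s : ToType (F.obj.obj (op ((EtCoh.bc f).obj V)))),
      Φ.sheafFiber.map θ (e ((Φ.comap (EtCoh.bc g) (EtCoh.coverPreserving_bc g)).toPresheafFiber V x G.obj s)) =
        Φ.toPresheafFiber ((EtCoh.bc g).obj V) x Q.obj (psi h F V s) := by
    intro V x s
    rw [← hθ V s]
    refine (congrArg (Φ.sheafFiber.map θ) ((ConcreteCategory.comp_apply _ _ _).symm.trans ((ConcreteCategory.congr_hom
      (toPresheafFiber_sheafFiberComapIso_hom Φ (EtCoh.bc g) (EtCoh.coverPreserving_bc g) A G V x) s).trans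
        (ConcreteCategory.comp_apply _ _ _)))).trans ?_
    refine (Φ.toPresheafFiber_naturality_apply θ.hom _ x _).trans (congrArg _ ?_)
    exact ((congrArg (fun φ => φ.hom.app (op V) s) (adj.homEquiv_unit (X := G) (Y := Q) (f := θ))).trans
      (ConcreteCategory.comp_apply _ _ _)).symm
  refine ⟨fun p₁ p₂ hp => ?_, fun p => ?_⟩
  · obtain ⟨q₁, rfl⟩ := (ConcreteCategory.bijective_of_isIso e).2 p₁
    obtain ⟨q₂, rfl⟩ := (ConcreteCategory.bijective_of_isIso e).2 p₂
    obtain ⟨V, x, s₁, s₂, rfl, rfl⟩ :=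
      (Φ.comap (EtCoh.bc g) (EtCoh.coverPreserving_bc g)).toPresheafFiber_jointly_surjective₂ (P := G.obj) q₁ q₂
    rw [key, key] at hp
    obtain ⟨R, b, r, hr, he⟩ := (Φ.toPresheafFiber_eq_iff' _ _ _ _).1 hp
    obtain ⟨V', a, y', hy', hs⟩ := eq_of_psi_eq h F V (down g x) s₁ s₂ R r b (hr.trans (up_down g x).symm) he
    refine congrArg e (((Φ.comap (EtCoh.bc g) (EtCoh.coverPreserving_bc g)).toPresheafFiber_eq_iff' _ _ _ _).2
      ⟨V', a, up g y', ?_, hs⟩)
    show Φ.fiber.map ((EtCoh.bc g).map a) (up g y') = x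
    rw [map_up, hy', up_down]
  · obtain ⟨R, r, t, rfl⟩ := Φ.toPresheafFiber_jointly_surjective (P := Q.obj) p
    obtain ⟨V, y, s, R', r', a, b, ha, hb, hab⟩ := exists_psi_eq h F R r t (hglob R r t)
    refine ⟨e ((Φ.comap (EtCoh.bc g) (EtCoh.coverPreserving_bc g)).toPresheafFiber V (up g y) G.obj s), ?_⟩
    rw [key, ← ha, ← hb, ← GrothendieckTopology.Point.toPresheafFiber_w_apply,
      ← GrothendieckTopology.Point.toPresheafFiber_w_apply]
    exact congrArg _ hab.symm

/-- A transpose of `psi` is bijective on stalks, for integral morphisms. -/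
theorem bijective_stalk [IsIntegralHom f] (hθ : ∀ (V : Y.Etale) (s : ToType (F.obj.obj (op ((EtCoh.bc f).obj V)))),
      ((((EtCoh.bc g).sheafAdjunctionContinuous A Y.smallEtaleTopology Y'.smallEtaleTopology).homEquiv _ _) θ).hom.app
        (op V) s = psi h F V s) :
    Function.Bijective ((Scheme.pointSmallEtale η').sheafFiber.map θ) :=
  bijective_stalk_of_global h η' F θ (fun R r t => exists_global h F R r t) hθ

end Main

end Groth.L27.EtSite.BC
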