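import Groth.Agent.L27.EtSite.DescTop
import Mathlib.CategoryTheory.Sites.Subsheaf

/-! # Descent of subsheaves along universally submersive morphisms -/

universe u

open CategoryTheory CategoryTheory.Limits AlgebraicGeometry TopologicalSpace Opposite

set_option backward.isDefEq.respectTransparency.types false
set_option linter.style.haveILetI false

namespace Groth.L27.EtSite.DescSections

open DescCan (se σ map_map)

theorem mono_pullSh_map {T S : Scheme.{u}} (m : T ⟶ S) {F G : EtDesc.Sh S} (φ : F ⟶ G) [Mono φ] :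
    Mono ((EtDesc.pullSh m).map φ) := by
  refine (mono_iff_stalks_type _).2 fun Ω _ _ ξ => ?_
  have h : Mono ((EtDesc.pullSh m ⋙ (Scheme.pointSmallEtale ξ).sheafFiber).map φ) :=
    ((MorphismProperty.monomorphisms _).arrow_mk_iso_iff
      (((Functor.mapArrowFunctor _ _).mapIso (stalkPullShIso m ξ)).app (Arrow.mk φ))).2
      (show Mono ((Scheme.pointSmallEtale (ξ ≫ m)).sheafFiber.map φ) from inferInstance)
  exact (CategoryTheory.mono_iff_injective _).1 h

theorem injective_app {S : Scheme.{u}} {F G : EtDesc.Sh S} (φ : F ⟶ G) [Mono φ] (U : S.Etaleᵒᵖ) :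
    Function.Injective (φ.hom.app U) := by
  have : Mono φ.hom := (sheafToPresheaf _ _).map_mono φ
  exact (CategoryTheory.mono_iff_injective _).1 (NatTrans.mono_iff_mono_app φ.hom |>.1 this U)

/-- A section locally in the image of a monomorphism is in the image. -/
theorem exists_preimage_of_locally {S : Scheme.{u}} {F G : EtDesc.Sh S} (φ : F ⟶ G) [Mono φ] {U : S.Etale}
    (x : G.obj.obj (op U))
    (h : ∀ q : U.left, ∃ (R : S.Etale) (c : R ⟶ U) (r : R.left) (t : F.obj.obj (op R)),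
      c.left r = q ∧ φ.hom.app (op R) t = G.obj.map c.op x) :
    ∃ t, φ.hom.app (op U) t = x := by
  let Sv : Sieve U :=
    { arrows := fun R c => ∃ t, φ.hom.app (op R) t = G.obj.map c.op x
      downward_closed := fun {R R' c} ⟨t, ht⟩ d => ⟨F.obj.map d.op t, by
        rw [NatTrans.naturality_apply φ.hom d.op t, ht]
        exact map_map _ _ _ rfl _⟩ }
  have hcov : Sv ∈ S.smallEtaleTopology U := (mem_topology_iff Sv).2 fun q => by
    obtain ⟨R, c, r, t, hr, ht⟩ := h q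
    exact ⟨R, c, r, ⟨t, ht⟩, hr⟩
  let fam : Presieve.FamilyOfElements F.obj Sv.arrows := fun R c hc => hc.choose
  have hfam : fam.Compatible := by
    intro R₁ R₂ Z g₁ g₂ c₁ c₂ h₁ h₂ e
    refine injective_app φ _ ?_
    show φ.hom.app (op Z) (F.obj.map g₁.op h₁.choose) = φ.hom.app (op Z) (F.obj.map g₂.op h₂.choose)
    rw [NatTrans.naturality_apply φ.hom g₁.op, NatTrans.naturality_apply φ.hom g₂.op, h₁.choose_spec, h₂.choose_spec]
    exact (map_map _ _ _ e _).trans (map_map _ _ _ rfl _).symm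
  obtain ⟨t, ht, -⟩ := ((isSheaf_iff_isSheaf_of_type _ _).1 F.property) Sv hcov fam hfam
  refine ⟨t, ext_of_locally G fun q => ?_⟩
  obtain ⟨R, c, r, hc, hr⟩ := (mem_topology_iff Sv).1 hcov q
  refine ⟨R, c, r, hr, ?_⟩
  rw [← NatTrans.naturality_apply φ.hom c.op, show F.obj.map c.op t = hc.choose from ht c hc, hc.choose_spec]

/-- Membership in the image of a morphism is reflected by pullback of sections. -/
theorem exists_of_mem_image {T S : Scheme.{u}} (m : T ⟶ S) {F G : EtDesc.Sh S} (φ : F ⟶ G) {U : S.Etale}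
    (x : G.obj.obj (op U)) {R : T.Etale} (i : R ⟶ (EtCoh.bc m).obj U)
    (τ : ((EtDesc.pullSh m).obj F).obj.obj (op R))
    (hτ : ((EtDesc.pullSh m).map φ).hom.app (op R) τ = ((EtDesc.pullSh m).obj G).obj.map i.op (se m G U x))
    (r : R.left) :
    ∃ (U' : S.Etale) (b : U' ⟶ U) (u' : U'.left) (t : F.obj.obj (op U')),
      b.left u' = pullback.fst U.hom m (i.left r) ∧ φ.hom.app (op U') t = G.obj.map b.op x := by
  obtain ⟨W, a, R', d, e, r', t₀, hd, he, heq⟩ := DescCan.exists_local' m F i τ r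
  have h : ((EtDesc.pullSh m).obj G).obj.map e.op (se m G W (φ.hom.app (op W) t₀)) =
      ((EtDesc.pullSh m).obj G).obj.map e.op (se m G W (G.obj.map a.op x)) := by
    rw [se_map, ← NatTrans.naturality_apply ((EtDesc.pullSh m).map φ).hom e.op, ← heq,
      NatTrans.naturality_apply ((EtDesc.pullSh m).map φ).hom d.op, hτ, DescCan.se_naturality]
    exact (map_map _ _ _ he.symm _).trans (map_map _ _ _ rfl _).symm
  obtain ⟨B, b, v, hv, hb⟩ := DescCan.eq_near' m G e r' _ _ h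
  refine ⟨B, b ≫ a, v, F.obj.map b.op t₀, ?_, ?_⟩
  · refine (Scheme.Hom.comp_apply _ _ _).trans ((congrArg a.left hv).trans ((EtaLocal.fst_map m a _).symm.trans
      (congrArg (pullback.fst U.hom m) ?_)))
    refine (Scheme.Hom.comp_apply _ _ _).symm.trans ((congrArg (fun k : R' ⟶ _ => k.left r') he).trans ?_)
    exact (Scheme.Hom.comp_apply _ _ _).trans (congrArg i.left hd)
  · rw [NatTrans.naturality_apply φ.hom b.op, hb]
    exact map_map _ _ _ rfl _

variable {X' X : Scheme.{u}} (f : X' ⟶ X)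

theorem compatible_of_fac {F G₁ G₂ : EtDesc.Sh X} (a₁ : G₁ ⟶ F) (a₂ : G₂ ⟶ F) [Mono a₂]
    (c : (EtDesc.pullSh f).obj G₁ ⟶ (EtDesc.pullSh f).obj G₂)
    (hc : c ≫ (EtDesc.pullSh f).map a₂ = (EtDesc.pullSh f).map a₁) :
    (EtDesc.canIso f G₁).hom ≫ (EtDesc.pullSh (pullback.snd f f)).map c =
      (EtDesc.pullSh (pullback.fst f f)).map c ≫ (EtDesc.canIso f G₂).hom := by
  haveI := mono_pullSh_map f a₂
  haveI := mono_pullSh_map (pullback.snd f f) ((EtDesc.pullSh f).map a₂)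
  have n₁ := DescCan.canIso_naturality f a₁
  have n₂ := DescCan.canIso_naturality f a₂
  rw [← cancel_mono ((EtDesc.pullSh (pullback.snd f f)).map ((EtDesc.pullSh f).map a₂))]
  generalize EtDesc.canIso f G₁ = φ₁ at n₁ ⊢
  generalize EtDesc.canIso f G₂ = φ₂ at n₂ ⊢
  generalize EtDesc.canIso f F = ψ at n₁ n₂
  rw [Category.assoc, Category.assoc, n₂, ← Functor.map_comp, ← Functor.map_comp_assoc, hc]
  exact n₁

theorem exists_iso (hf : EtDesc.IsUnivSubmersive f) {F G₁ G₂ : EtDesc.Sh X} (a₁ : G₁ ⟶ F) (a₂ : G₂ ⟶ F)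
    [Mono a₁] [Mono a₂] (φ : (EtDesc.pullSh f).obj G₁ ≅ (EtDesc.pullSh f).obj G₂)
    (hφ : φ.hom ≫ (EtDesc.pullSh f).map a₂ = (EtDesc.pullSh f).map a₁) :
    ∃ ψ : G₁ ≅ G₂, ψ.hom ≫ a₂ = a₁ := by
  obtain ⟨b, hb, -⟩ := exists_unique_desc f hf G₁ G₂ φ.hom (compatible_of_fac f a₁ a₂ _ hφ)
  have hφ' : φ.inv ≫ (EtDesc.pullSh f).map a₁ = (EtDesc.pullSh f).map a₂ := by rw [← hφ, φ.inv_hom_id_assoc]
  obtain ⟨b', hb', -⟩ := exists_unique_desc f hf G₂ G₁ φ.inv (compatible_of_fac f a₂ a₁ _ hφ')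
  obtain ⟨_, _, u₁⟩ := exists_unique_desc f hf G₁ F _ (DescCan.canIso_naturality f a₁)
  obtain ⟨_, _, u₂⟩ := exists_unique_desc f hf G₂ F _ (DescCan.canIso_naturality f a₂)
  have h1 : b ≫ a₂ = a₁ := (u₁ _ (show (EtDesc.pullSh f).map (b ≫ a₂) = _ by rw [Functor.map_comp, hb, hφ])).trans (u₁ _ rfl).symm
  have h2 : b' ≫ a₁ = a₂ := (u₂ _ (show (EtDesc.pullSh f).map (b' ≫ a₁) = _ by rw [Functor.map_comp, hb', hφ'])).trans (u₂ _ rfl).symm
  exact ⟨⟨b, b', by rw [← cancel_mono a₁, Category.assoc, h2, h1, Category.id_comp],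
    by rw [← cancel_mono a₂, Category.assoc, h1, h2, Category.id_comp]⟩, h1⟩

section Image

variable {F : EtDesc.Sh X} {G' : EtDesc.Sh X'} (a' : G' ⟶ (EtDesc.pullSh f).obj F)
  (φ : (EtDesc.pullSh (pullback.fst f f)).obj G' ≅ (EtDesc.pullSh (pullback.snd f f)).obj G')
  (hφ : φ.hom ≫ (EtDesc.pullSh (pullback.snd f f)).map a' =
    (EtDesc.pullSh (pullback.fst f f)).map a' ≫ (EtDesc.canIso f F).hom)

/-- The open set where the pullback of `s` lies in the subsheaf. -/
def imLocus {V : X.Etale} (s : F.obj.obj (op V)) : Set ((EtCoh.bc f).obj V).left :=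
  {q | ∃ (Q : X'.Etale) (c : Q ⟶ (EtCoh.bc f).obj V) (r : Q.left) (t : G'.obj.obj (op Q)), c.left r = q ∧
    a'.hom.app (op Q) t = ((EtDesc.pullSh f).obj F).obj.map c.op (se f F V s)}

theorem isOpen_imLocus {V : X.Etale} (s : F.obj.obj (op V)) : IsOpen (imLocus f a' s) := by
  refine isOpen_iff_forall_mem_open.2 ?_
  rintro _ ⟨Q, c, r, t, rfl, ht⟩
  haveI : AlgebraicGeometry.Etale c.left := etale_left c
  exact ⟨Set.range c.left, by rintro _ ⟨x, rfl⟩; exact ⟨Q, c, x, t, rfl, ht⟩,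
    c.left.isOpenMap.isOpen_range, r, rfl⟩

theorem transfer₃ {C : Type*} [Category C] {J : GrothendieckTopology C} {P P' Q Q' : Sheaf J (Type (u + 1))}
    (φ : P ⟶ Q) (ψ : P' ⟶ Q') (ap : P ⟶ P') (aq : Q ⟶ Q') (ha : φ ≫ aq = ap ≫ ψ) {R U U' : C} (j : R ⟶ U)
    (σ : U ⟶ U') (τ : P.obj.obj (op R)) (x : P'.obj.obj (op U)) (y : Q'.obj.obj (op U'))
    (hτ : ap.hom.app (op R) τ = P'.obj.map j.op x) (hxy : ψ.hom.app (op U) x = Q'.obj.map σ.op y) :
    aq.hom.app (op R) (φ.hom.app (op R) τ) = Q'.obj.map (j ≫ σ).op y :=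
  (congrArg (fun z : P ⟶ Q' => z.hom.app (op R) τ) ha).trans
    ((congrArg (ψ.hom.app (op R)) hτ).trans (transfer ψ j σ x y hxy rfl))

theorem image_map {T S : Scheme.{u}} (m : T ⟶ S) {F G : EtDesc.Sh S} (α : F ⟶ G) {Q U : S.Etale} (c : Q ⟶ U)
    (t : F.obj.obj (op Q)) (x : G.obj.obj (op U)) (h : α.hom.app (op Q) t = G.obj.map c.op x) :
    ((EtDesc.pullSh m).map α).hom.app (op ((EtCoh.bc m).obj Q)) (se m F Q t) =
      ((EtDesc.pullSh m).obj G).obj.map ((EtCoh.bc m).map c).op (se m G U x) := by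
  rw [← se_map, h, DescCan.se_naturality]

theorem agree_se_eq {V : X.Etale} (s : F.obj.obj (op V)) :
    (EtDesc.canIso f F).hom.hom.app (op ((EtCoh.bc (pullback.fst f f)).obj ((EtCoh.bc f).obj V)))
      (se (pullback.fst f f) ((EtDesc.pullSh f).obj F) _ (se f F V s)) =
    ((EtDesc.pullSh (pullback.snd f f)).obj ((EtDesc.pullSh f).obj F)).obj.map (σ f V).op
      (se (pullback.snd f f) ((EtDesc.pullSh f).obj F) _ (se f F V s)) :=
  DescCan.canIso_eta f F V s

include hφ in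
theorem image_transfer {V : X.Etale} {Q : X'.Etale} (c : Q ⟶ (EtCoh.bc f).obj V) (t : G'.obj.obj (op Q))
    (s : F.obj.obj (op V)) (ht : a'.hom.app (op Q) t = ((EtDesc.pullSh f).obj F).obj.map c.op (se f F V s)) :
    ((EtDesc.pullSh (pullback.snd f f)).map a').hom.app (op ((EtCoh.bc (pullback.fst f f)).obj Q))
      (φ.hom.hom.app (op ((EtCoh.bc (pullback.fst f f)).obj Q)) (se (pullback.fst f f) G' Q t)) =
      ((EtDesc.pullSh (pullback.snd f f)).obj ((EtDesc.pullSh f).obj F)).obj.map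
        ((EtCoh.bc (pullback.fst f f)).map c ≫ σ f V).op
        (se (pullback.snd f f) ((EtDesc.pullSh f).obj F) _ (se f F V s)) := by
  have hag := agree_se_eq f s
  have hτ := image_map (pullback.fst f f) a' c t _ ht
  generalize EtDesc.canIso f F = ψ at hφ hag
  exact transfer₃ φ.hom ψ.hom _ _ hφ _ _ _ _ _ hτ hag

include hφ in
theorem imLocus_saturated {V : X.Etale} (s : F.obj.obj (op V)) {z₁ z₂ : ((EtCoh.bc f).obj V).left}
    (h : pullback.fst V.hom f z₁ = pullback.fst V.hom f z₂) (hz : z₁ ∈ imLocus f a' s) :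
    z₂ ∈ imLocus f a' s := by
  obtain ⟨Q, c, r, t, hr, ht⟩ := hz
  let p₁ := pullback.fst f f
  let p₂ := pullback.snd f f
  obtain ⟨ρ, hρ₁, hρ₂⟩ := exists_point f z₁ z₂ h
  obtain ⟨ρ₁, -, hρ₁'⟩ := Scheme.exists_preimage_of_isPullback (EtCoh.isPullback_bc_map p₁ c).flip r ρ
    (hr.trans hρ₁.symm)
  have hq := image_transfer f a' φ hφ c t s ht
  obtain ⟨U', b, u', t', hu', ht'⟩ := exists_of_mem_image p₂ a' (se f F V s) _ _ hq ρ₁
  refine ⟨U', b, u', t', hu'.trans (Eq.trans ?_ hρ₂), ht'⟩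
  exact congrArg _ ((Scheme.Hom.comp_apply _ _ _).trans (congrArg (σ f V).left hρ₁'))

/-- The subfunctor of sections whose pullback lies in the subsheaf. -/
def preimage : Subfunctor F.obj where
  obj V := {s | ∃ t, a'.hom.app (op ((EtCoh.bc f).obj V.unop)) t = se f F V.unop s}
  map {V W} i s hs := by
    obtain ⟨t, ht⟩ := hs
    refine ⟨G'.obj.map ((EtCoh.bc f).map i.unop).op t, ?_⟩
    rw [NatTrans.naturality_apply a'.hom, ht]
    exact (DescCan.se_naturality f F i.unop s).symm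

variable [Mono a']

theorem isSheaf_preimage : Presheaf.IsSheaf X.smallEtaleTopology (preimage f a').toFunctor := by
  rw [isSheaf_iff_isSheaf_of_type, Subfunctor.isSheaf_iff _ ((isSheaf_iff_isSheaf_of_type _ _).1 F.property)]
  intro V s hs
  refine exists_preimage_of_locally a' _ fun q => ?_
  obtain ⟨W, a, w, ⟨t, ht⟩, hw⟩ := (mem_topology_iff _).1 hs (pullback.fst V.unop.hom f q)
  obtain ⟨r, -, hr⟩ := Scheme.exists_preimage_of_isPullback (EtCoh.isPullback_bc_map f a).flip w q hw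
  exact ⟨_, (EtCoh.bc f).map a, r, t, hr, ht.trans (DescCan.se_naturality f F a s)⟩

include hφ in
theorem exists_subsheaf (hf : EtDesc.IsUnivSubmersive f) :
    ∃ (G : EtDesc.Sh X) (a : G ⟶ F) (_ : Mono a) (ψ : (EtDesc.pullSh f).obj G ≅ G'),
      ψ.hom ≫ a' = (EtDesc.pullSh f).map a := by
  let G : EtDesc.Sh X := ⟨(preimage f a').toFunctor, isSheaf_preimage f a'⟩
  let a : G ⟶ F := ⟨(preimage f a').ι⟩
  have hma : Mono a := (sheafToPresheaf _ _).mono_of_mono_map (show Mono (preimage f a').ι from inferInstance)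
  have hmem : ∀ (V : X.Etale) (s : G.obj.obj (op V)),
      ∃ t, a'.hom.app (op ((EtCoh.bc f).obj V)) t = se f F V (a.hom.app (op V) s) := fun V s => s.2
  choose γ hγ using hmem
  let g : G ⟶ (EtDesc.pushSh f).obj G' := ⟨{
    app := fun V => TypeCat.ofHom (γ V.unop)
    naturality := fun V W c => by
      apply ConcreteCategory.hom_ext
      intro s
      refine injective_app a' _ ?_
      show a'.hom.app _ (γ W.unop (G.obj.map c s)) =
        a'.hom.app _ (G'.obj.map ((EtCoh.bc f).map c.unop).op (γ V.unop s))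
      rw [hγ, NatTrans.naturality_apply a'.hom, hγ, ← DescCan.se_naturality]
      exact congrArg _ (NatTrans.naturality_apply a.hom c s) }⟩
  let ψ := ((EtDesc.adjSh f).homEquiv G G').symm g
  have hψ : ψ ≫ a' = (EtDesc.pullSh f).map a := by
    refine ((EtDesc.adjSh f).homEquiv _ _).injective ?_
    rw [Adjunction.homEquiv_naturality_right, Equiv.apply_symm_apply, Adjunction.homEquiv_unit]
    refine CategoryTheory.Sheaf.hom_ext (NatTrans.ext (funext fun V => ConcreteCategory.hom_ext _ _ fun s => ?_))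
    exact (hγ V.unop s).trans (se_map f a V.unop s)
  haveI := mono_pullSh_map f a
  have hmono : Mono ψ := mono_of_mono_fac hψ
  have hls : Sheaf.IsLocallySurjective ψ := ⟨fun {Q} t => by
    refine (mem_topology_iff _).2 fun q => ?_
    obtain ⟨W, w, Q', d, e, q', s, hd, -, he⟩ := DescCan.exists_local' f F
      ((EtCore.bcTopIsTerminal f).from Q) (a'.hom.app (op Q) t) q
    have hz : e.left q' ∈ imLocus f a' s := ⟨Q', e, q', G'.obj.map d.op t, rfl,
      (NatTrans.naturality_apply a'.hom d.op t).trans he⟩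
    let π := pullback.fst W.hom f
    have hsat : π.base ⁻¹' (π.base '' imLocus f a' s) = imLocus f a' s :=
      Set.Subset.antisymm (fun q₁ ⟨q₀, hq₀, e'⟩ => imLocus_saturated f a' φ hφ s e' hq₀)
        (Set.subset_preimage_image _ _)
    let O : W.left.Opens := ⟨π.base '' imLocus f a' s,
      (isQuotientMap_fst f hf W).isOpen_preimage.1 (hsat.symm ▸ isOpen_imLocus f a' s)⟩
    haveI : AlgebraicGeometry.Etale W.hom := W.prop
    let W₀ : X.Etale := Scheme.Etale.mk (O.ι ≫ W.hom)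
    let ι₀ : W₀ ⟶ W := MorphismProperty.Over.homMk O.ι rfl
    have hs₀ : ∃ t₀, a'.hom.app (op ((EtCoh.bc f).obj W₀)) t₀ = se f F W₀ (F.obj.map ι₀.op s) := by
      refine exists_preimage_of_locally a' _ fun q₀ => ?_
      have hq₀ : ((EtCoh.bc f).map ι₀).left q₀ ∈ imLocus f a' s := by
        rw [← hsat]
        show π _ ∈ (O : Set W.left)
        rw [show π (((EtCoh.bc f).map ι₀).left q₀) = _ from EtaLocal.fst_map f ι₀ q₀]
        exact (pullback.fst W₀.hom f q₀).2
      obtain ⟨R, c, r, t₁, hr, ht₁⟩ := hq₀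
      obtain ⟨R', i, j, r', -, hj, hij⟩ := exists_common c ((EtCoh.bc f).map ι₀) r q₀ hr
      refine ⟨R', j, r', G'.obj.map i.op t₁, hj, ?_⟩
      rw [NatTrans.naturality_apply a'.hom, ht₁, DescCan.se_naturality]
      exact (map_map _ _ _ hij _).trans (map_map _ _ _ rfl _).symm
    obtain ⟨w₀, hw₀⟩ : ∃ w₀ : W₀.left, ι₀.left w₀ = π (e.left q') := ⟨⟨_, ⟨_, hz, rfl⟩⟩, rfl⟩
    obtain ⟨z₀, -, hz₀⟩ := Scheme.exists_preimage_of_isPullback (EtCoh.isPullback_bc_map f ι₀).flip w₀ (e.left q') hw₀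
    obtain ⟨R, i, j, r, hi, -, hij⟩ := exists_common e ((EtCoh.bc f).map ι₀) q' z₀ hz₀.symm
    let s₀ : G.obj.obj (op W₀) := ⟨F.obj.map ι₀.op s, hs₀⟩
    refine ⟨R, i ≫ d, r, ⟨((EtDesc.pullSh f).obj G).obj.map j.op (se f G W₀ s₀), injective_app a' _ ?_⟩, ?_⟩
    · show a'.hom.app (op R) (ψ.hom.app (op R) _) = a'.hom.app (op R) (G'.obj.map (i ≫ d).op t)
      refine (congrArg (fun z : (EtDesc.pullSh f).obj G ⟶ _ => z.hom.app (op R) _) hψ).trans ?_
      rw [NatTrans.naturality_apply ((EtDesc.pullSh f).map a).hom, ← se_map,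
        NatTrans.naturality_apply a'.hom (i ≫ d).op,
        show a.hom.app (op W₀) s₀ = F.obj.map ι₀.op s from rfl, DescCan.se_naturality]
      refine (map_map _ _ _ hij.symm _).trans (((map_map _ _ _ rfl _).symm.trans (congrArg _ he.symm)).trans ?_)
      exact map_map _ _ _ rfl _
    · exact (Scheme.Hom.comp_apply _ _ _).trans ((congrArg d.left hi).trans hd)⟩
  have : Epi ψ := (Sheaf.isLocallySurjective_iff_epi' (φ := ψ)).1 hls
  have : IsIso ψ := isIso_of_mono_of_epi ψ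
  exact ⟨G, a, hma, asIso ψ, hψ⟩

end Image

end Groth.L27.EtSite.DescSections
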