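import Groth.Agent.L27.EtSite.EtaLocal
import Groth.Agent.L27.EtSite.ConnFibres

/-! # Agreement of local sections of etale sheaves -/

universe u v w

open CategoryTheory CategoryTheory.Limits AlgebraicGeometry TopologicalSpace Opposite

set_option backward.isDefEq.respectTransparency.types false
set_option linter.style.haveILetI false
set_option autoImplicit false

noncomputable section

namespace Groth.L27.EtSite.Agree

variable {X : Scheme.{u}}
variable {A : Type w} [Category.{v} A] {FA : A → A → Type*} {CA : A → Type (u + 1)}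
  [∀ (P Q : A), FunLike (FA P Q) (CA P) (CA Q)] [ConcreteCategory.{u + 1} A FA]
  [∀ X : Scheme.{u}, X.smallEtaleTopology.HasSheafCompose (forget A)]
  (F : Sheaf X.smallEtaleTopology A)

theorem comp_hom {W W' : X.Etale} (u : W' ⟶ W) : u.left ≫ W.hom = W'.hom := Over.w u.hom

theorem lift_symm {P Q S T : Scheme.{u}} (f : P ⟶ S) (g : Q ⟶ S) (a : T ⟶ P) (b : T ⟶ Q) (h : a ≫ f = b ≫ g) :
    pullback.lift b a h.symm = pullback.lift a b h ≫ (pullbackSymmetry f g).hom := by
  apply pullback.hom_ext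
  · rw [Category.assoc, pullbackSymmetry_hom_comp_fst, pullback.lift_fst, pullback.lift_snd]
  · rw [Category.assoc, pullbackSymmetry_hom_comp_snd, pullback.lift_fst, pullback.lift_snd]

theorem comp_lift {P Q S T T' : Scheme.{u}} {f : P ⟶ S} {g : Q ⟶ S} (k : T' ⟶ T) (a : T ⟶ P) (b : T ⟶ Q)
    (h : a ≫ f = b ≫ g) (t : T') :
    pullback.lift a b h (k t) = pullback.lift (k ≫ a) (k ≫ b)
      ((Category.assoc _ _ _).trans ((congrArg (k ≫ ·) h).trans (Category.assoc _ _ _).symm)) t := by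
  rw [← Scheme.Hom.comp_apply]
  refine congrArg (fun m : T' ⟶ pullback f g => m t) ?_
  apply pullback.hom_ext
  · rw [Category.assoc, pullback.lift_fst, pullback.lift_fst]
  · rw [Category.assoc, pullback.lift_snd, pullback.lift_snd]

theorem lift_congr {P Q S T : Scheme.{u}} {f : P ⟶ S} {g : Q ⟶ S} {a a' : T ⟶ P} {b b' : T ⟶ Q}
    {h : a ≫ f = b ≫ g} {h' : a' ≫ f = b' ≫ g} (ha : a = a') (hb : b = b') (t : T) :
    pullback.lift a b h t = pullback.lift a' b' h' t := by
  subst ha hb; rfl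

variable {W W' W'' : X.Etale} (s : ToType (F.obj.obj (op W))) (s' : ToType (F.obj.obj (op W')))
  (s'' : ToType (F.obj.obj (op W'')))

/-- Agreement of two sections at a point of the fibre product. -/
def At (r : ↥(pullback W.hom W'.hom)) : Prop :=
  ∃ (R : X.Etale) (u : R ⟶ W) (v : R ⟶ W') (ρ : R.left),
    pullback.lift u.left v.left ((comp_hom u).trans (comp_hom v).symm) ρ = r ∧
      F.obj.map u.op s = F.obj.map v.op s'

omit [∀ X : Scheme.{u}, X.smallEtaleTopology.HasSheafCompose (forget A)] in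
theorem isOpen_at : IsOpen {r | At F s s' r} := by
  refine isOpen_iff_forall_mem_open.2 ?_
  rintro _ ⟨R, u, v, ρ, rfl, h⟩
  let k := pullback.lift u.left v.left ((comp_hom u).trans (comp_hom v).symm)
  haveI : AlgebraicGeometry.Etale k := by
    have h1 : k ≫ pullback.fst W.hom W'.hom = u.left := pullback.lift_fst _ _ _
    haveI : AlgebraicGeometry.Etale (k ≫ pullback.fst W.hom W'.hom) := h1 ▸ etale_left u
    haveI : AlgebraicGeometry.Etale W'.hom := W'.prop
    exact AlgebraicGeometry.Etale.of_comp k (pullback.fst W.hom W'.hom)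
  exact ⟨Set.range k, by rintro _ ⟨x, rfl⟩; exact ⟨R, u, v, x, rfl, h⟩, k.isOpenMap.isOpen_range, ρ, rfl⟩

variable {T : Scheme.{u}} (α : T ⟶ W.left) (β : T ⟶ W'.left) (γ : T ⟶ W''.left)
  (hαβ : α ≫ W.hom = β ≫ W'.hom) (hβγ : β ≫ W'.hom = γ ≫ W''.hom) (t : T)

omit [∀ X : Scheme.{u}, X.smallEtaleTopology.HasSheafCompose (forget A)] in
theorem at_iff {r : ↥(pullback W.hom W'.hom)} : At F s s' r ↔
    ∃ (R : X.Etale) (u : R ⟶ W) (v : R ⟶ W') (ρ : R.left),
      pullback.lift u.left v.left ((comp_hom u).trans (comp_hom v).symm) ρ = r ∧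
      F.obj.map u.op s = F.obj.map v.op s' := Iff.rfl

omit [∀ X : Scheme.{u}, X.smallEtaleTopology.HasSheafCompose (forget A)] in
theorem At.symm (h : At F s s' (pullback.lift α β hαβ t)) :
    At F s' s (pullback.lift β α hαβ.symm t) := by
  obtain ⟨R, u, v, ρ, hρ, e⟩ := h
  refine ⟨R, v, u, ρ, ?_, e.symm⟩
  refine (congrArg (fun m : R.left ⟶ _ => m ρ) (lift_symm W.hom W'.hom u.left v.left ((comp_hom u).trans (comp_hom v).symm))).trans ?_
  refine Eq.trans ?_ (congrArg (fun m : T ⟶ _ => m t) (lift_symm _ _ _ _ hαβ)).symm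
  exact (Scheme.Hom.comp_apply _ _ _).trans
    ((congrArg _ hρ).trans (Scheme.Hom.comp_apply _ _ _).symm)

omit [∀ X : Scheme.{u}, X.smallEtaleTopology.HasSheafCompose (forget A)] in
theorem refl (c : W' ⟶ W) :
    At F s (F.obj.map c.op s) (pullback.lift (β ≫ c.left) β
      ((Category.assoc _ _ _).trans (congrArg (β ≫ ·) (comp_hom c))) t) := by
  refine ⟨W', c, 𝟙 W', β t, ?_, by simp⟩
  exact (comp_lift β _ _ _ t).trans (lift_congr rfl (Category.comp_id β) t)

omit [∀ X : Scheme.{u}, X.smallEtaleTopology.HasSheafCompose (forget A)] in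
theorem refl' : At F s s (pullback.lift α α rfl t) := by
  refine ⟨W, 𝟙 W, 𝟙 W, α t, ?_, rfl⟩
  exact (comp_lift α _ _ _ t).trans (lift_congr (Category.comp_id α) (Category.comp_id α) t)

omit [∀ X : Scheme.{u}, X.smallEtaleTopology.HasSheafCompose (forget A)] in
theorem At.trans (h₁ : At F s s' (pullback.lift α β hαβ t)) (h₂ : At F s' s'' (pullback.lift β γ hβγ t)) :
    At F s s'' (pullback.lift α γ (hαβ.trans hβγ) t) := by
  obtain ⟨R₁, u₁, v₁, ρ₁, hρ₁, e₁⟩ := h₁
  obtain ⟨R₂, u₂, v₂, ρ₂, hρ₂, e₂⟩ := h₂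
  haveI : AlgebraicGeometry.Etale W.hom := W.prop
  haveI : AlgebraicGeometry.Etale W'.hom := W'.prop
  haveI : AlgebraicGeometry.Etale W''.hom := W''.prop
  let P₁ : X.Etale := Scheme.Etale.mk (pullback.fst W.hom W'.hom ≫ W.hom)
  let P₂ : X.Etale := Scheme.Etale.mk (pullback.fst W'.hom W''.hom ≫ W'.hom)
  let Q := pullback (pullback.snd W.hom W'.hom) (pullback.fst W'.hom W''.hom)
  let P₃ : X.Etale := Scheme.Etale.mk
    (pullback.fst (pullback.snd W.hom W'.hom) (pullback.fst W'.hom W''.hom) ≫ pullback.fst W.hom W'.hom ≫ W.hom)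
  let a : R₁ ⟶ P₁ := MorphismProperty.Over.homMk
    (pullback.lift u₁.left v₁.left ((comp_hom u₁).trans (comp_hom v₁).symm))
    ((Category.assoc _ _ _).symm.trans ((congrArg (· ≫ W.hom) (pullback.lift_fst _ _ _)).trans (comp_hom u₁)))
  let b : R₂ ⟶ P₂ := MorphismProperty.Over.homMk
    (pullback.lift u₂.left v₂.left ((comp_hom u₂).trans (comp_hom v₂).symm))
    ((Category.assoc _ _ _).symm.trans ((congrArg (· ≫ W'.hom) (pullback.lift_fst _ _ _)).trans (comp_hom u₂)))
  let p₁ : P₃ ⟶ P₁ := MorphismProperty.Over.homMk (pullback.fst _ _) rfl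
  let p₂ : P₃ ⟶ P₂ := MorphismProperty.Over.homMk (pullback.snd _ _) (by
    show pullback.snd (pullback.snd W.hom W'.hom) (pullback.fst W'.hom W''.hom) ≫ pullback.fst W'.hom W''.hom ≫ W'.hom =
      pullback.fst _ _ ≫ pullback.fst W.hom W'.hom ≫ W.hom
    rw [pullback.condition (f := W.hom), pullback.condition_assoc])
  let l : T ⟶ Q := pullback.lift (pullback.lift α β hαβ) (pullback.lift β γ hβγ)
    ((pullback.lift_snd _ _ _).trans (pullback.lift_fst _ _ _).symm)
  have hl₁ : p₁.left (l t) = pullback.lift α β hαβ t :=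
    (Scheme.Hom.comp_apply _ _ _).symm.trans (congrArg (fun k : T ⟶ pullback W.hom W'.hom => k t) (pullback.lift_fst _ _ _))
  have hl₂ : p₂.left (l t) = pullback.lift β γ hβγ t :=
    (Scheme.Hom.comp_apply _ _ _).symm.trans (congrArg (fun k : T ⟶ pullback W'.hom W''.hom => k t) (pullback.lift_snd _ _ _))
  obtain ⟨S₁, a₁, b₁, σ₁, ha₁, hb₁, e₁'⟩ := exists_common a p₁ ρ₁ (l t) (hρ₁.trans hl₁.symm)
  obtain ⟨S₂, a₂, b₂, σ₂, ha₂, hb₂, e₂'⟩ := exists_common (b₁ ≫ p₂) b σ₁ ρ₂ (by
    show (b₁.left ≫ p₂.left) σ₁ = _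
    rw [Scheme.Hom.comp_apply]
    exact (congrArg p₂.left hb₁).trans (hl₂.trans hρ₂.symm))
  have hv : a₂ ≫ a₁ ≫ v₁ = b₂ ≫ u₂ := by
    apply MorphismProperty.Over.Hom.ext
    have h1 : a₁.left ≫ a.left = b₁.left ≫ p₁.left := congrArg (fun k => k.left) e₁'
    have h2 : a₂.left ≫ b₁.left ≫ p₂.left = b₂.left ≫ b.left := congrArg (fun k => k.left) e₂'
    have ha : a.left ≫ pullback.snd W.hom W'.hom = v₁.left := pullback.lift_snd _ _ _
    have hb : b.left ≫ pullback.fst W'.hom W''.hom = u₂.left := pullback.lift_fst _ _ _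
    show a₂.left ≫ a₁.left ≫ v₁.left = b₂.left ≫ u₂.left
    rw [← ha, ← hb, reassoc_of% h1, ← reassoc_of% h2]
    show a₂.left ≫ b₁.left ≫ pullback.fst _ _ ≫ pullback.snd W.hom W'.hom = _
    exact congrArg (fun k => a₂.left ≫ b₁.left ≫ k)
      (pullback.condition (f := pullback.snd W.hom W'.hom) (g := pullback.fst W'.hom W''.hom))
  have hc : (a₂ ≫ a₁ ≫ u₁).left ≫ W.hom = (b₂ ≫ v₂).left ≫ W''.hom :=
    (comp_hom (a₂ ≫ a₁ ≫ u₁)).trans (comp_hom (b₂ ≫ v₂)).symm
  let r : Q ⟶ pullback W.hom W''.hom := pullback.lift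
    (pullback.fst (pullback.snd W.hom W'.hom) (pullback.fst W'.hom W''.hom) ≫ pullback.fst W.hom W'.hom)
    (pullback.snd (pullback.snd W.hom W'.hom) (pullback.fst W'.hom W''.hom) ≫ pullback.snd W'.hom W''.hom)
    (by rw [Category.assoc, Category.assoc, pullback.condition, pullback.condition_assoc,
      ← pullback.condition (f := W'.hom)])
  refine ⟨S₂, a₂ ≫ a₁ ≫ u₁, b₂ ≫ v₂, σ₂, ?_, ?_⟩
  · have h1 : pullback.lift (a₂ ≫ a₁ ≫ u₁).left (b₂ ≫ v₂).left hc = (a₂.left ≫ b₁.left) ≫ r := by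
      have h1 : a₁.left ≫ a.left = b₁.left ≫ p₁.left := congrArg (fun k => k.left) e₁'
      have h2 : a₂.left ≫ b₁.left ≫ p₂.left = b₂.left ≫ b.left := congrArg (fun k => k.left) e₂'
      have ha : a.left ≫ pullback.fst W.hom W'.hom = u₁.left := pullback.lift_fst _ _ _
      have hb : b.left ≫ pullback.snd W'.hom W''.hom = v₂.left := pullback.lift_snd _ _ _
      apply pullback.hom_ext
      · refine (pullback.lift_fst _ _ _).trans (Eq.trans ?_ ((Category.assoc _ _ _).trans
          (congrArg ((a₂.left ≫ b₁.left) ≫ ·) (pullback.lift_fst _ _ _))).symm)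
        show a₂.left ≫ a₁.left ≫ u₁.left = _
        rw [← ha, reassoc_of% h1]
        simp only [Category.assoc]
        rfl
      · refine (pullback.lift_snd _ _ _).trans (Eq.trans ?_ ((Category.assoc _ _ _).trans
          (congrArg ((a₂.left ≫ b₁.left) ≫ ·) (pullback.lift_snd _ _ _))).symm)
        show b₂.left ≫ v₂.left = _
        rw [← hb, ← reassoc_of% h2]
        simp only [Category.assoc]
        rfl
    have h2 : l ≫ r = pullback.lift α γ (hαβ.trans hβγ) := by
      apply pullback.hom_ext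
      · refine (Category.assoc _ _ _).trans ((congrArg (l ≫ ·) (pullback.lift_fst _ _ _)).trans ?_)
        exact ((Category.assoc _ _ _).symm.trans ((congrArg (· ≫ pullback.fst W.hom W'.hom)
          (pullback.lift_fst _ _ _)).trans (pullback.lift_fst _ _ _))).trans (pullback.lift_fst _ _ _).symm
      · refine (Category.assoc _ _ _).trans ((congrArg (l ≫ ·) (pullback.lift_snd _ _ _)).trans ?_)
        exact ((Category.assoc _ _ _).symm.trans ((congrArg (· ≫ pullback.snd W'.hom W''.hom)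
          (pullback.lift_snd _ _ _)).trans (pullback.lift_snd _ _ _))).trans (pullback.lift_snd _ _ _).symm
    rw [h1, Scheme.Hom.comp_apply, Scheme.Hom.comp_apply, ha₂]
    refine Eq.trans (congrArg r hb₁) ?_
    exact (Scheme.Hom.comp_apply _ _ _).symm.trans (congrArg (fun k : T ⟶ pullback W.hom W''.hom => k t) h2)
  · have h := congrArg (fun k => F.obj.map k.op s') hv
    simp only [op_comp, Functor.map_comp, ConcreteCategory.comp_apply] at h ⊢
    rw [e₁, h, e₂]

omit [∀ X : Scheme.{u}, X.smallEtaleTopology.HasSheafCompose (forget A)] in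
/-- Restricting one of the sections. -/
theorem At.map (c : W'' ⟶ W') (hc : γ ≫ c.left = β) (h : At F s s' (pullback.lift α β hαβ t)) :
    At F s (F.obj.map c.op s') (pullback.lift α γ (hαβ.trans (by rw [← hc, Category.assoc, comp_hom])) t) := by
  subst hc
  exact h.trans F s s' (F.obj.map c.op s') α (γ ≫ c.left) γ hαβ
    ((Category.assoc _ _ _).trans (congrArg (γ ≫ ·) (comp_hom c))) t (refl F s' γ t c)

/-- Sections agreeing everywhere on the diagonal are equal. -/
theorem eq_of_forall (s₁ s₂ : ToType (F.obj.obj (op W)))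
    (h : ∀ w : W.left, At F s₁ s₂ (pullback.lift (𝟙 W.left) (𝟙 W.left) rfl w)) : s₁ = s₂ := by
  refine ext_of_locally F fun w => ?_
  obtain ⟨R, u, v, ρ, hρ, e⟩ := h w
  haveI : AlgebraicGeometry.Etale W.hom := W.prop
  let Δ := pullback.diagonal W.hom
  haveI : IsOpenImmersion Δ := inferInstance
  let k := pullback.lift u.left v.left ((comp_hom u).trans (comp_hom v).symm)
  haveI : AlgebraicGeometry.Etale R.hom := R.prop
  let O : R.left.Opens := k ⁻¹ᵁ Δ.opensRange
  let R' : X.Etale := Scheme.Etale.mk (O.ι ≫ R.hom)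
  let j : R' ⟶ R := MorphismProperty.Over.homMk O.ι rfl
  have hρO : ρ ∈ O := ⟨w, hρ.symm⟩
  have huv : j ≫ u = j ≫ v := by
    apply MorphismProperty.Over.Hom.ext
    show O.ι ≫ u.left = O.ι ≫ v.left
    have hr : Set.range (O.ι ≫ k) ⊆ Set.range Δ := by
      rintro _ ⟨x, rfl⟩
      rw [Scheme.Hom.comp_apply]
      exact x.2
    have hl := IsOpenImmersion.lift_fac Δ (O.ι ≫ k) hr
    have h1 := congrArg (· ≫ pullback.fst W.hom W.hom) hl
    have h2 := congrArg (· ≫ pullback.snd W.hom W.hom) hl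
    simp only [Δ, k, Category.assoc, pullback.diagonal_fst, pullback.diagonal_snd, Category.comp_id,
      pullback.lift_fst, pullback.lift_snd] at h1 h2
    exact h1.symm.trans h2
  refine ⟨R', j ≫ u, ⟨ρ, hρO⟩, ?_, ?_⟩
  · show (O.ι ≫ u.left) ⟨ρ, hρO⟩ = w
    rw [Scheme.Hom.comp_apply]
    have h1 := congrArg (pullback.fst W.hom W.hom) hρ
    rw [← Scheme.Hom.comp_apply, pullback.lift_fst, ← Scheme.Hom.comp_apply, pullback.lift_fst] at h1
    exact h1
  · conv_rhs => rw [huv]
    simp only [op_comp, Functor.map_comp, ConcreteCategory.comp_apply]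
    exact congrArg (F.obj.map j.op) e

end Groth.L27.EtSite.Agree
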