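import Groth.Agent.L27.EtSite.ConnFibres

/-! # Sections of inverse images over an etale object fibred with connected fibres -/

universe u v w

open CategoryTheory CategoryTheory.Limits AlgebraicGeometry TopologicalSpace Opposite

set_option backward.isDefEq.respectTransparency.types false
set_option linter.style.haveILetI false

namespace Groth.L27.EtSite.CM

variable {X S : Scheme.{u}} {f : X ⟶ S} {U : X.Etale} {V : S.Etale} (m : U ⟶ (EtCoh.bc f).obj V)

/-- The morphism of schemes underlying `m`. -/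
noncomputable abbrev bot : U.left ⟶ V.left := m.left ≫ pullback.fst V.hom f

/-- The part of `U` over `a : W ⟶ V`. -/
noncomputable def UW {W : S.Etale} (a : W ⟶ V) : X.Etale :=
  haveI : AlgebraicGeometry.Etale U.hom := U.prop
  haveI : AlgebraicGeometry.Etale a.left := etale_left a
  Scheme.Etale.mk (pullback.fst (bot m) a.left ≫ U.hom)

/-- The projection to `U`. -/
noncomputable def pr {W : S.Etale} (a : W ⟶ V) : UW m a ⟶ U :=
  MorphismProperty.Over.homMk (pullback.fst (bot m) a.left) rfl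

theorem w_aux {W : S.Etale} (a : W ⟶ V) :
    pullback.snd (bot m) a.left ≫ W.hom = (pullback.fst (bot m) a.left ≫ U.hom) ≫ f := by
  refine ((congrArg (_ ≫ ·) (MorphismProperty.Over.w a).symm).trans (Category.assoc _ _ _).symm).trans ?_
  refine (congrArg (· ≫ V.hom) pullback.condition.symm).trans ?_
  refine (Category.assoc _ _ _).trans ((congrArg (_ ≫ ·) ((Category.assoc _ _ _).trans
    (congrArg (m.left ≫ ·) pullback.condition))).trans ?_)
  exact (congrArg (_ ≫ ·) ((Category.assoc _ _ _).symm.trans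
    (congrArg (· ≫ f) (MorphismProperty.Over.w m)))).trans (Category.assoc _ _ _).symm

/-- The projection to the base change of `W`. -/
noncomputable def mW {W : S.Etale} (a : W ⟶ V) : UW m a ⟶ (EtCoh.bc f).obj W :=
  MorphismProperty.Over.homMk (pullback.lift (pullback.snd (bot m) a.left)
    (pullback.fst (bot m) a.left ≫ U.hom) (w_aux m a)) (pullback.lift_snd _ _ _)

/-- Transition maps. -/
noncomputable def tr {W W' : S.Etale} (b : W' ⟶ W) {a : W ⟶ V} {a' : W' ⟶ V} (e : b ≫ a = a') :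
    UW m a' ⟶ UW m a :=
  MorphismProperty.Over.homMk (pullback.lift (pullback.fst (bot m) a'.left)
    (pullback.snd (bot m) a'.left ≫ b.left) (by
      rw [← e]
      exact pullback.condition.trans (Category.assoc _ _ _).symm))
    ((Category.assoc _ _ _).symm.trans (congrArg (· ≫ U.hom) (pullback.lift_fst _ _ _)))

theorem tr_pr {W W' : S.Etale} (b : W' ⟶ W) {a : W ⟶ V} {a' : W' ⟶ V} (e : b ≫ a = a') :
    tr m b e ≫ pr m a = pr m a' :=
  MorphismProperty.Over.Hom.ext (pullback.lift_fst _ _ _)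

theorem tr_mW {W W' : S.Etale} (b : W' ⟶ W) {a : W ⟶ V} {a' : W' ⟶ V} (e : b ≫ a = a') :
    tr m b e ≫ mW m a = mW m a' ≫ (EtCoh.bc f).map b := by
  refine MorphismProperty.Over.Hom.ext (pullback.hom_ext ?_ ?_)
  · refine (Category.assoc _ _ _).trans ((congrArg (_ ≫ ·) (pullback.lift_fst _ _ _)).trans
      ((pullback.lift_snd _ _ _).trans ?_))
    exact (((Category.assoc _ _ _).trans (congrArg (_ ≫ ·) (EtCoh.isPullback_bc_map f b).w)).trans
      ((Category.assoc _ _ _).symm.trans (congrArg (· ≫ b.left) (pullback.lift_fst _ _ _)))).symm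
  · refine (MorphismProperty.Over.w (tr m b e ≫ mW m a)).trans
      (MorphismProperty.Over.w (mW m a' ≫ (EtCoh.bc f).map b)).symm

variable {A : Type w} [Category.{v} A] {FA : A → A → Type*} {CA : A → Type (u + 1)}
  [∀ (P Q : A), FunLike (FA P Q) (CA P) (CA Q)] [ConcreteCategory.{u + 1} A FA]
  [HasColimitsOfSize.{u, u} A] [HasProducts.{u} A] [PreservesFilteredColimitsOfSize.{u, u} (forget A)]
  [∀ X : Scheme.{u}, X.smallEtaleTopology.HasSheafCompose (forget A)]
  [((EtCoh.bc f).sheafPushforwardContinuous A S.smallEtaleTopology X.smallEtaleTopology).IsRightAdjoint]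
  (F : Sheaf S.smallEtaleTopology A)

/-- Pullback of sections along `m`. -/
noncomputable abbrev res (s : ToType (F.obj.obj (op V))) : ToType ((BC.P f F).obj.obj (op U)) :=
  (BC.P f F).obj.map m.op (BC.eta f F V s)

theorem map_mW {W W' : S.Etale} (b : W' ⟶ W) {a : W ⟶ V} {a' : W' ⟶ V} (e : b ≫ a = a')
    (σ : ToType ((BC.P f F).obj.obj (op ((EtCoh.bc f).obj W)))) :
    (BC.P f F).obj.map (mW m a').op ((BC.P f F).obj.map ((EtCoh.bc f).map b).op σ) =
      (BC.P f F).obj.map (tr m b e).op ((BC.P f F).obj.map (mW m a).op σ) := by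
  simp only [← ConcreteCategory.comp_apply, ← Functor.map_comp, ← op_comp, tr_mW]

theorem map_pr {W W' : S.Etale} (b : W' ⟶ W) {a : W ⟶ V} {a' : W' ⟶ V} (e : b ≫ a = a')
    (σ : ToType ((BC.P f F).obj.obj (op U))) :
    (BC.P f F).obj.map (tr m b e).op ((BC.P f F).obj.map (pr m a).op σ) = (BC.P f F).obj.map (pr m a').op σ := by
  simp only [← ConcreteCategory.comp_apply, ← Functor.map_comp, ← op_comp, tr_pr]

theorem map_eta_pr {W : S.Etale} (a : W ⟶ V) (s : ToType (F.obj.obj (op V))) :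
    (BC.P f F).obj.map (mW m a).op (BC.eta f F W (F.obj.map a.op s)) =
      (BC.P f F).obj.map (pr m a).op (res m F s) := by
  have e : mW m a ≫ (EtCoh.bc f).map a = pr m a ≫ m := by
    refine MorphismProperty.Over.Hom.ext (pullback.hom_ext ?_ ?_)
    · refine (Category.assoc _ _ _).trans ((congrArg (_ ≫ ·) (EtCoh.isPullback_bc_map f a).w).trans ?_)
      refine (Category.assoc _ _ _).symm.trans ((congrArg (· ≫ a.left) (pullback.lift_fst _ _ _)).trans ?_)
      exact pullback.condition.symm.trans (Category.assoc _ _ _).symm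
    · exact (MorphismProperty.Over.w (mW m a ≫ (EtCoh.bc f).map a)).trans
        (MorphismProperty.Over.w (pr m a ≫ m)).symm
  rw [BC.eta_naturality]
  simp only [← ConcreteCategory.comp_apply, Category.assoc, ← Functor.map_comp, ← op_comp, e]

section Locus

variable (t : ToType ((BC.P f F).obj.obj (op U)))

/-- The open locus where `t` is the pullback of `s`. -/
def locus {W : S.Etale} (a : W ⟶ V) (s : ToType (F.obj.obj (op W))) : Set (UW m a).left :=
  {q | ∃ (Q : X.Etale) (c : Q ⟶ UW m a) (q' : Q.left), c.left.base q' = q ∧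
    (BC.P f F).obj.map c.op ((BC.P f F).obj.map (pr m a).op t) =
      (BC.P f F).obj.map c.op ((BC.P f F).obj.map (mW m a).op (BC.eta f F W s))}

theorem isOpen_locus {W : S.Etale} (a : W ⟶ V) (s : ToType (F.obj.obj (op W))) :
    IsOpen (locus m F t a s) := by
  refine isOpen_iff_forall_mem_open.2 ?_
  rintro _ ⟨Q, c, q', rfl, hc⟩
  haveI : AlgebraicGeometry.Etale c.left := etale_left c
  exact ⟨Set.range c.left, by rintro _ ⟨x, rfl⟩; exact ⟨Q, c, x, rfl, hc⟩,
    c.left.isOpenMap.isOpen_range, q', rfl⟩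

theorem map_mem_locus {W W' : S.Etale} {a : W ⟶ V} (b : W' ⟶ W) {a' : W' ⟶ V} (e : b ≫ a = a')
    {s : ToType (F.obj.obj (op W))} {q : (UW m a').left}
    (hq : q ∈ locus m F t a' (F.obj.map b.op s)) : (tr m b e).left.base q ∈ locus m F t a s := by
  obtain ⟨Q, c, q', rfl, hc⟩ := hq
  refine ⟨Q, c ≫ tr m b e, q', Scheme.Hom.comp_apply _ _ _, ?_⟩
  rw [BC.eta_naturality] at hc
  simp only [← ConcreteCategory.comp_apply, ← Functor.map_comp, ← op_comp, Category.assoc, tr_pr, tr_mW] at hc ⊢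
  exact hc

theorem mem_locus_of_map {W W' : S.Etale} {a : W ⟶ V} (b : W' ⟶ W) {a' : W' ⟶ V} (e : b ≫ a = a')
    {s : ToType (F.obj.obj (op W))} {q : (UW m a').left}
    (hq : (tr m b e).left.base q ∈ locus m F t a s) : q ∈ locus m F t a' (F.obj.map b.op s) := by
  obtain ⟨Q, c, q', hq', hc⟩ := hq
  obtain ⟨R, i, j, r, hr1, -, hij⟩ := exists_common (tr m b e) c q q' hq'.symm
  refine ⟨R, i, r, hr1, ?_⟩
  have key : ∀ σ, (BC.P f F).obj.map i.op ((BC.P f F).obj.map (tr m b e).op σ) =
      (BC.P f F).obj.map j.op ((BC.P f F).obj.map c.op σ) := fun σ => by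
    simp only [← ConcreteCategory.comp_apply, ← Functor.map_comp, ← op_comp, hij]
  have e1 : ∀ σ, (BC.P f F).obj.map (mW m a').op ((BC.P f F).obj.map ((EtCoh.bc f).map b).op σ) =
      (BC.P f F).obj.map (tr m b e).op ((BC.P f F).obj.map (mW m a).op σ) := fun σ => by
    simp only [← ConcreteCategory.comp_apply, ← Functor.map_comp, ← op_comp, tr_mW]
  have e2 : ∀ σ, (BC.P f F).obj.map (pr m a').op σ =
      (BC.P f F).obj.map (tr m b e).op ((BC.P f F).obj.map (pr m a).op σ) := fun σ => by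
    simp only [← ConcreteCategory.comp_apply, ← Functor.map_comp, ← op_comp, tr_pr]
  rw [BC.eta_naturality, e1, e2, key, key, hc]

end Locus

section Fibre

variable (t : ToType ((BC.P f F).obj.obj (op U))) {Ω : Type u} [Field Ω] [IsSepClosed Ω]
  {η₀ : Spec (CommRingCat.of Ω) ⟶ S} (y : (Scheme.pointSmallEtale η₀).fiber.obj V)

/-- The geometric fibre of `U ⟶ V`. -/
noncomputable abbrev Z : Scheme.{u} :=
  pullback (bot m) (show Spec (CommRingCat.of Ω) ⟶ V.left from y.left)

/-- The fibre mapped to `UW`. -/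
noncomputable def toUW {W : S.Etale} (a : W ⟶ V) (w : (Scheme.pointSmallEtale η₀).fiber.obj W)
    (ha : (Scheme.pointSmallEtale η₀).fiber.map a w = y) : Z m y ⟶ (UW m a).left :=
  pullback.lift (pullback.fst _ _) (pullback.snd _ _ ≫ (show Spec (CommRingCat.of Ω) ⟶ W.left from w.left))
    (pullback.condition.trans ((congrArg (pullback.snd _ _ ≫ ·)
      (congrArg (fun e : (Scheme.pointSmallEtale η₀).fiber.obj V => (e.left : Spec (CommRingCat.of Ω) ⟶ V.left)) ha).symm).trans
      (Category.assoc _ _ _).symm))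

theorem toUW_tr {W W' : S.Etale} (b : W' ⟶ W) {a : W ⟶ V} {a' : W' ⟶ V} (e : b ≫ a = a')
    (w : (Scheme.pointSmallEtale η₀).fiber.obj W) (w' : (Scheme.pointSmallEtale η₀).fiber.obj W')
    (hb : (Scheme.pointSmallEtale η₀).fiber.map b w' = w)
    (ha : (Scheme.pointSmallEtale η₀).fiber.map a w = y) (ha' : (Scheme.pointSmallEtale η₀).fiber.map a' w' = y)
    (z : Z m y) : (tr m b e).left.base (toUW m y a' w' ha' z) = toUW m y a w ha z := by
  refine (Scheme.Hom.comp_apply _ _ _).symm.trans (congrArg (fun k : Z m y ⟶ _ => k.base z) ?_)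
  refine pullback.hom_ext ?_ ?_
  · exact (Category.assoc _ _ _).trans ((congrArg (_ ≫ ·) (pullback.lift_fst _ _ _)).trans
      ((pullback.lift_fst _ _ _).trans (pullback.lift_fst _ _ _).symm))
  · refine (Category.assoc _ _ _).trans ((congrArg (_ ≫ ·) (pullback.lift_snd _ _ _)).trans ?_)
    refine (Category.assoc _ _ _).symm.trans ((congrArg (· ≫ b.left) (pullback.lift_snd _ _ _)).trans ?_)
    refine (Category.assoc _ _ _).trans (Eq.trans ?_ (pullback.lift_snd _ _ _).symm)
    exact congrArg (pullback.snd _ _ ≫ ·)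
      (congrArg (fun e : (Scheme.pointSmallEtale η₀).fiber.obj W => (e.left : Spec (CommRingCat.of Ω) ⟶ W.left)) hb)

/-- The part of the fibre where `t` is the pullback of `s`. -/
def O {W : S.Etale} (a : W ⟶ V) (w : (Scheme.pointSmallEtale η₀).fiber.obj W)
    (ha : (Scheme.pointSmallEtale η₀).fiber.map a w = y) (s : ToType (F.obj.obj (op W))) : Set (Z m y) :=
  (toUW m y a w ha) ⁻¹' locus m F t a s

theorem w_fib : (pullback.fst (bot m) (show Spec (CommRingCat.of Ω) ⟶ V.left from y.left) ≫ U.hom) ≫ f =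
    pullback.snd _ _ ≫ η₀ := by
  refine (Category.assoc _ _ _).trans ?_
  refine (congrArg (_ ≫ ·) ((congrArg (· ≫ f) (MorphismProperty.Over.w m).symm).trans
    ((Category.assoc _ _ _).trans (congrArg (m.left ≫ ·) pullback.condition.symm)))).trans ?_
  refine (congrArg (_ ≫ ·) (Category.assoc _ _ _).symm).trans ?_
  refine (Category.assoc _ _ _).symm.trans ((congrArg (· ≫ V.hom) pullback.condition).trans ?_)
  exact (Category.assoc _ _ _).trans (congrArg (_ ≫ ·) (Over.w y))

/-- Every point of the fibre lies in some locus. -/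
theorem exists_mem_O (z : Z m y) :
    ∃ (W : S.Etale) (a : W ⟶ V) (w : (Scheme.pointSmallEtale η₀).fiber.obj W)
      (ha : (Scheme.pointSmallEtale η₀).fiber.map a w = y) (s : ToType (F.obj.obj (op W))),
      z ∈ O m F t y a w ha s := by
  obtain ⟨Ω', _, _, ζ, hζ⟩ := exists_geometric_point z
  let yl : Spec (CommRingCat.of Ω) ⟶ V.left := y.left
  let ξ : Spec (CommRingCat.of Ω') ⟶ X := ζ ≫ pullback.fst (bot m) yl ≫ U.hom
  let Φ := Scheme.pointSmallEtale ξ
  let u₀ : Φ.fiber.obj U := Over.homMk (ζ ≫ pullback.fst (bot m) yl) (Category.assoc _ _ _)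
  obtain ⟨p, hp⟩ := (ConcreteCategory.bijective_of_isIso
    ((Φ.sheafFiberComapIso (EtCoh.bc f) (EtCoh.coverPreserving_bc f) A).hom.app F)).2
      (Φ.toPresheafFiber _ u₀ (BC.P f F).obj t)
  obtain ⟨R, x, s, rfl⟩ := (Φ.comap (EtCoh.bc f) (EtCoh.coverPreserving_bc f)).toPresheafFiber_jointly_surjective
    (P := F.obj) p
  have hkey : Φ.toPresheafFiber _ u₀ (BC.P f F).obj t =
      Φ.toPresheafFiber ((EtCoh.bc f).obj R) x (BC.P f F).obj (BC.eta f F R s) :=
    hp.symm.trans (((ConcreteCategory.comp_apply _ _ _).symm.trans (ConcreteCategory.congr_hom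
      (toPresheafFiber_sheafFiberComapIso_hom Φ (EtCoh.bc f) (EtCoh.coverPreserving_bc f) A F R x) s)).trans
        (ConcreteCategory.comp_apply _ _ _))
  obtain ⟨u, hu⟩ := exists_descend η₀ R (ζ ≫ pullback.snd (bot m) yl) (BC.down f x).left
    ((Over.w (BC.down f x)).trans ((Category.assoc _ _ _).trans ((congrArg (ζ ≫ ·) (w_fib m y)).trans
      (Category.assoc _ _ _).symm)))
  obtain ⟨⟨W, w⟩, ⟨a, ha⟩, ⟨b, hb⟩, -⟩ := IsCofilteredOrEmpty.cone_objs
    ((Scheme.pointSmallEtale η₀).fiber.elementsMk V y) ((Scheme.pointSmallEtale η₀).fiber.elementsMk R u)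
  let e₀ : Φ.fiber.obj (UW m a) := Over.homMk (ζ ≫ toUW m y a w ha)
    ((Category.assoc _ _ _).trans (congrArg (ζ ≫ ·) ((Category.assoc _ _ _).symm.trans
      (congrArg (· ≫ U.hom) (pullback.lift_fst _ _ _)))))
  have hpr : Φ.fiber.map (pr m a) e₀ = u₀ :=
    Over.OverMorphism.ext ((Category.assoc _ _ _).trans (congrArg (ζ ≫ ·) (pullback.lift_fst _ _ _)))
  have hmw : Φ.fiber.map (mW m a ≫ (EtCoh.bc f).map b) e₀ = x := by
    refine Over.OverMorphism.ext (pullback.hom_ext ?_ ?_)
    · refine (Category.assoc _ _ _).trans ((congrArg (_ ≫ ·) ((Category.assoc _ _ _).trans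
        ((congrArg (_ ≫ ·) (EtCoh.isPullback_bc_map f b).w).trans ((Category.assoc _ _ _).symm.trans
          (congrArg (· ≫ b.left) (pullback.lift_fst _ _ _)))))).trans ?_)
      refine (Category.assoc _ _ _).trans ((congrArg (ζ ≫ ·) ((Category.assoc _ _ _).symm.trans
        (congrArg (· ≫ b.left) (pullback.lift_snd _ _ _)))).trans ?_)
      refine (congrArg (ζ ≫ ·) ((Category.assoc _ _ _).trans (congrArg (_ ≫ ·)
        (congrArg (fun e : (Scheme.pointSmallEtale η₀).fiber.obj R =>
          (e.left : Spec (CommRingCat.of Ω) ⟶ R.left)) hb)))).trans ?_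
      exact (Category.assoc _ _ _).symm.trans hu
    · exact (Over.w (Φ.fiber.map (mW m a ≫ (EtCoh.bc f).map b) e₀)).trans (Over.w x).symm
  refine ⟨W, a, w, ha, F.obj.map b.op s, ?_⟩
  have heq : Φ.toPresheafFiber _ e₀ (BC.P f F).obj ((BC.P f F).obj.map (pr m a).op t) =
      Φ.toPresheafFiber _ e₀ (BC.P f F).obj ((BC.P f F).obj.map (mW m a).op (BC.eta f F W (F.obj.map b.op s))) := by
    rw [BC.eta_naturality, GrothendieckTopology.Point.toPresheafFiber_w_apply,
      GrothendieckTopology.Point.toPresheafFiber_w_apply, GrothendieckTopology.Point.toPresheafFiber_w_apply,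
      hpr, show Φ.fiber.map ((EtCoh.bc f).map b) (Φ.fiber.map (mW m a) e₀) = x by
        rw [← hmw, CategoryTheory.Functor.map_comp]; rfl]
    exact hkey
  obtain ⟨Q, c, q, hq, hc⟩ := (Φ.toPresheafFiber_eq_iff' _ _ _ _).1 heq
  refine ⟨Q, c, q.left.base (default : Spec (CommRingCat.of Ω')), ?_, hc⟩
  rw [← hζ]
  exact (Scheme.Hom.comp_apply _ _ _).symm.trans
    ((congrArg (fun e => e.left.base (default : Spec (CommRingCat.of Ω'))) hq).trans (Scheme.Hom.comp_apply _ _ _))

/-- Sections with overlapping loci have the same germ. -/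
theorem germ_eq_of_mem {W : S.Etale} {a : W ⟶ V} {w : (Scheme.pointSmallEtale η₀).fiber.obj W}
    {s : ToType (F.obj.obj (op W))} {W' : S.Etale} {a' : W' ⟶ V}
    {w' : (Scheme.pointSmallEtale η₀).fiber.obj W'} {s' : ToType (F.obj.obj (op W'))}
    (ha : (Scheme.pointSmallEtale η₀).fiber.map a w = y) (ha' : (Scheme.pointSmallEtale η₀).fiber.map a' w' = y)
    {z : Z m y} (hz : z ∈ O m F t y a w ha s) (hz' : z ∈ O m F t y a' w' ha' s') :
    (Scheme.pointSmallEtale η₀).toPresheafFiber W w F.obj s =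
      (Scheme.pointSmallEtale η₀).toPresheafFiber W' w' F.obj s' := by
  obtain ⟨R, b, b', r, hb, hb', hbb⟩ := CF.exists_refine y ha ha'
  have hr : (Scheme.pointSmallEtale η₀).fiber.map (b ≫ a) r = y := by
    rw [CategoryTheory.Functor.map_comp, ConcreteCategory.comp_apply, hb, ha]
  have h1 : toUW m y (b ≫ a) r hr z ∈ locus m F t (b ≫ a) (F.obj.map b.op s) :=
    mem_locus_of_map m F t b rfl (by rw [toUW_tr m y b rfl w r hb ha hr]; exact hz)
  have h2 : toUW m y (b ≫ a) r hr z ∈ locus m F t (b ≫ a) (F.obj.map b'.op s') :=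
    mem_locus_of_map m F t b' hbb.symm (by rw [toUW_tr m y b' hbb.symm w' r hb' ha' hr]; exact hz')
  obtain ⟨Q, c, q, hq, hc⟩ := h1
  obtain ⟨Q', c', q', hq', hc'⟩ := h2
  obtain ⟨T, i, j, p, hp, -, hij⟩ := exists_common c c' q q' (hq.trans hq'.symm)
  have hT : (BC.P f F).obj.map (i ≫ c ≫ mW m (b ≫ a)).op (BC.eta f F R (F.obj.map b.op s)) =
      (BC.P f F).obj.map (i ≫ c ≫ mW m (b ≫ a)).op (BC.eta f F R (F.obj.map b'.op s')) := by
    conv_rhs => rw [← Category.assoc, hij, Category.assoc, op_comp, op_comp, CategoryTheory.Functor.map_comp,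
      CategoryTheory.Functor.map_comp, ConcreteCategory.comp_apply, ConcreteCategory.comp_apply, ← hc',
      ← ConcreteCategory.comp_apply, ← Functor.map_comp, ← op_comp, ← hij]
    rw [op_comp, op_comp, op_comp, CategoryTheory.Functor.map_comp, CategoryTheory.Functor.map_comp,
      CategoryTheory.Functor.map_comp, ConcreteCategory.comp_apply, ConcreteCategory.comp_apply,
      ConcreteCategory.comp_apply]
    exact congrArg _ hc.symm
  -- a geometric point over `z` through `T`
  obtain ⟨Ω', _, _, ζ, hζ⟩ := exists_geometric_point z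
  let yl : Spec (CommRingCat.of Ω) ⟶ V.left := y.left
  let ξ : Spec (CommRingCat.of Ω') ⟶ X := ζ ≫ pullback.fst (bot m) yl ≫ U.hom
  let Φ := Scheme.pointSmallEtale ξ
  let ρ : Φ.fiber.obj (UW m (b ≫ a)) := Over.homMk (ζ ≫ toUW m y (b ≫ a) r hr)
    ((Category.assoc _ _ _).trans (congrArg (ζ ≫ ·) ((Category.assoc _ _ _).symm.trans
      (congrArg (· ≫ U.hom) (pullback.lift_fst _ _ _)))))
  let TR : Scheme.Etale (UW m (b ≫ a)).left := @Scheme.Etale.mk _ _ (i ≫ c).left (etale_left (i ≫ c))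
  obtain ⟨pl, -⟩ := exists_fiber ρ.left TR p (by
    show (i ≫ c).left.base p = (ζ ≫ toUW m y (b ≫ a) r hr).base default
    rw [Scheme.Hom.comp_apply, hζ, ← hq, ← hp]
    exact Scheme.Hom.comp_apply _ _ _)
  let e : Φ.fiber.obj T := Over.homMk pl.left
    ((congrArg (pl.left ≫ ·) (MorphismProperty.Over.w (i ≫ c)).symm).trans
      ((Category.assoc _ _ _).symm.trans ((congrArg (· ≫ (UW m (b ≫ a)).hom) (Over.w pl)).trans
        (Over.w ρ))))
  have he : Φ.fiber.map (i ≫ c) e = ρ := Over.OverMorphism.ext (Over.w pl)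
  let r' : Φ.fiber.obj ((EtCoh.bc f).obj R) := Φ.fiber.map (mW m (b ≫ a)) ρ
  have hg := congrArg (Φ.toPresheafFiber T e (BC.P f F).obj) hT
  rw [GrothendieckTopology.Point.toPresheafFiber_w_apply, GrothendieckTopology.Point.toPresheafFiber_w_apply,
    show Φ.fiber.map (i ≫ c ≫ mW m (b ≫ a)) e = r' by
      rw [← Category.assoc, CategoryTheory.Functor.map_comp, ConcreteCategory.comp_apply, he]] at hg
  -- transport to the stalk of `F`
  have key : ∀ σ, ((Φ.sheafFiberComapIso (EtCoh.bc f) (EtCoh.coverPreserving_bc f) A).hom.app F)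
      ((Φ.comap (EtCoh.bc f) (EtCoh.coverPreserving_bc f)).toPresheafFiber R r' F.obj σ) =
      Φ.toPresheafFiber _ r' (BC.P f F).obj (BC.eta f F R σ) := fun σ =>
    ((ConcreteCategory.comp_apply _ _ _).symm.trans (ConcreteCategory.congr_hom
      (toPresheafFiber_sheafFiberComapIso_hom Φ (EtCoh.bc f) (EtCoh.coverPreserving_bc f) A F R r') σ)).trans
        (ConcreteCategory.comp_apply _ _ _)
  rw [← key, ← key] at hg
  obtain ⟨T₀, k, x, hkx, hk⟩ := ((Φ.comap (EtCoh.bc f) (EtCoh.coverPreserving_bc f)).toPresheafFiber_eq_iff'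
    _ _ _ _).1 ((ConcreteCategory.bijective_of_isIso
      ((Φ.sheafFiberComapIso (EtCoh.bc f) (EtCoh.coverPreserving_bc f) A).hom.app F)).1 hg)
  obtain ⟨x₀, hx₀⟩ := exists_descend η₀ T₀ (ζ ≫ pullback.snd (bot m) yl) (BC.down f x).left
    ((Over.w (BC.down f x)).trans ((Category.assoc _ _ _).trans ((congrArg (ζ ≫ ·) (w_fib m y)).trans
      (Category.assoc _ _ _).symm)))
  have hx₁ : (Scheme.pointSmallEtale η₀).fiber.map k x₀ = r := by
    refine Over.OverMorphism.ext ?_
    haveI := CF.epi_field (ζ ≫ pullback.snd (bot m) yl)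
    refine (cancel_epi (ζ ≫ pullback.snd (bot m) yl)).1 ?_
    have e1 := congrArg (fun e : Φ.fiber.obj ((EtCoh.bc f).obj R) => e.left ≫ pullback.fst R.hom f) hkx
    refine ((Category.assoc _ _ _).symm.trans (congrArg (· ≫ k.left) hx₀)).trans ?_
    refine Eq.trans ?_ (e1.trans ((Category.assoc _ _ _).trans ((congrArg (_ ≫ ·) (pullback.lift_fst _ _ _)).trans
      ((Category.assoc _ _ _).trans ((congrArg (ζ ≫ ·) (pullback.lift_snd _ _ _)).trans
        (Category.assoc _ _ _).symm)))))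
    exact (Category.assoc _ _ _).trans ((congrArg (x.left ≫ ·) (EtCoh.isPullback_bc_map f k).w.symm).trans
      (Category.assoc _ _ _).symm)
  rw [← hb, ← hb', ← hx₁, ← GrothendieckTopology.Point.toPresheafFiber_w_apply,
    ← GrothendieckTopology.Point.toPresheafFiber_w_apply, ← GrothendieckTopology.Point.toPresheafFiber_w_apply,
    ← GrothendieckTopology.Point.toPresheafFiber_w_apply]
  exact congrArg _ hk

theorem O_eq_univ [ConnectedSpace ↥(Z m y)] {W : S.Etale} {a : W ⟶ V}
    {w : (Scheme.pointSmallEtale η₀).fiber.obj W} {s : ToType (F.obj.obj (op W))}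
    (ha : (Scheme.pointSmallEtale η₀).fiber.map a w = y) {z : Z m y} (hz : z ∈ O m F t y a w ha s) :
    O m F t y a w ha s = Set.univ := by
  let T : Set ↥(Z m y) := {z' | ∃ (W' : S.Etale) (a' : W' ⟶ V) (w' : (Scheme.pointSmallEtale η₀).fiber.obj W')
    (ha' : (Scheme.pointSmallEtale η₀).fiber.map a' w' = y) (s' : ToType (F.obj.obj (op W'))),
      z' ∈ O m F t y a' w' ha' s' ∧
      (Scheme.pointSmallEtale η₀).toPresheafFiber W' w' F.obj s' = (Scheme.pointSmallEtale η₀).toPresheafFiber W w F.obj s}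
  have hTo : IsOpen T := isOpen_iff_forall_mem_open.2 fun z' ⟨W', a', w', h1, s', h2, h3⟩ =>
    ⟨O m F t y a' w' h1 s', fun z'' h => ⟨W', a', w', h1, s', h, h3⟩,
      (isOpen_locus m F t a' s').preimage (toUW m y a' w' h1).continuous, h2⟩
  have hTc : IsOpen Tᶜ := isOpen_iff_forall_mem_open.2 fun z' hz' => by
    obtain ⟨W', a', w', h1, s', h2⟩ := exists_mem_O m F t y z'
    refine ⟨O m F t y a' w' h1 s', ?_, (isOpen_locus m F t a' s').preimage
      (toUW m y a' w' h1).continuous, h2⟩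
    rintro z'' h ⟨W₂, a₂, w₂, g1, s₂, g2, g3⟩
    exact hz' ⟨W', a', w', h1, s', h2, (germ_eq_of_mem m F t y h1 g1 h g2).trans g3⟩
  have hT : T = Set.univ := IsClopen.eq_univ ⟨isOpen_compl_iff.1 hTc, hTo⟩ ⟨z, W, a, w, ha, s, hz, rfl⟩
  refine Set.eq_univ_of_forall fun z' => ?_
  obtain ⟨W', a', w', h1, s', h2, h3⟩ := hT.ge (Set.mem_univ z')
  obtain ⟨R, b, b', r, hb, hb', hbb⟩ := CF.exists_refine y ha h1
  rw [← hb, ← hb', ← GrothendieckTopology.Point.toPresheafFiber_w_apply,
    ← GrothendieckTopology.Point.toPresheafFiber_w_apply] at h3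
  obtain ⟨R', d, r', hd, hd'⟩ := ((Scheme.pointSmallEtale η₀).toPresheafFiber_eq_iff' _ _ _ _).1 h3
  have hr : (Scheme.pointSmallEtale η₀).fiber.map (b ≫ a) r = y := by
    rw [CategoryTheory.Functor.map_comp, ConcreteCategory.comp_apply, hb, ha]
  have hr' : (Scheme.pointSmallEtale η₀).fiber.map (d ≫ b ≫ a) r' = y := by
    rw [CategoryTheory.Functor.map_comp, ConcreteCategory.comp_apply, hd, hr]
  have h4 : toUW m y (b ≫ a) r hr z' ∈ locus m F t (b ≫ a) (F.obj.map b'.op s') :=
    mem_locus_of_map m F t b' hbb.symm (by rw [toUW_tr m y b' hbb.symm w' r hb' h1 hr]; exact h2)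
  have h5 : toUW m y (d ≫ b ≫ a) r' hr' z' ∈ locus m F t (d ≫ b ≫ a) (F.obj.map d.op (F.obj.map b'.op s')) :=
    mem_locus_of_map m F t d rfl (by rw [toUW_tr m y d rfl r r' hd hr hr']; exact h4)
  rw [hd'] at h5
  have h6 := map_mem_locus m F t b rfl (map_mem_locus m F t d rfl h5)
  rw [toUW_tr m y d rfl r r' hd hr hr', toUW_tr m y b rfl w r hb ha hr] at h6
  exact h6

end Fibre

section Global

variable (hc : ∀ (Ω : Type u) [Field Ω] [IsAlgClosed Ω] (η : Spec (CommRingCat.of Ω) ⟶ V.left),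
  ConnectedSpace ↥(pullback (bot m) η))

include hc in
theorem locus_saturated (t : ToType ((BC.P f F).obj.obj (op U))) {W : S.Etale} (a : W ⟶ V)
    (s : ToType (F.obj.obj (op W))) {q q' : (UW m a).left}
    (h : pullback.snd (bot m) a.left q' = pullback.snd (bot m) a.left q) (hq : q ∈ locus m F t a s) :
    q' ∈ locus m F t a s := by
  obtain ⟨Ω, _, _, η, hη⟩ := CF.exists_algClosed_point (pullback.snd (bot m) a.left q)
  let w : (Scheme.pointSmallEtale (η ≫ W.hom)).fiber.obj W := Over.homMk η rfl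
  let y : (Scheme.pointSmallEtale (η ≫ W.hom)).fiber.obj V := (Scheme.pointSmallEtale (η ≫ W.hom)).fiber.map a w
  haveI : ConnectedSpace ↥(Z m y) := hc Ω _
  have hlift : ∀ q₀ : (UW m a).left, pullback.snd (bot m) a.left q₀ = η.base default →
      ∃ z, toUW m y a w rfl z = q₀ := fun q₀ h₀ => by
    have hbig : IsPullback (pullback.fst (bot m) (η ≫ a.left)) (pullback.snd _ _) (bot m) (η ≫ a.left) :=
      IsPullback.of_hasPullback _ _
    have hfst : toUW m y a w rfl ≫ pullback.fst (bot m) a.left = pullback.fst (bot m) (η ≫ a.left) :=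
      pullback.lift_fst _ _ _
    have H : IsPullback (toUW m y a w rfl) (pullback.snd _ _) (pullback.snd (bot m) a.left) η :=
      IsPullback.of_right (hfst.symm ▸ hbig) (pullback.lift_snd _ _ _)
        (IsPullback.of_hasPullback (bot m) a.left)
    obtain ⟨z, -, hz⟩ := Scheme.exists_preimage_of_isPullback H.flip (default : Spec (CommRingCat.of Ω)) q₀ h₀.symm
    exact ⟨z, hz⟩
  obtain ⟨z, hz⟩ := hlift q hη.symm
  obtain ⟨z', hz'⟩ := hlift q' (h.trans hη.symm)
  have hu := O_eq_univ m F t y (a := a) (w := w) (s := s) rfl (z := z)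
    (show toUW m y a w rfl z ∈ locus m F t a s from hz.symm ▸ hq)
  exact hz' ▸ (show toUW m y a w rfl z' ∈ locus m F t a s from hu.ge (Set.mem_univ z'))

include hc in
theorem injective_res : Function.Injective (res m F) := by
  intro s s' hss
  refine ext_of_locally F fun x => ?_
  obtain ⟨Ω, _, _, η, hη⟩ := CF.exists_algClosed_point x
  let y : (Scheme.pointSmallEtale (η ≫ V.hom)).fiber.obj V := Over.homMk η rfl
  haveI : ConnectedSpace ↥(Z m y) := hc Ω η
  obtain ⟨z⟩ : Nonempty ↥(Z m y) := inferInstance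
  obtain ⟨Ω', _, _, ζ, hζ⟩ := exists_geometric_point z
  let ξ : Spec (CommRingCat.of Ω') ⟶ X := ζ ≫ pullback.fst (bot m) η ≫ U.hom
  let Φ := Scheme.pointSmallEtale ξ
  let u₀ : Φ.fiber.obj U := Over.homMk (ζ ≫ pullback.fst (bot m) η) (Category.assoc _ _ _)
  let v₀ := Φ.fiber.map m u₀
  have key : ∀ σ, ((Φ.sheafFiberComapIso (EtCoh.bc f) (EtCoh.coverPreserving_bc f) A).hom.app F)
      ((Φ.comap (EtCoh.bc f) (EtCoh.coverPreserving_bc f)).toPresheafFiber V v₀ F.obj σ) =
      Φ.toPresheafFiber _ v₀ (BC.P f F).obj (BC.eta f F V σ) := fun σ =>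
    ((ConcreteCategory.comp_apply _ _ _).symm.trans (ConcreteCategory.congr_hom
      (toPresheafFiber_sheafFiberComapIso_hom Φ (EtCoh.bc f) (EtCoh.coverPreserving_bc f) A F V v₀) σ)).trans
        (ConcreteCategory.comp_apply _ _ _)
  have hg := congrArg (Φ.toPresheafFiber _ u₀ (BC.P f F).obj) hss
  rw [res, res, GrothendieckTopology.Point.toPresheafFiber_w_apply,
    GrothendieckTopology.Point.toPresheafFiber_w_apply, ← key, ← key] at hg
  obtain ⟨T, k, e, hke, hk⟩ := ((Φ.comap (EtCoh.bc f) (EtCoh.coverPreserving_bc f)).toPresheafFiber_eq_iff'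
    _ _ _ _).1 ((ConcreteCategory.bijective_of_isIso
      ((Φ.sheafFiberComapIso (EtCoh.bc f) (EtCoh.coverPreserving_bc f) A).hom.app F)).1 hg)
  refine ⟨T, k, (BC.down f e).left.base (default : Spec (CommRingCat.of Ω')), ?_, hk⟩
  have e1 : (BC.down f e).left ≫ k.left = (ζ ≫ pullback.snd (bot m) η) ≫ η := by
    have e2 := congrArg (fun e : Φ.fiber.obj ((EtCoh.bc f).obj V) => e.left ≫ pullback.fst V.hom f) hke
    refine Eq.trans ?_ (e2.trans ((Category.assoc _ _ _).trans ((Category.assoc _ _ _).trans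
      ((congrArg (ζ ≫ ·) pullback.condition).trans (Category.assoc _ _ _).symm))))
    exact (Category.assoc _ _ _).trans ((congrArg (e.left ≫ ·) (EtCoh.isPullback_bc_map f k).w.symm).trans
      (Category.assoc _ _ _).symm)
  refine (Scheme.Hom.comp_apply _ _ _).symm.trans ((congrArg (fun k : Spec (CommRingCat.of Ω') ⟶ V.left => k.base default) e1).trans ?_)
  exact (Scheme.Hom.comp_apply _ _ _).trans ((congrArg η.base (Subsingleton.elim (α := Spec (CommRingCat.of Ω)) _ _)).trans hη)

variable (hsub : ∀ (W : S.Etale) (a : W ⟶ V), Topology.IsQuotientMap (pullback.snd (bot m) a.left).base)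

include hc in
theorem injective_res_UW {W : S.Etale} (a : W ⟶ V) :
    Function.Injective fun s : ToType (F.obj.obj (op W)) =>
      (BC.P f F).obj.map (mW m a).op (BC.eta f F W s) := by
  refine injective_res (mW m a) F (fun Ω _ _ η => ?_)
  have hw : bot (mW m a) = pullback.snd (bot m) a.left := pullback.lift_fst _ _ _
  rw [hw]
  haveI := hc Ω (η ≫ a.left)
  let e := pullbackLeftPullbackSndIso (bot m) a.left η
  exact e.inv.homeomorph.surjective.connectedSpace e.inv.continuous

include hc hsub in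
theorem surjective_res : Function.Surjective (res m F) := by
  intro t
  let Sv : Sieve V :=
    { arrows := fun W a => ∃ s : ToType (F.obj.obj (op W)),
        (BC.P f F).obj.map (mW m a).op (BC.eta f F W s) = (BC.P f F).obj.map (pr m a).op t
      downward_closed := fun {W W' a} ⟨s, hs⟩ b => ⟨F.obj.map b.op s, by
        rw [BC.eta_naturality, map_mW m F b rfl, hs, map_pr]⟩ }
  have hcov : Sv ∈ S.smallEtaleTopology V := by
    refine (mem_topology_iff Sv).2 fun x => ?_
    obtain ⟨Ω, _, _, η, hη⟩ := CF.exists_algClosed_point x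
    let y : (Scheme.pointSmallEtale (η ≫ V.hom)).fiber.obj V := Over.homMk η rfl
    haveI : ConnectedSpace ↥(Z m y) := hc Ω η
    obtain ⟨z⟩ : Nonempty ↥(Z m y) := inferInstance
    obtain ⟨W, a, w, ha, s, hz⟩ := exists_mem_O m F t y z
    let p : (UW m a).left ⟶ W.left := pullback.snd (bot m) a.left
    have hsat : p.base ⁻¹' (p.base '' locus m F t a s) = locus m F t a s :=
      Set.Subset.antisymm (fun q ⟨q₀, hq₀, e⟩ => locus_saturated m F hc t a s e.symm hq₀)
        (Set.subset_preimage_image _ _)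
    let O₀ : W.left.Opens := ⟨p.base '' locus m F t a s,
      (hsub W a).isOpen_preimage.1 (hsat.symm ▸ isOpen_locus m F t a s)⟩
    haveI : AlgebraicGeometry.Etale W.hom := W.prop
    let W₀ : S.Etale := Scheme.Etale.mk (O₀.ι ≫ W.hom)
    let ι₀ : W₀ ⟶ W := MorphismProperty.Over.homMk O₀.ι rfl
    have hmemO : w.left.base (default : Spec (CommRingCat.of Ω)) ∈ O₀ := by
      refine ⟨_, hz, ?_⟩
      refine (Scheme.Hom.comp_apply _ _ _).symm.trans ((congrArg (fun k : Z m y ⟶ W.left => k z)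
        (pullback.lift_snd _ _ _)).trans ((Scheme.Hom.comp_apply _ _ _).trans ?_))
      exact congrArg w.left.base (Subsingleton.elim (α := Spec (CommRingCat.of Ω)) _ _)
    refine ⟨W₀, ι₀ ≫ a, ⟨w.left.base (default : Spec (CommRingCat.of Ω)), hmemO⟩, ⟨F.obj.map ι₀.op s, ?_⟩, ?_⟩
    · refine ext_of_locally (BC.P f F) fun q => ?_
      have hq : (tr m ι₀ rfl).left.base q ∈ locus m F t a s := by
        rw [← hsat]
        show p.base _ ∈ (O₀ : Set _)
        rw [show p.base ((tr m ι₀ rfl).left.base q) = O₀.ι.base ((pullback.snd (bot m) (ι₀ ≫ a).left).base q) from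
          (Scheme.Hom.comp_apply _ _ _).symm.trans ((congrArg (fun k : (UW m (ι₀ ≫ a)).left ⟶ W.left => k.base q)
            (pullback.lift_snd _ _ _)).trans (Scheme.Hom.comp_apply _ _ _))]
        exact ((pullback.snd (bot m) (ι₀ ≫ a).left).base q).2
      obtain ⟨Q, c, q', hq', hcq⟩ := mem_locus_of_map m F t ι₀ rfl hq
      exact ⟨Q, c, q', hq', hcq.symm⟩
    · refine Eq.trans ?_ hη
      refine Eq.trans ?_ (congrArg (fun e : (Scheme.pointSmallEtale (η ≫ V.hom)).fiber.obj V =>
        e.left.base (default : Spec (CommRingCat.of Ω))) ha)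
      exact (Scheme.Hom.comp_apply _ _ _).trans (Scheme.Hom.comp_apply _ _ _).symm
  have hF := ((isSheaf_iff_isSheaf_of_type _ _).1 ((sheafCompose S.smallEtaleTopology (forget A)).obj F).property) Sv hcov
  let fam : Presieve.FamilyOfElements (F.obj ⋙ forget A) Sv.arrows := fun W a h => h.choose
  have hfam : fam.Compatible := by
    intro W₁ W₂ R g₁ g₂ a₁ a₂ h₁ h₂ e
    refine injective_res_UW m F hc (g₁ ≫ a₁) ?_
    show (BC.P f F).obj.map (mW m (g₁ ≫ a₁)).op (BC.eta f F R (F.obj.map g₁.op h₁.choose)) =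
      (BC.P f F).obj.map (mW m (g₁ ≫ a₁)).op (BC.eta f F R (F.obj.map g₂.op h₂.choose))
    rw [BC.eta_naturality, BC.eta_naturality, map_mW m F g₁ rfl, map_mW m F g₂ e.symm, h₁.choose_spec,
      h₂.choose_spec, map_pr, map_pr]
  obtain ⟨s, hs, -⟩ := hF fam hfam
  refine ⟨s, ext_of_locally (BC.P f F) fun q => ?_⟩
  obtain ⟨W, a, ha, w, hw⟩ : ∃ (W : S.Etale) (a : W ⟶ V), Sv.arrows a ∧ ∃ w, a.left.base w = (bot m).base q := by
    obtain ⟨W, a, w, h1, h2⟩ := (mem_topology_iff Sv).1 hcov ((bot m).base q)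
    exact ⟨W, a, h1, w, h2⟩
  obtain ⟨r, hr, -⟩ := Scheme.exists_preimage_of_isPullback (IsPullback.of_hasPullback (bot m) a.left) q w hw.symm
  refine ⟨_, pr m a, r, hr, ?_⟩
  rw [← map_eta_pr, show F.obj.map a.op s = ha.choose from hs a ha, ha.choose_spec]

end Global

end Groth.L27.EtSite.CM
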