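import Groth.Agent.L27.EtSite.DescCanBase

/-! # The canonical descent datum on sections -/

universe u

open CategoryTheory CategoryTheory.Limits AlgebraicGeometry Opposite

set_option backward.isDefEq.respectTransparency.types false
set_option linter.style.haveILetI false

namespace Groth.L27.EtSite.DescCan

section Comp

variable {T S X : Scheme.{u}} (g : T ⟶ S) (a : S ⟶ X) {b : T ⟶ X}

theorem pullVia_inv_eta (w : g ≫ a = b) (F : EtDesc.Sh X) (V : X.Etale) (s : F.obj.obj (op V)) :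
    (EtDesc.pullVia g a b w F).inv.hom.app (op ((EtCoh.bc b).obj V)) (se b F V s) =
      ((EtDesc.pullSh g).obj ((EtDesc.pullSh a).obj F)).obj.map (cmpInv g a w V).op
        (se g ((EtDesc.pullSh a).obj F) ((EtCoh.bc a).obj V) (se a F V s)) := by
  have h := pullVia_eta g a w F V s
  generalize EtDesc.pullVia g a b w F = e at h ⊢
  exact inv_transfer e (cmpInv g a w V) (cmp g a w V) (cmpInv_cmp g a w V) _ _ h

end Comp

variable {X' X : Scheme.{u}} (f : X' ⟶ X)

/-- The exchange of the two factors over `V`. -/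
noncomputable def σ (V : X.Etale) :
    (EtCoh.bc (pullback.fst f f)).obj ((EtCoh.bc f).obj V) ⟶
      (EtCoh.bc (pullback.snd f f)).obj ((EtCoh.bc f).obj V) :=
  cmp (pullback.fst f f) f (b := pullback.fst f f ≫ f) rfl V ≫
    cmpInv (pullback.snd f f) f pullback.condition.symm V

theorem σ_fst (V : X.Etale) :
    (σ f V).left ≫ pullback.fst ((EtCoh.bc f).obj V).hom (pullback.snd f f) ≫ pullback.fst V.hom f =
      pullback.fst ((EtCoh.bc f).obj V).hom (pullback.fst f f) ≫ pullback.fst V.hom f :=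
  (Category.assoc _ _ _).trans ((congrArg (_ ≫ ·) (cmpInv_fst (pullback.snd f f) f pullback.condition.symm V)).trans
    (cmp_fst (pullback.fst f f) f (b := pullback.fst f f ≫ f) rfl V))

theorem canIso_def (F : EtDesc.Sh X) : EtDesc.canIso f F =
    EtDesc.pullVia (pullback.fst f f) f (pullback.fst f f ≫ f) rfl F ≪≫
    (EtDesc.pullVia (pullback.snd f f) f (pullback.fst f f ≫ f) pullback.condition.symm F).symm :=
  EtDesc.canIso.eq_1 f F

theorem abstract_eta (F : EtDesc.Sh X) (V : X.Etale)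
    (e₁ : (EtDesc.pullSh (pullback.fst f f)).obj ((EtDesc.pullSh f).obj F) ≅ (EtDesc.pullSh (pullback.fst f f ≫ f)).obj F)
    (e₂ : (EtDesc.pullSh (pullback.snd f f)).obj ((EtDesc.pullSh f).obj F) ≅ (EtDesc.pullSh (pullback.fst f f ≫ f)).obj F)
    (x : ((EtDesc.pullSh f).obj F).obj.obj (op ((EtCoh.bc f).obj V)))
    (y : ((EtDesc.pullSh (pullback.fst f f ≫ f)).obj F).obj.obj (op ((EtCoh.bc (pullback.fst f f ≫ f)).obj V)))
    (h₁ : e₁.hom.hom.app (op ((EtCoh.bc (pullback.fst f f)).obj ((EtCoh.bc f).obj V)))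
      (se (pullback.fst f f) ((EtDesc.pullSh f).obj F) ((EtCoh.bc f).obj V) x) =
      ((EtDesc.pullSh (pullback.fst f f ≫ f)).obj F).obj.map (cmp (pullback.fst f f) f rfl V).op y)
    (h₂ : e₂.inv.hom.app (op ((EtCoh.bc (pullback.fst f f ≫ f)).obj V)) y =
      ((EtDesc.pullSh (pullback.snd f f)).obj ((EtDesc.pullSh f).obj F)).obj.map
        (cmpInv (pullback.snd f f) f pullback.condition.symm V).op
        (se (pullback.snd f f) ((EtDesc.pullSh f).obj F) ((EtCoh.bc f).obj V) x)) :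
    (e₁ ≪≫ e₂.symm).hom.hom.app (op ((EtCoh.bc (pullback.fst f f)).obj ((EtCoh.bc f).obj V)))
      (se (pullback.fst f f) ((EtDesc.pullSh f).obj F) ((EtCoh.bc f).obj V) x) =
      ((EtDesc.pullSh (pullback.snd f f)).obj ((EtDesc.pullSh f).obj F)).obj.map (σ f V).op
        (se (pullback.snd f f) ((EtDesc.pullSh f).obj F) ((EtCoh.bc f).obj V) x) :=
  trans_transfer e₁ e₂ _ _ _ y _ h₁ h₂

theorem canIso_eta (F : EtDesc.Sh X) (V : X.Etale) (s : F.obj.obj (op V)) :
    (EtDesc.canIso f F).hom.hom.app (op ((EtCoh.bc (pullback.fst f f)).obj ((EtCoh.bc f).obj V)))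
      (se (pullback.fst f f) ((EtDesc.pullSh f).obj F) ((EtCoh.bc f).obj V) (se f F V s)) =
      ((EtDesc.pullSh (pullback.snd f f)).obj ((EtDesc.pullSh f).obj F)).obj.map (σ f V).op
        (se (pullback.snd f f) ((EtDesc.pullSh f).obj F) ((EtCoh.bc f).obj V) (se f F V s)) := by
  rw [canIso_def]
  exact abstract_eta f F V _ _ (se f F V s) (se (pullback.fst f f ≫ f) F V s)
    (pullVia_eta (pullback.fst f f) f (b := pullback.fst f f ≫ f) rfl F V s)
    (pullVia_inv_eta (pullback.snd f f) f (b := pullback.fst f f ≫ f) pullback.condition.symm F V s)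

theorem pullVia_nat {T S : Scheme.{u}} (g : T ⟶ S) (a : S ⟶ X) (b : T ⟶ X) (w : g ≫ a = b) {F G : EtDesc.Sh X}
    (α : F ⟶ G) : (EtDesc.pullVia g a b w F).hom ≫ (EtDesc.pullSh b).map α =
      (EtDesc.pullSh g).map ((EtDesc.pullSh a).map α) ≫ (EtDesc.pullVia g a b w G).hom := by
  rw [EtDesc.pullVia.eq_1, EtDesc.pullVia.eq_1, Iso.app_hom, Iso.app_hom]
  exact (((EtDesc.pullCompSh g a).symm ≪≫ EtDesc.pullCongrSh w).hom.naturality α).symm

theorem trans_nat {C : Type*} [Category C] {P P' Q Q' M M' : C} (e₁ : P ≅ M) (e₂ : Q ≅ M) (e₁' : P' ≅ M')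
    (e₂' : Q' ≅ M') (p : P ⟶ P') (q : Q ⟶ Q') (m : M ⟶ M') (h₁ : e₁.hom ≫ m = p ≫ e₁'.hom)
    (h₂ : e₂.hom ≫ m = q ≫ e₂'.hom) : (e₁ ≪≫ e₂.symm).hom ≫ q = p ≫ (e₁' ≪≫ e₂'.symm).hom := by
  have h3 : e₂.inv ≫ q = m ≫ e₂'.inv := by rw [Iso.inv_comp_eq, ← Category.assoc, Iso.eq_comp_inv]; exact h₂.symm
  simp [Iso.trans_hom, h3, reassoc_of% h₁]

theorem canIso_naturality {F G : EtDesc.Sh X} (a : F ⟶ G) :
    (EtDesc.canIso f F).hom ≫ (EtDesc.pullSh (pullback.snd f f)).map ((EtDesc.pullSh f).map a) =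
      (EtDesc.pullSh (pullback.fst f f)).map ((EtDesc.pullSh f).map a) ≫ (EtDesc.canIso f G).hom := by
  rw [canIso_def, canIso_def]
  exact trans_nat _ _ _ _ _ _ _ (pullVia_nat _ _ _ rfl a) (pullVia_nat _ _ _ pullback.condition.symm a)

end Groth.L27.EtSite.DescCan
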