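import Groth.Agent.L27.EtSite.EtaLocal
import Groth.Prelude.Def_SGA4b

/-! # The canonical descent datum on sections -/

universe u

open CategoryTheory CategoryTheory.Limits AlgebraicGeometry Opposite

set_option backward.isDefEq.respectTransparency.types false
set_option linter.style.haveILetI false

namespace Groth.L27.EtSite.DescCan

/-- Pullback of sections of sheaves of sets. -/
noncomputable abbrev se {T S : Scheme.{u}} (g : T ⟶ S) (G : EtDesc.Sh S) (V : S.Etale) :
    G.obj.obj (op V) ⟶ ((EtDesc.pullSh g).obj G).obj.obj (op ((EtCoh.bc g).obj V)) :=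
  ((EtDesc.adjSh g).unit.app G).hom.app (op V)

theorem map_map {C : Type*} [Category C] (P : Cᵒᵖ ⥤ Type (u + 1)) {U U' U'' : C} (i : U'' ⟶ U') (j : U' ⟶ U)
    {k : U'' ⟶ U} (h : i ≫ j = k) (x : P.obj (op U)) : P.map i.op (P.map j.op x) = P.map k.op x := by
  subst h
  rw [op_comp, Functor.map_comp, ConcreteCategory.comp_apply]

theorem map_id' {C : Type*} [Category C] (P : Cᵒᵖ ⥤ Type (u + 1)) {U : C} (x : P.obj (op U)) :
    P.map (𝟙 U).op x = x := by
  rw [op_id, CategoryTheory.Functor.map_id]; rfl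

section Abstract

variable {C : Type*} [Category C] {J : GrothendieckTopology C} {P Q M : Sheaf J (Type (u + 1))}

theorem inv_transfer (e : P ≅ Q) {U U' : C} (i : U' ⟶ U) (j : U ⟶ U') (hij : i ≫ j = 𝟙 U')
    (x : P.obj.obj (op U)) (y : Q.obj.obj (op U')) (h : e.hom.hom.app (op U) x = Q.obj.map j.op y) :
    e.inv.hom.app (op U') y = P.obj.map i.op x := by
  have h' : Q.obj.map i.op (e.hom.hom.app (op U) x) = y :=
    (congrArg (Q.obj.map i.op) h).trans ((map_map _ _ _ hij _).trans (map_id' _ _))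
  rw [← h']
  refine (NatTrans.naturality_apply e.inv.hom i.op _).trans (congrArg (P.obj.map i.op) ?_)
  exact congrArg (fun φ => φ.hom.app (op U) x) e.hom_inv_id

theorem trans_transfer (e₁ : P ≅ M) (e₂ : Q ≅ M) {U U' U'' : C} (k : U ⟶ U') (k' : U' ⟶ U'')
    (x : P.obj.obj (op U)) (y : M.obj.obj (op U')) (z : Q.obj.obj (op U''))
    (h₁ : e₁.hom.hom.app (op U) x = M.obj.map k.op y) (h₂ : e₂.inv.hom.app (op U') y = Q.obj.map k'.op z) :
    (e₁ ≪≫ e₂.symm).hom.hom.app (op U) x = Q.obj.map (k ≫ k').op z :=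
  ((congrArg (e₂.inv.hom.app (op U)) h₁).trans ((NatTrans.naturality_apply e₂.inv.hom k.op y).trans
    ((congrArg (Q.obj.map k.op) h₂).trans (map_map _ _ _ rfl _))))

end Abstract

section Comp

variable {T S X : Scheme.{u}} (g : T ⟶ S) (a : S ⟶ X) {b : T ⟶ X}

theorem hom_ext {V : X.Etale} {R : T.Etale} {k k' : R ⟶ (EtCoh.bc g).obj ((EtCoh.bc a).obj V)}
    (h : k.left ≫ pullback.fst ((EtCoh.bc a).obj V).hom g ≫ pullback.fst V.hom a =
      k'.left ≫ pullback.fst ((EtCoh.bc a).obj V).hom g ≫ pullback.fst V.hom a) : k = k' := by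
  have e : k.left ≫ pullback.snd ((EtCoh.bc a).obj V).hom g =
      k'.left ≫ pullback.snd ((EtCoh.bc a).obj V).hom g :=
    (MorphismProperty.Over.w k).trans (MorphismProperty.Over.w k').symm
  refine MorphismProperty.Over.Hom.ext (pullback.hom_ext (pullback.hom_ext ?_ ?_) e)
  · exact (Category.assoc _ _ _).trans (h.trans (Category.assoc _ _ _).symm)
  · exact (Category.assoc _ _ _).trans ((congrArg (k.left ≫ ·) pullback.condition).trans
      (((Category.assoc _ _ _).symm.trans ((congrArg (· ≫ g) e).trans (Category.assoc _ _ _))).trans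
        ((congrArg (k'.left ≫ ·) pullback.condition).symm.trans (Category.assoc _ _ _).symm)))

/-- `T ×_S (S ×_X V) ⟶ T ×_X V`. -/
noncomputable def cmp (w : g ≫ a = b) (V : X.Etale) :
    (EtCoh.bc g).obj ((EtCoh.bc a).obj V) ⟶ (EtCoh.bc b).obj V :=
  MorphismProperty.Over.homMk (pullback.lift (pullback.fst (pullback.snd V.hom a) g ≫ pullback.fst V.hom a)
    (pullback.snd (pullback.snd V.hom a) g)
    ((Category.assoc _ _ _).trans ((congrArg (_ ≫ ·) pullback.condition).trans ((Category.assoc _ _ _).symm.trans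
      ((congrArg (· ≫ a) pullback.condition).trans ((Category.assoc _ _ _).trans (congrArg (_ ≫ ·) w)))))))
    (pullback.lift_snd _ _ _)

/-- `T ×_X V ⟶ T ×_S (S ×_X V)`. -/
noncomputable def cmpInv (w : g ≫ a = b) (V : X.Etale) :
    (EtCoh.bc b).obj V ⟶ (EtCoh.bc g).obj ((EtCoh.bc a).obj V) :=
  MorphismProperty.Over.homMk (pullback.lift (pullback.lift (pullback.fst V.hom b) (pullback.snd V.hom b ≫ g)
    (pullback.condition.trans ((congrArg (_ ≫ ·) w.symm).trans (Category.assoc _ _ _).symm)))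
    (pullback.snd V.hom b) (pullback.lift_snd _ _ _))
    (pullback.lift_snd _ _ _)

theorem cmp_fst (w : g ≫ a = b) (V : X.Etale) :
    (cmp g a w V).left ≫ pullback.fst V.hom b =
      pullback.fst (pullback.snd V.hom a) g ≫ pullback.fst V.hom a :=
  pullback.lift_fst _ _ _

theorem cmpInv_fst (w : g ≫ a = b) (V : X.Etale) :
    (cmpInv g a w V).left ≫ pullback.fst (pullback.snd V.hom a) g ≫ pullback.fst V.hom a =
      pullback.fst V.hom b :=
  (Category.assoc _ _ _).symm.trans ((congrArg (· ≫ pullback.fst V.hom a) (pullback.lift_fst _ _ _)).trans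
    (pullback.lift_fst _ _ _))

theorem cmpInv_cmp (w : g ≫ a = b) (V : X.Etale) : cmpInv g a w V ≫ cmp g a w V = 𝟙 _ := by
  refine MorphismProperty.Over.Hom.ext (pullback.hom_ext ?_ ?_)
  · exact ((Category.assoc _ _ _).trans (congrArg (_ ≫ ·) (cmp_fst g a w V))).trans
      ((cmpInv_fst g a w V).trans (Category.id_comp _).symm)
  · exact (MorphismProperty.Over.w (cmpInv g a w V ≫ cmp g a w V)).trans (Category.id_comp _).symm

theorem cmp_eq (V : X.Etale) :
    cmp g a (b := g ≫ a) rfl V =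
      ((MorphismProperty.Over.pullbackComp (P := EtCoh.etaleMP) (Q := ⊤) g a).inv.app V) := by
  refine MorphismProperty.Over.Hom.ext (pullback.hom_ext ?_ ?_)
  · refine (cmp_fst g a rfl V).trans ?_
    rw [MorphismProperty.Over.pullbackComp_inv_app_left]
    simp
    exact (pullbackLeftPullbackSndIso_hom_fst V.hom a g).symm
  · exact (MorphismProperty.Over.w (cmp g a (b := g ≫ a) rfl V)).trans
      (MorphismProperty.Over.w ((MorphismProperty.Over.pullbackComp (P := EtCoh.etaleMP) (Q := ⊤) g a).inv.app V)).symm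

theorem pullVia_eta (w : g ≫ a = b) (F : EtDesc.Sh X) (V : X.Etale) (s : F.obj.obj (op V)) :
    (EtDesc.pullVia g a b w F).hom.hom.app (op ((EtCoh.bc g).obj ((EtCoh.bc a).obj V)))
      (se g ((EtDesc.pullSh a).obj F) ((EtCoh.bc a).obj V) (se a F V s)) =
      ((EtDesc.pullSh b).obj F).obj.map (cmp g a w V).op (se b F V s) := by
  subst w
  let c := (MorphismProperty.Over.pullbackComp (P := EtCoh.etaleMP) (Q := ⊤) g a)
  let θ := (EtDesc.pullCompSh g a).app F
  have h1 := congrArg (fun φ => φ.hom.app (op V) s)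
    (Adjunction.unit_leftAdjointUniq_hom_app (EtDesc.adjSh (g ≫ a))
      (((EtDesc.adjSh a).comp (EtDesc.adjSh g)).ofNatIsoRight (EtDesc.pushCompSh a g)) F)
  have h2 : θ.hom.hom.app (op ((EtCoh.bc (g ≫ a)).obj V)) (se (g ≫ a) F V s) =
      ((EtDesc.pullSh g).obj ((EtDesc.pullSh a).obj F)).obj.map (c.hom.app V).op
        (se g ((EtDesc.pullSh a).obj F) ((EtCoh.bc a).obj V) (se a F V s)) := by
    refine Eq.trans h1 ?_
    rw [← Adjunction.homEquiv_id, Adjunction.homEquiv_ofNatIsoRight_apply, Adjunction.homEquiv_id,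
      Adjunction.comp_unit_app]
    rfl
  have h3 : θ.inv.hom.app (op ((EtCoh.bc g).obj ((EtCoh.bc a).obj V)))
      (((EtDesc.pullSh g).obj ((EtDesc.pullSh a).obj F)).obj.map (c.inv.app V).op (θ.hom.hom.app (op ((EtCoh.bc (g ≫ a)).obj V))
        (se (g ≫ a) F V s))) = ((EtDesc.pullSh (g ≫ a)).obj F).obj.map (c.inv.app V).op (se (g ≫ a) F V s) := by
    refine (NatTrans.naturality_apply θ.inv.hom (c.inv.app V).op _).trans (congrArg _ ?_)
    exact congrArg (fun φ => φ.hom.app (op ((EtCoh.bc (g ≫ a)).obj V)) (se (g ≫ a) F V s)) θ.hom_inv_id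
  rw [cmp_eq]
  refine Eq.trans ?_ ((congrArg (θ.inv.hom.app _) ((congrArg (((EtDesc.pullSh g).obj ((EtDesc.pullSh a).obj F)).obj.map (c.inv.app V).op) h2).trans
    ((map_map _ _ _ (c.inv_hom_id_app V) _).trans (map_id' _ _)))).symm.trans h3)
  have hv : (EtDesc.pullVia g a (g ≫ a) rfl F).hom = θ.inv := by
    simp [EtDesc.pullVia, EtDesc.pullCongrSh, θ]
  exact congrArg (fun φ => φ.hom.app (op ((EtCoh.bc g).obj ((EtCoh.bc a).obj V)))
    (se g ((EtDesc.pullSh a).obj F) ((EtCoh.bc a).obj V) (se a F V s))) hv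

end Comp

end Groth.L27.EtSite.DescCan
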