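import Groth.Agent.L27.EtSite.DescWrap

/-! # Descent of sections along universally submersive morphisms -/

universe u

open CategoryTheory CategoryTheory.Limits AlgebraicGeometry TopologicalSpace Opposite

set_option backward.isDefEq.respectTransparency.types false
set_option linter.style.haveILetI false

namespace Groth.L27.EtSite.DescSections

open DescCan (se σ σ_fst map_map)

variable {X' X : Scheme.{u}} (f : X' ⟶ X)

theorem isQuotientMap_fst (hf : EtDesc.IsUnivSubmersive f) (W : X.Etale) :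
    Topology.IsQuotientMap (pullback.fst W.hom f).base := by
  have e : pullback.fst W.hom f = (pullbackSymmetry W.hom f).hom ≫ pullback.snd f W.hom :=
    (pullbackSymmetry_hom_comp_snd _ _).symm
  rw [e]
  exact (hf _ W.hom).2.comp (pullbackSymmetry W.hom f).hom.homeomorph.isQuotientMap

theorem surjective_of_univSubmersive (hf : EtDesc.IsUnivSubmersive f) : Surjective f := ⟨fun x => by
  obtain ⟨z, hz⟩ := (hf X (𝟙 X)).1 x
  exact ⟨pullback.fst f (𝟙 X) z, (Scheme.Hom.comp_apply _ _ _).symm.trans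
    ((congrArg (fun k : pullback f (𝟙 X) ⟶ X => k.base z) (pullback.condition.trans (Category.comp_id _))).trans hz)⟩⟩

/-- Two points of `X' ×_X W` over the same point of `W` give a point of `X'' ×_X W`. -/
theorem exists_point {W : X.Etale} (z₁ z₂ : ((EtCoh.bc f).obj W).left)
    (h : pullback.fst W.hom f z₁ = pullback.fst W.hom f z₂) :
    ∃ ρ : ((EtCoh.bc (pullback.fst f f)).obj ((EtCoh.bc f).obj W)).left,
      pullback.fst ((EtCoh.bc f).obj W).hom (pullback.fst f f) ρ = z₁ ∧
      pullback.fst ((EtCoh.bc f).obj W).hom (pullback.snd f f) ((σ f W).left ρ) = z₂ := by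
  let π := pullback.fst W.hom f
  obtain ⟨z, hz₁, hz₂⟩ := Scheme.Pullback.exists_preimage_pullback (f := π) (g := π) z₁ z₂ h
  let k := pullback.lift (pullback.fst π π ≫ pullback.snd W.hom f) (pullback.snd π π ≫ pullback.snd W.hom f)
    (f := f) (g := f) (by
      simp only [Category.assoc, ← pullback.condition]
      simp only [← Category.assoc]
      exact congrArg (· ≫ W.hom) (pullback.condition (f := π) (g := π)))
  let L : pullback π π ⟶ ((EtCoh.bc (pullback.fst f f)).obj ((EtCoh.bc f).obj W)).left :=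
    pullback.lift (pullback.fst π π) k (pullback.lift_fst _ _ _).symm
  have hL : L ≫ pullback.fst ((EtCoh.bc f).obj W).hom (pullback.fst f f) = pullback.fst π π := pullback.lift_fst _ _ _
  have hL' : L ≫ (σ f W).left ≫ pullback.fst ((EtCoh.bc f).obj W).hom (pullback.snd f f) = pullback.snd π π := by
    refine pullback.hom_ext ?_ ?_
    · refine (Category.assoc _ _ _).trans ((congrArg (L ≫ ·) ((Category.assoc _ _ _).trans (σ_fst f W))).trans ?_)
      exact ((Category.assoc _ _ _).symm.trans (congrArg (· ≫ π) hL)).trans pullback.condition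
    · refine (Category.assoc _ _ _).trans ((congrArg (L ≫ ·) ((Category.assoc _ _ _).trans
        ((congrArg (_ ≫ ·) pullback.condition).trans ((Category.assoc _ _ _).symm.trans
          (congrArg (· ≫ pullback.snd f f) (MorphismProperty.Over.w (σ f W))))))).trans ?_)
      exact ((Category.assoc _ _ _).symm.trans (congrArg (· ≫ pullback.snd f f) (pullback.lift_snd _ _ _))).trans
        (pullback.lift_snd _ _ _)
  exact ⟨L z, ((Scheme.Hom.comp_apply _ _ _).symm.trans (congrArg (fun m : pullback π π ⟶ _ => m.base z) hL)).trans hz₁,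
    (((Scheme.Hom.comp_apply _ _ _).symm.trans ((Scheme.Hom.comp_apply _ _ _).symm.trans (congrArg (fun m : pullback π π ⟶ _ => m.base z)
      ((Category.assoc _ _ _).symm.trans hL'))))).trans hz₂⟩

variable (F : EtDesc.Sh X)

/-- The agreement of the two pullbacks of a section. -/
def Agree {V : X.Etale} (t : ((EtDesc.pullSh f).obj F).obj.obj (op ((EtCoh.bc f).obj V))) : Prop :=
  (EtDesc.canIso f F).hom.hom.app (op ((EtCoh.bc (pullback.fst f f)).obj ((EtCoh.bc f).obj V)))
      (se (pullback.fst f f) ((EtDesc.pullSh f).obj F) _ t) =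
    ((EtDesc.pullSh (pullback.snd f f)).obj ((EtDesc.pullSh f).obj F)).obj.map (σ f V).op
      (se (pullback.snd f f) ((EtDesc.pullSh f).obj F) _ t)

theorem σ_naturality {V W : X.Etale} (a : W ⟶ V) :
    (EtCoh.bc (pullback.fst f f)).map ((EtCoh.bc f).map a) ≫ σ f V =
      σ f W ≫ (EtCoh.bc (pullback.snd f f)).map ((EtCoh.bc f).map a) := by
  refine DescCan.hom_ext _ _ ?_
  have h1 := (EtCoh.isPullback_bc_map (pullback.fst f f) ((EtCoh.bc f).map a)).w
  have h2 := (EtCoh.isPullback_bc_map (pullback.snd f f) ((EtCoh.bc f).map a)).w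
  have h3 := (EtCoh.isPullback_bc_map f a).w
  refine (Category.assoc _ _ _).trans ((congrArg (_ ≫ ·) (σ_fst f V)).trans ?_)
  refine (Category.assoc _ _ _).symm.trans ((congrArg (· ≫ pullback.fst V.hom f) h1).trans ?_)
  refine (Category.assoc _ _ _).trans ((congrArg (_ ≫ ·) h3).trans ?_)
  refine (Category.assoc _ _ _).symm.trans ((congrArg (· ≫ a.left) (σ_fst f W).symm).trans ?_)
  refine Eq.trans ?_ (Category.assoc _ _ _).symm
  refine (Category.assoc _ _ _).trans (congrArg ((σ f W).left ≫ ·) ?_)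
  exact ((Category.assoc _ _ _).trans (congrArg (_ ≫ ·) h3.symm)).trans
    ((Category.assoc _ _ _).symm.trans ((congrArg (· ≫ pullback.fst V.hom f) h2.symm).trans (Category.assoc _ _ _)))

variable {F}

theorem Agree.map {V W : X.Etale} {t : ((EtDesc.pullSh f).obj F).obj.obj (op ((EtCoh.bc f).obj V))}
    (h : Agree f F t) (a : W ⟶ V) :
    Agree f F (((EtDesc.pullSh f).obj F).obj.map ((EtCoh.bc f).map a).op t) := by
  unfold Agree
  rw [DescCan.se_naturality, DescCan.se_naturality]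
  refine (NatTrans.naturality_apply (EtDesc.canIso f F).hom.hom _ _).trans ?_
  rw [h]
  exact (map_map _ _ _ (σ_naturality f a) _).trans (map_map _ _ _ rfl _).symm

theorem agree_se {V : X.Etale} (s : F.obj.obj (op V)) : Agree f F (se f F V s) :=
  DescCan.canIso_eta f F V s

/-- The open set where `t` is the pullback of `s`. -/
def locus {V : X.Etale} (t : ((EtDesc.pullSh f).obj F).obj.obj (op ((EtCoh.bc f).obj V))) (s : F.obj.obj (op V)) :
    Set ((EtCoh.bc f).obj V).left :=
  {q | ∃ (Q : X'.Etale) (c : Q ⟶ (EtCoh.bc f).obj V) (q' : Q.left), c.left q' = q ∧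
    ((EtDesc.pullSh f).obj F).obj.map c.op t = ((EtDesc.pullSh f).obj F).obj.map c.op (se f F V s)}

theorem isOpen_locus {V : X.Etale} (t : ((EtDesc.pullSh f).obj F).obj.obj (op ((EtCoh.bc f).obj V)))
    (s : F.obj.obj (op V)) : IsOpen (locus f t s) := by
  refine isOpen_iff_forall_mem_open.2 ?_
  rintro _ ⟨Q, c, q', rfl, hc⟩
  haveI : AlgebraicGeometry.Etale c.left := etale_left c
  exact ⟨Set.range c.left, by rintro _ ⟨x, rfl⟩; exact ⟨Q, c, x, rfl, hc⟩, c.left.isOpenMap.isOpen_range, q', rfl⟩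

theorem transfer {C : Type*} [Category C] {J : GrothendieckTopology C} {P Q : Sheaf J (Type (u + 1))} (φ : P ⟶ Q)
    {U U' R : C} (j : R ⟶ U) (σ : U ⟶ U') (x : P.obj.obj (op U)) (y : Q.obj.obj (op U'))
    (h : φ.hom.app (op U) x = Q.obj.map σ.op y) {m : R ⟶ U'} (hm : j ≫ σ = m) :
    φ.hom.app (op R) (P.obj.map j.op x) = Q.obj.map m.op y :=
  (NatTrans.naturality_apply φ.hom j.op x).trans ((congrArg (Q.obj.map j.op) h).trans (map_map _ _ _ hm _))

theorem map_eq_of_eq {T S : Scheme.{u}} (m : T ⟶ S) (G : EtDesc.Sh S) {U Q : S.Etale} (c : Q ⟶ U)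
    {R : T.Etale} (i : R ⟶ (EtCoh.bc m).obj Q) {x y : G.obj.obj (op U)} (h : G.obj.map c.op x = G.obj.map c.op y) :
    ((EtDesc.pullSh m).obj G).obj.map (i ≫ (EtCoh.bc m).map c).op (se m G U x) =
      ((EtDesc.pullSh m).obj G).obj.map (i ≫ (EtCoh.bc m).map c).op (se m G U y) := by
  rw [← map_map _ i _ rfl, ← map_map _ i _ rfl, ← DescCan.se_naturality, ← DescCan.se_naturality, h]

theorem eq_of_agree {W : X.Etale} {x y : ((EtDesc.pullSh f).obj F).obj.obj (op ((EtCoh.bc f).obj W))}
    (hx : Agree f F x) (hy : Agree f F y) {Q : X'.Etale} (c : Q ⟶ (EtCoh.bc f).obj W)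
    (h : ((EtDesc.pullSh f).obj F).obj.map c.op x = ((EtDesc.pullSh f).obj F).obj.map c.op y)
    {R : (EtDesc.X2 f).Etale} (i : R ⟶ (EtCoh.bc (pullback.fst f f)).obj Q)
    (m : R ⟶ (EtCoh.bc (pullback.snd f f)).obj ((EtCoh.bc f).obj W))
    (hm : (i ≫ (EtCoh.bc (pullback.fst f f)).map c) ≫ σ f W = m) :
    ((EtDesc.pullSh (pullback.snd f f)).obj ((EtDesc.pullSh f).obj F)).obj.map m.op
        (se (pullback.snd f f) ((EtDesc.pullSh f).obj F) _ y) =
      ((EtDesc.pullSh (pullback.snd f f)).obj ((EtDesc.pullSh f).obj F)).obj.map m.op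
        (se (pullback.snd f f) ((EtDesc.pullSh f).obj F) _ x) := by
  have e := map_eq_of_eq (pullback.fst f f) ((EtDesc.pullSh f).obj F) c i h
  unfold Agree at hx hy
  generalize EtDesc.canIso f F = φ at hx hy
  exact (transfer φ.hom _ _ _ _ hy hm).symm.trans
    ((congrArg (φ.hom.hom.app (op R)) e.symm).trans (transfer φ.hom _ _ _ _ hx hm))

theorem locus_saturated {V : X.Etale} {t : ((EtDesc.pullSh f).obj F).obj.obj (op ((EtCoh.bc f).obj V))}
    (ht : Agree f F t) (s : F.obj.obj (op V)) {q q' : ((EtCoh.bc f).obj V).left}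
    (h : pullback.fst V.hom f q = pullback.fst V.hom f q') (hq : q ∈ locus f t s) : q' ∈ locus f t s := by
  let P := (EtDesc.pullSh f).obj F
  obtain ⟨W, a, Q₂, d, e, r₂, s', hd, hc, he⟩ := DescCan.exists_local' f F (𝟙 ((EtCoh.bc f).obj V)) t q'
  rw [Category.comp_id] at hc
  let z₂ := e.left r₂
  have hz₂ : ((EtCoh.bc f).map a).left z₂ = q' :=
    (Scheme.Hom.comp_apply _ _ _).symm.trans
      ((congrArg (fun k : Q₂ ⟶ (EtCoh.bc f).obj V => k.left r₂) hc).trans hd)
  have hv : a.left (pullback.fst W.hom f z₂) = pullback.fst V.hom f q := by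
    rw [← EtaLocal.fst_map f a, hz₂, h]
  obtain ⟨z₁, hz₁, hz₁'⟩ := Scheme.exists_preimage_of_isPullback (EtCoh.isPullback_bc_map f a).flip
    (pullback.fst W.hom f z₂) q hv
  -- near `z₁` the section is `a^* s`
  obtain ⟨Q, c, r, hr, hcr⟩ := hq
  obtain ⟨Q₁, j, c₁, r₁, -, hr₁, hjc⟩ := exists_common c ((EtCoh.bc f).map a) r z₁ (hr.trans hz₁'.symm)
  let t' := P.obj.map ((EtCoh.bc f).map a).op t
  have h₁ : P.obj.map c₁.op t' = P.obj.map c₁.op (se f F W (F.obj.map a.op s)) := by
    rw [DescCan.se_naturality]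
    refine (map_map _ _ _ hjc.symm _).trans (((map_map _ _ _ rfl _).symm.trans (congrArg _ hcr)).trans ?_)
    exact (map_map _ _ _ hjc _).trans (map_map _ _ _ rfl _).symm
  have h₂ : P.obj.map e.op t' = P.obj.map e.op (se f F W s') := (map_map _ _ _ hc _).trans he
  -- compare on the double fibre product
  let p₁ := pullback.fst f f
  let p₂ := pullback.snd f f
  obtain ⟨ρ, hρ₁, hρ₂⟩ := exists_point f z₁ z₂ hz₁
  obtain ⟨ρ₁, hρ₁', hρ₁''⟩ := Scheme.exists_preimage_of_isPullback (EtCoh.isPullback_bc_map p₁ c₁).flip r₁ ρ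
    (hr₁.trans hρ₁.symm)
  obtain ⟨ρ₂, hρ₂', hρ₂''⟩ := Scheme.exists_preimage_of_isPullback (EtCoh.isPullback_bc_map p₂ e).flip r₂
    ((σ f W).left ρ) hρ₂.symm
  obtain ⟨R, i, k, ρ', -, hk, hik⟩ := exists_common ((EtCoh.bc p₁).map c₁ ≫ σ f W) ((EtCoh.bc p₂).map e) ρ₁ ρ₂
    (((Scheme.Hom.comp_apply _ _ _).trans (congrArg (σ f W).left hρ₁'')).trans hρ₂''.symm)
  have e₁ := eq_of_agree f (ht.map f a) (agree_se f (F.obj.map a.op s)) c₁ h₁ i (k ≫ (EtCoh.bc p₂).map e)
    ((Category.assoc _ _ _).symm.trans ((Category.assoc _ _ _).trans hik))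
  have e₂ := map_eq_of_eq p₂ P e k h₂
  obtain ⟨B, b, v, hbv, hb⟩ := DescCan.eq_near' p₂ P (k ≫ (EtCoh.bc p₂).map e) ρ' _ _ (e₁.trans e₂)
  have hv' : pullback.fst ((EtCoh.bc f).obj W).hom p₂ ((k ≫ (EtCoh.bc p₂).map e).left ρ') = z₂ := by
    refine Eq.trans ?_ hρ₂
    refine congrArg _ ?_
    exact (Scheme.Hom.comp_apply _ _ _).trans ((congrArg _ hk).trans hρ₂'')
  obtain ⟨W', b', w, hbw, hb'⟩ := DescCan.eq_near' f F b v _ _ hb
  have hw : b'.left w = pullback.fst W.hom f z₂ := hbw.trans (congrArg (pullback.fst W.hom f) (hbv.trans hv'))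
  obtain ⟨z₃, -, hz₃⟩ := Scheme.exists_preimage_of_isPullback (EtCoh.isPullback_bc_map f b').flip w z₂ hw
  obtain ⟨Q₃, l, l', r₃, hl, -, hll⟩ := exists_common e ((EtCoh.bc f).map b') r₂ z₃ hz₃.symm
  refine ⟨Q₃, (l ≫ e) ≫ (EtCoh.bc f).map a, r₃, ?_, ?_⟩
  · exact (Scheme.Hom.comp_apply _ _ _).trans ((congrArg ((EtCoh.bc f).map a).left
      ((Scheme.Hom.comp_apply _ _ _).trans (congrArg e.left hl))).trans hz₂)
  · rw [← map_map P.obj (l ≫ e) _ rfl, ← map_map P.obj (l ≫ e) _ rfl, ← DescCan.se_naturality]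
    refine ((map_map _ _ _ rfl _).symm.trans ((congrArg _ h₂).trans (map_map _ _ _ rfl _))).trans ?_
    rw [hll, ← map_map P.obj l' _ rfl, ← map_map P.obj l' _ rfl, ← DescCan.se_naturality, ← DescCan.se_naturality, hb']

theorem injective_se (hf : EtDesc.IsUnivSubmersive f) (V : X.Etale) : Function.Injective (se f F V) :=
  haveI := surjective_of_univSubmersive f hf
  EtaLocal.injective_eta f F V

/-- A section whose two pullbacks agree descends. -/
theorem exists_of_agree (hf : EtDesc.IsUnivSubmersive f) {V : X.Etale}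
    {t : ((EtDesc.pullSh f).obj F).obj.obj (op ((EtCoh.bc f).obj V))} (ht : Agree f F t) :
    ∃ s, se f F V s = t := by
  let P := (EtDesc.pullSh f).obj F
  let Sv : Sieve V :=
    { arrows := fun W a => ∃ s : F.obj.obj (op W), se f F W s = P.obj.map ((EtCoh.bc f).map a).op t
      downward_closed := fun {W W' a} ⟨s, hs⟩ b => ⟨F.obj.map b.op s, by
        rw [DescCan.se_naturality, hs]
        exact map_map _ _ _ (CategoryTheory.Functor.map_comp _ b a).symm _⟩ }
  have hcov : Sv ∈ X.smallEtaleTopology V := by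
    refine (mem_topology_iff Sv).2 fun x => ?_
    obtain ⟨q, hq⟩ := (isQuotientMap_fst f hf V).surjective x
    obtain ⟨W, a, Q, d, e, r, s, hd, hc, he⟩ := DescCan.exists_local' f F (𝟙 ((EtCoh.bc f).obj V)) t q
    rw [Category.comp_id] at hc
    let t' := P.obj.map ((EtCoh.bc f).map a).op t
    have hz : e.left r ∈ locus f t' s := ⟨Q, e, r, rfl, (map_map _ _ _ hc _).trans he⟩
    let π := pullback.fst W.hom f
    have hsat : π.base ⁻¹' (π.base '' locus f t' s) = locus f t' s :=
      Set.Subset.antisymm (fun q₁ ⟨q₀, hq₀, e'⟩ => locus_saturated f (ht.map f a) s e' hq₀)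
        (Set.subset_preimage_image _ _)
    let O : W.left.Opens := ⟨π.base '' locus f t' s,
      (isQuotientMap_fst f hf W).isOpen_preimage.1 (hsat.symm ▸ isOpen_locus f t' s)⟩
    haveI : AlgebraicGeometry.Etale W.hom := W.prop
    let W₀ : X.Etale := Scheme.Etale.mk (O.ι ≫ W.hom)
    let ι₀ : W₀ ⟶ W := MorphismProperty.Over.homMk O.ι rfl
    refine ⟨W₀, ι₀ ≫ a, ⟨π (e.left r), ⟨_, hz, rfl⟩⟩, ⟨F.obj.map ι₀.op s, ?_⟩, ?_⟩
    · refine ext_of_locally P fun q₀ => ?_
      have hq₀ : ((EtCoh.bc f).map ι₀).left q₀ ∈ locus f t' s := by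
        rw [← hsat]
        show π _ ∈ (O : Set W.left)
        rw [show π (((EtCoh.bc f).map ι₀).left q₀) = _ from EtaLocal.fst_map f ι₀ q₀]
        exact (pullback.fst W₀.hom f q₀).2
      obtain ⟨Q', c, r', hr', hcr⟩ := hq₀
      obtain ⟨Q'', i, j, r'', -, hj, hij⟩ := exists_common c ((EtCoh.bc f).map ι₀) r' q₀ hr'
      refine ⟨Q'', j, r'', hj, ?_⟩
      rw [DescCan.se_naturality]
      refine ((map_map _ _ _ hij.symm _).trans ((map_map _ _ _ rfl _).symm.trans (congrArg _ hcr.symm))).trans ?_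
      refine (congrArg (P.obj.map i.op) (map_map _ _ _ rfl _)).trans ((map_map _ _ _ rfl _).trans ?_)
      exact ((map_map _ _ _ (by rw [CategoryTheory.Functor.map_comp, ← Category.assoc i, hij, Category.assoc]) _)).symm
    · refine (Scheme.Hom.comp_apply _ _ _).trans ?_
      refine (EtaLocal.fst_map f a (e.left r)).symm.trans ((congrArg (pullback.fst V.hom f) ?_).trans hq)
      exact (Scheme.Hom.comp_apply _ _ _).symm.trans
        ((congrArg (fun k : Q ⟶ (EtCoh.bc f).obj V => k.left r) hc).trans hd)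
  have hF := ((isSheaf_iff_isSheaf_of_type _ _).1 F.property) Sv hcov
  let fam : Presieve.FamilyOfElements F.obj Sv.arrows := fun W a h => h.choose
  have hfam : fam.Compatible := by
    intro W₁ W₂ R g₁ g₂ a₁ a₂ h₁ h₂ e
    refine injective_se f hf R ?_
    show se f F R (F.obj.map g₁.op h₁.choose) = se f F R (F.obj.map g₂.op h₂.choose)
    rw [DescCan.se_naturality, DescCan.se_naturality, h₁.choose_spec, h₂.choose_spec,
      map_map _ _ _ (CategoryTheory.Functor.map_comp _ g₁ a₁).symm,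
      map_map _ _ _ (CategoryTheory.Functor.map_comp _ g₂ a₂).symm, e]
  obtain ⟨s, hs, -⟩ := hF fam hfam
  refine ⟨s, ext_of_locally P fun q => ?_⟩
  obtain ⟨W, a, w, ha, hw⟩ := (mem_topology_iff Sv).1 hcov (pullback.fst V.hom f q)
  obtain ⟨r, -, hr⟩ := Scheme.exists_preimage_of_isPullback (EtCoh.isPullback_bc_map f a).flip w q hw
  refine ⟨_, (EtCoh.bc f).map a, r, hr, ?_⟩
  rw [← DescCan.se_naturality, show F.obj.map a.op s = ha.choose from hs a ha, ha.choose_spec]

end Groth.L27.EtSite.DescSections
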