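import Groth.Agent.L27.EtSite.DescCan
/-! # Local form of sections for sheaves of sets -/

universe u
open CategoryTheory CategoryTheory.Limits AlgebraicGeometry Opposite
set_option backward.isDefEq.respectTransparency.types false
namespace Groth.L27.EtSite.DescCan
variable {T S : Scheme.{u}} (m : T ⟶ S) (G : EtDesc.Sh S)
theorem exists_local' {V : S.Etale} {Q : T.Etale} (c : Q ⟶ (EtCoh.bc m).obj V)
    (t : ((EtDesc.pullSh m).obj G).obj.obj (op Q)) (q : Q.left) :
    ∃ (W : S.Etale) (a : W ⟶ V) (Q' : T.Etale) (d : Q' ⟶ Q) (e : Q' ⟶ (EtCoh.bc m).obj W) (q' : Q'.left)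
      (s : G.obj.obj (op W)), d.left q' = q ∧ e ≫ (EtCoh.bc m).map a = d ≫ c ∧
        ((EtDesc.pullSh m).obj G).obj.map d.op t = ((EtDesc.pullSh m).obj G).obj.map e.op (se m G W s) :=
  EtaLocal.exists_local m G c t q
theorem eq_near' {V : S.Etale} {Q : T.Etale} (c : Q ⟶ (EtCoh.bc m).obj V) (q : Q.left)
    (σ σ' : G.obj.obj (op V))
    (h : ((EtDesc.pullSh m).obj G).obj.map c.op (se m G V σ) = ((EtDesc.pullSh m).obj G).obj.map c.op (se m G V σ')) :
    ∃ (V' : S.Etale) (b : V' ⟶ V) (v : V'.left),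
      b.left v = pullback.fst V.hom m (c.left q) ∧ G.obj.map b.op σ = G.obj.map b.op σ' :=
  EtaLocal.eq_near m G c q σ σ' h
theorem se_naturality {U U' : S.Etale} (c : U' ⟶ U) (s : G.obj.obj (op U)) :
    se m G U' (G.obj.map c.op s) = ((EtDesc.pullSh m).obj G).obj.map ((EtCoh.bc m).map c).op (se m G U s) :=
  NatTrans.naturality_apply ((EtDesc.adjSh m).unit.app G).hom c.op s
end Groth.L27.EtSite.DescCan
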