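import Groth.Agent.L27.EtSite.SplitCover
import Groth.Agent.L23.EtaleAlgDescent
import Mathlib.RingTheory.QuasiFinite.Basic
import Mathlib.RingTheory.Finiteness.FinitePresentationLocal

/-!
# Etale algebras over integral algebras have finite pieces after etale extension of the base
-/

universe u

open CategoryTheory CategoryTheory.Limits TensorProduct IsLocalRing

set_option linter.style.haveILetI false

namespace Groth.L27.EtSite

/-- A prime of a tensor product over given primes of the factors. -/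
theorem exists_prime_tensor {R R' C : Type u} [CommRing R] [CommRing R'] [CommRing C] [Algebra R R']
    [Algebra R C] (q : PrimeSpectrum R') (x : PrimeSpectrum C)
    (h : PrimeSpectrum.comap (algebraMap R R') q = PrimeSpectrum.comap (algebraMap R C) x) :
    ∃ P : PrimeSpectrum (R' ⊗[R] C), PrimeSpectrum.comap (algebraMap R' (R' ⊗[R] C)) P = q ∧
      PrimeSpectrum.comap (Algebra.TensorProduct.includeRight : C →ₐ[R] R' ⊗[R] C).toRingHom P = x := by
  let k := x.asIdeal.ResidueField
  obtain ⟨P, hP⟩ := Groth.L23.mem_range_comap_baseChange (C := k) q ⟨IsLocalRing.closedPoint k, by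
    rw [h, IsScalarTower.algebraMap_eq R C k, PrimeSpectrum.comap_comp_apply]
    exact congrArg _ (PrimeSpectrum.ext (by simp [k, IsLocalRing.closedPoint, IsLocalRing.maximalIdeal_eq_bot, ← RingHom.ker_eq_comap_bot, Ideal.ker_algebraMap_residueField]))⟩
  let m : R' ⊗[R] C →ₐ[R'] R' ⊗[R] k :=
    Algebra.TensorProduct.map (AlgHom.id R' R') (IsScalarTower.toAlgHom R C k)
  refine ⟨PrimeSpectrum.comap m.toRingHom P, ?_, ?_⟩
  · rw [← PrimeSpectrum.comap_comp_apply, show m.toRingHom.comp (algebraMap R' (R' ⊗[R] C)) =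
      algebraMap R' (R' ⊗[R] k) from m.comp_algebraMap, hP]
  · have e : m.toRingHom.comp (Algebra.TensorProduct.includeRight : C →ₐ[R] R' ⊗[R] C).toRingHom =
        (Algebra.TensorProduct.includeRight : k →ₐ[R] R' ⊗[R] k).toRingHom.comp (algebraMap C k) :=
      RingHom.ext fun c => by simp [m]
    rw [← PrimeSpectrum.comap_comp_apply, e, PrimeSpectrum.comap_comp_apply,
      Subsingleton.elim (PrimeSpectrum.comap _ P) (IsLocalRing.closedPoint k)]
    exact PrimeSpectrum.ext (by simp [k, IsLocalRing.closedPoint, IsLocalRing.maximalIdeal_eq_bot, ← RingHom.ker_eq_comap_bot, Ideal.ker_algebraMap_residueField])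

attribute [local instance] Algebra.TensorProduct.rightAlgebra

/-- Homs from finitely presented algebras into the base change of an ind-etale algebra descend. -/
theorem exists_stage {A B S : Type u} [CommRing A] [CommRing B] [CommRing S] [Algebra A B] [Algebra A S]
    (hind : EtPBC.IsIndEtale A S) {C : Type u} [CommRing C] [Algebra B C] [Algebra.FinitePresentation B C]
    (g : C →ₐ[B] B ⊗[A] S) :
    ∃ (A' : Type u) (_ : CommRing A') (_ : Algebra A A') (_ : Algebra.Etale A A') (φ : A' →ₐ[A] S)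
      (g' : C →ₐ[B] B ⊗[A] A'), ∀ c, Algebra.TensorProduct.map (AlgHom.id B B) φ (g' c) = g c := by
  obtain ⟨J, _, _, D, c, hc, hD, ⟨e⟩⟩ := hind
  let F : Under (CommRingCat.of A) ⥤ Under (CommRingCat.of B) :=
    CommRingCat.tensorProd (CommRingCat.of A) (CommRingCat.of B)
  haveI : PreservesColimitsOfShape J F := by
    haveI : PreservesColimitsOfShape J
        (Under.pushout (CommRingCat.ofHom (algebraMap (CommRingCat.of A) (CommRingCat.of B)))) :=
      (Under.mapPushoutAdj _).leftAdjoint_preservesColimits.preservesColimitsOfShape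
    exact preservesColimitsOfShape_of_natIso (CommRingCat.tensorProdIsoPushout _ _).symm
  let c' := (Under.forget (CommRingCat.of B)).mapCocone (F.mapCocone c)
  have hc' : IsColimit c' := isColimitOfPreserves _ (isColimitOfPreserves F hc)
  let S' : Under (CommRingCat.of A) := Under.mk (CommRingCat.ofHom (algebraMap A S))
  letI iS' : Algebra A S'.right := S'.hom.hom.toAlgebra
  let θ : S →ₐ[A] S'.right := { toRingHom := RingHom.id S, commutes' := fun _ => rfl }
  let g₂ : C →ₐ[B] B ⊗[A] S'.right := (Algebra.TensorProduct.map (AlgHom.id B B) θ).comp g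
  let g' : CommRingCat.of C ⟶ c'.pt :=
    CommRingCat.ofHom (R := C) (S := (F.obj S').right) g₂.toRingHom ≫ (F.map e.inv).right
  obtain ⟨j, qj, hq₁, hq₂⟩ := MorphismProperty.exists_hom_of_isFinitelyPresentable hc'
    (CommRingCat.isFinitelyPresentable_hom (CommRingCat.ofHom (algebraMap B C))
      (RingHom.finitePresentation_algebraMap.mpr inferInstance))
    { app := fun j => (F.obj (D.obj j)).hom
      naturality := fun i j h => by
        simp only [Functor.const_obj_obj, Functor.const_obj_map]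
        exact (Under.w (F.map (D.map h))).symm }
    g' (fun j => by
      refine (Under.w (F.map (c.ι.app j))).trans ?_
      refine ((congrArg (· ≫ (F.map e.inv).right) ?_).trans (Category.assoc _ _ _)) |> (Under.w (F.map e.inv)).symm.trans
      exact CommRingCat.hom_ext (RingHom.ext fun b => (g₂.commutes b).symm))
  letI : Algebra A (D.obj j).right := (D.obj j).hom.hom.toAlgebra
  haveI : Algebra.Etale A (D.obj j).right := hD j
  let φ : (D.obj j).right →ₐ[A] S :=
    { toRingHom := (c.ι.app j ≫ e.hom).right.hom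
      commutes' := fun a => congr($(Under.w (c.ι.app j ≫ e.hom)).hom a) }
  refine ⟨(D.obj j).right, inferInstance, inferInstance, inferInstance, φ,
    { toRingHom := qj.hom, commutes' := fun b => congr($(hq₁).hom b) }, fun x => ?_⟩
  have h3 : qj ≫ (F.map (c.ι.app j ≫ e.hom)).right =
      CommRingCat.ofHom (R := C) (S := (F.obj S').right) g₂.toRingHom := by
    rw [F.map_comp, Under.comp_right]
    refine ((Category.assoc _ _ _).symm.trans (congrArg (· ≫ (F.map e.hom).right) hq₂)).trans ?_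
    refine (Category.assoc _ _ _).trans ?_
    rw [← Under.comp_right, ← F.map_comp, Iso.inv_hom_id, F.map_id]
    exact Category.comp_id _
  let η : B ⊗[A] S'.right →ₐ[B] B ⊗[A] S :=
    Algebra.TensorProduct.map (AlgHom.id B B) { toRingHom := RingHom.id S, commutes' := fun _ => rfl }
  have h4 : ∀ z, Algebra.TensorProduct.map (AlgHom.id B B) φ z =
      η ((F.map (c.ι.app j ≫ e.hom)).right.hom z) := fun z => by
    induction z using TensorProduct.induction_on with
    | zero => exact (map_zero _).trans ((congrArg η (map_zero _)).trans (map_zero _)).symm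
    | tmul b a => rfl
    | add y z hy hz => exact (map_add _ _ _).trans ((congrArg₂ (· + ·) hy hz).trans
        ((congrArg η (map_add _ _ _)).trans (map_add _ _ _)).symm)
  have h5 : ∀ z, η (Algebra.TensorProduct.map (AlgHom.id B B) θ z) = z := fun z => by
    induction z using TensorProduct.induction_on with
    | zero => simp
    | tmul b a => rfl
    | add y z hy hz => simp only [map_add, hy, hz]
  exact ((h4 _).trans (congrArg η congr($(h3).hom x))).trans (h5 (g x))

theorem finitePresentation_prod (B C C' : Type u) [CommRing B] [CommRing C] [CommRing C'] [Algebra B C]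
    [Algebra B C'] [Algebra.FinitePresentation B C] [Algebra.FinitePresentation B C'] :
    Algebra.FinitePresentation B (C × C') := by
  refine Algebra.FinitePresentation.of_span_eq_top_target {(1, 0), (0, 1)} ?_ ?_
  · rw [Ideal.eq_top_iff_one, Ideal.mem_span_pair]
    exact ⟨1, 1, by ext <;> simp⟩
  · rintro i (rfl | rfl)
    · letI := (RingHom.fst C C').toAlgebra
      haveI : IsScalarTower B (C × C') C := IsScalarTower.of_algebraMap_eq fun _ => rfl
      exact .equiv ((IsLocalization.algEquiv (Submonoid.powers ((1, 0) : C × C')) _ C).symm.restrictScalars B)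
    · letI := (RingHom.snd C C').toAlgebra
      haveI : IsScalarTower B (C × C') C' := IsScalarTower.of_algebraMap_eq fun _ => rfl
      exact .equiv ((IsLocalization.algEquiv (Submonoid.powers ((0, 1) : C × C')) _ C').symm.restrictScalars B)

/-- Finite pieces of etale algebras over finite algebras. -/
theorem exists_etale_piece_finite (A B C : Type u) [CommRing A] [CommRing B] [Algebra A B]
    [Module.Finite A B] [CommRing C] [Algebra B C] [Algebra.Etale B C] (Q : PrimeSpectrum C) :
    ∃ (A' : Type u) (_ : CommRing A') (_ : Algebra A A') (_ : Algebra.Etale A A') (e : B ⊗[A] A')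
      (h : C →ₐ[B] (B ⊗[A] A') ⧸ Ideal.span ({1 - e} : Set (B ⊗[A] A')))
      (P : PrimeSpectrum ((B ⊗[A] A') ⧸ Ideal.span ({1 - e} : Set (B ⊗[A] A')))),
      IsIdempotentElem e ∧ PrimeSpectrum.comap h.toRingHom P = Q := by
  classical
  let x := PrimeSpectrum.comap (algebraMap B C) Q
  let p := PrimeSpectrum.comap (algebraMap A B) x
  let R := Localization.AtPrime p.asIdeal
  obtain ⟨S, _, _, _, _, hS⟩ := Groth.L05.Henselization.exists_isStrictHenselization R
  haveI := hS.henselian
  haveI : IsSepClosed (ResidueField S) := hS.isSepClosure.sep_closed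
  letI : Algebra A S := ((algebraMap R S).comp (algebraMap A R)).toAlgebra
  haveI : IsScalarTower A R S := IsScalarTower.of_algebraMap_eq' rfl
  have hind : EtPBC.IsIndEtale A S :=
    Groth.L27.IndEtale.trans A R S (isIndEtale_localization A p.asIdeal.primeCompl R)
      (Groth.L05.Henselization.isIndEtale_of_isStrictHenselization R S)
  haveI : Module.Finite S (B ⊗[A] S) :=
    Module.Finite.equiv (Algebra.TensorProduct.commRight A S B).toLinearEquiv
  obtain ⟨P₀, hP₀x, hP₀S⟩ := exists_prime_tensor (R := A) x (IsLocalRing.closedPoint S) (by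
    show p = _
    rw [IsScalarTower.algebraMap_eq A R S, PrimeSpectrum.comap_comp_apply, IsLocalRing.comap_closedPoint]
    exact PrimeSpectrum.ext Localization.AtPrime.under_maximalIdeal.symm)
  haveI : P₀.asIdeal.IsMaximal := by
    refine Ideal.isMaximal_of_isIntegral_of_isMaximal_comap (R := S) P₀.asIdeal ?_
    have : P₀.asIdeal.comap (algebraMap S (B ⊗[A] S)) = maximalIdeal S := congrArg PrimeSpectrum.asIdeal hP₀S
    rw [this]
    infer_instance
  obtain ⟨ι, _, es, he, hloc⟩ := Groth.L05.exists_idem_local_of_finite (A := S) (B ⊗[A] S)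
  obtain ⟨i, hi⟩ : ∃ i, es i ∉ P₀.asIdeal := by
    by_contra h
    push Not at h
    exact P₀.isPrime.ne_top ((Ideal.eq_top_iff_one _).2 (he.complete ▸ Ideal.sum_mem _ fun i _ => h i))
  let J : Ideal (B ⊗[A] S) := Ideal.span {1 - es i}
  let Di := (B ⊗[A] S) ⧸ J
  haveI := hloc i
  haveI : Module.Finite S Di := Module.Finite.of_surjective (Ideal.Quotient.mkₐ S _).toLinearMap
    Ideal.Quotient.mk_surjective
  haveI : HenselianLocalRing Di := Groth.L05.henselianLocalRing_of_finite (A := S) Di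
  have hJ : J ≤ P₀.asIdeal := by
    rw [Ideal.span_le, Set.singleton_subset_iff]
    refine (P₀.isPrime.mem_or_mem ?_).resolve_left hi
    rw [mul_sub, mul_one, (he.idem i).eq, sub_self]
    exact zero_mem _
  have hmax : maximalIdeal Di = P₀.asIdeal.map (Ideal.Quotient.mk J) :=
    (IsLocalRing.eq_maximalIdeal (Ideal.IsMaximal.map_of_surjective_of_ker_le Ideal.Quotient.mk_surjective
      (by rwa [Ideal.mk_ker]))).symm
  haveI : IsLocalHom (algebraMap S Di) := ((IsLocalRing.local_hom_TFAE _).out 0 4).mpr (by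
    have : ((maximalIdeal Di).comap (algebraMap S Di)).IsMaximal :=
      Ideal.isMaximal_comap_of_isIntegral_of_isMaximal _
    exact IsLocalRing.eq_maximalIdeal this)
  haveI : IsScalarTower S (ResidueField S) (ResidueField Di) := IsScalarTower.of_algebraMap_eq fun s => rfl
  haveI : Module.Finite S (ResidueField Di) :=
    Module.Finite.of_surjective (IsScalarTower.toAlgHom S Di (ResidueField Di)).toLinearMap residue_surjective
  haveI : Module.Finite (ResidueField S) (ResidueField Di) := Module.Finite.of_restrictScalars_finite S _ _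
  haveI : Algebra.IsAlgebraic (ResidueField S) (ResidueField Di) := Algebra.IsAlgebraic.of_finite _ _
  haveI : IsSepClosed (ResidueField Di) :=
    Algebra.IsAlgebraic.isSepClosed (F := ResidueField S) (E := ResidueField Di)
  let k := ResidueField Di
  have hxk : PrimeSpectrum.comap (algebraMap B k) (IsLocalRing.closedPoint k) = x := by
    rw [IsScalarTower.algebraMap_eq B Di k, PrimeSpectrum.comap_comp_apply]
    apply PrimeSpectrum.ext
    show ((maximalIdeal k).comap (algebraMap Di k)).comap (algebraMap B Di) = x.asIdeal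
    rw [IsLocalRing.maximalIdeal_eq_bot, ← RingHom.ker_eq_comap_bot, show RingHom.ker (algebraMap Di k) =
      maximalIdeal Di from IsLocalRing.ker_residue, hmax,
      IsScalarTower.algebraMap_eq B (B ⊗[A] S) Di, ← Ideal.comap_comap, Ideal.Quotient.algebraMap_eq,
      Ideal.comap_map_of_surjective _ Ideal.Quotient.mk_surjective, ← RingHom.ker_eq_comap_bot, Ideal.mk_ker,
      sup_eq_left.2 hJ]
    exact congrArg PrimeSpectrum.asIdeal hP₀x
  obtain ⟨n, -, hnQ⟩ := exists_prime_tensor (R := B) (IsLocalRing.closedPoint k) Q hxk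
  haveI : Module.Finite k (k ⊗[B] C) := Algebra.FormallyUnramified.finite_of_free k _
  haveI : IsArtinianRing (k ⊗[B] C) := isArtinian_of_tower k inferInstance
  haveI : n.asIdeal.IsMaximal := IsArtinianRing.isMaximal_of_isPrime n.asIdeal
  letI : Field ((k ⊗[B] C) ⧸ n.asIdeal) := Ideal.Quotient.field n.asIdeal
  let pn : k ⊗[B] C →ₐ[k] (k ⊗[B] C) ⧸ n.asIdeal := Ideal.Quotient.mkₐ k n.asIdeal
  have hsurj : Function.Surjective (algebraMap k ((k ⊗[B] C) ⧸ n.asIdeal)) := fun z => by
    obtain ⟨w, rfl⟩ := Ideal.Quotient.mk_surjective z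
    exact Groth.L05.exists_point_of_isSepClosed pn w
  let ek : k ≃ₐ[k] (k ⊗[B] C) ⧸ n.asIdeal :=
    AlgEquiv.ofBijective (Algebra.ofId _ _) ⟨(algebraMap k ((k ⊗[B] C) ⧸ n.asIdeal)).injective, hsurj⟩
  let σ : C →ₐ[B] k := ((ek.symm.toAlgHom.comp pn).restrictScalars B).comp Algebra.TensorProduct.includeRight
  have hσ : ∀ c, σ c = 0 ↔ c ∈ Q.asIdeal := fun c => by
    have : (Algebra.TensorProduct.includeRight c : k ⊗[B] C) ∈ n.asIdeal ↔ c ∈ Q.asIdeal :=
      SetLike.ext_iff.1 (congrArg PrimeSpectrum.asIdeal hnQ) c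
    rw [← this, ← Ideal.Quotient.eq_zero_iff_mem]
    exact map_eq_zero_iff ek.symm ek.symm.injective
  obtain ⟨f, hf, -⟩ := Groth.L05.existsUnique_algHom_lift_etale (R := B) (maximalIdeal Di) (S := C) σ
  -- extend `f` by the structure map on the complementary factor
  let J' : Ideal (B ⊗[A] S) := Ideal.span {es i}
  let π : (B ⊗[A] S) →ₐ[B] Di × ((B ⊗[A] S) ⧸ J') :=
    (Ideal.Quotient.mkₐ B J).prod (Ideal.Quotient.mkₐ B J')
  have hπ : Function.Bijective π := by
    refine ⟨(injective_iff_map_eq_zero _).2 fun z hz => ?_, fun ⟨a, b⟩ => ?_⟩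
    · obtain ⟨a, ha⟩ := Ideal.mem_span_singleton'.1 (Ideal.Quotient.eq_zero_iff_mem.1 (congrArg Prod.fst hz))
      obtain ⟨b, hb⟩ := Ideal.mem_span_singleton'.1 (Ideal.Quotient.eq_zero_iff_mem.1 (congrArg Prod.snd hz))
      linear_combination (-(es i)) * ha - (1 - es i) * hb - (a + b) * (he.idem i).eq
    · obtain ⟨a, rfl⟩ := Ideal.Quotient.mk_surjective a
      obtain ⟨b, rfl⟩ := Ideal.Quotient.mk_surjective b
      refine ⟨a * es i + b * (1 - es i), Prod.ext ?_ ?_⟩
      · exact (Ideal.Quotient.eq).2 (Ideal.mem_span_singleton'.2 ⟨b - a, by ring⟩)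
      · exact (Ideal.Quotient.eq).2 (Ideal.mem_span_singleton'.2 ⟨a - b, by ring⟩)
  let G : C × B →ₐ[B] B ⊗[A] S := (AlgEquiv.ofBijective π hπ).symm.toAlgHom.comp
    ((f.comp (AlgHom.fst B C B)).prod ((Algebra.ofId B _).comp (AlgHom.snd B C B)))
  haveI := finitePresentation_prod B C B
  obtain ⟨A', i1, i2, i3, φ, G', hG'⟩ := exists_stage hind G
  have hGf : ∀ c, Ideal.Quotient.mk J (G c) = f c.1 := fun c =>
    congrArg Prod.fst ((AlgEquiv.ofBijective π hπ).apply_symm_apply _)
  let e := G' (1, 0)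
  have hee : IsIdempotentElem e := IsIdempotentElem.map (show IsIdempotentElem ((1, 0) : C × B) from
    Prod.ext (one_mul 1) (mul_zero 0)) G'
  let h : C →ₐ[B] (B ⊗[A] A') ⧸ Ideal.span ({1 - e} : Set (B ⊗[A] A')) :=
    { toFun := fun c => Ideal.Quotient.mk _ (G' (c, 0))
      map_one' := (Ideal.Quotient.eq.2 (Ideal.mem_span_singleton'.2 ⟨-1, by ring⟩)).trans (map_one _)
      map_mul' := fun a b => by rw [← map_mul, ← map_mul, Prod.mk_mul_mk, mul_zero]
      map_zero' := by rw [show ((0 : C), (0 : B)) = 0 from rfl, map_zero, map_zero]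
      map_add' := fun a b => by rw [← map_add, ← map_add, Prod.mk_add_mk, add_zero]
      commutes' := fun b => by
        have h1 : ((algebraMap B C b, 0) : C × B) = algebraMap B (C × B) b * (1, 0) :=
          Prod.ext (mul_one _).symm (mul_zero _).symm
        rw [h1, map_mul, AlgHom.commutes, map_mul]
        show _ * Ideal.Quotient.mk _ e = _
        rw [show Ideal.Quotient.mk (Ideal.span ({1 - e} : Set (B ⊗[A] A'))) e = 1 from
          (Ideal.Quotient.eq.2 (Ideal.mem_span_singleton'.2 ⟨-1, by ring⟩)).trans (map_one _), mul_one]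
        rfl }
  let ψ : B ⊗[A] A' →+* Di :=
    (Ideal.Quotient.mk J).comp (Algebra.TensorProduct.map (AlgHom.id B B) φ).toRingHom
  have hψ : ∀ c, ψ (G' (c, 0)) = f c := fun c => by
    show Ideal.Quotient.mk J _ = _
    exact (congrArg _ (hG' _)).trans (hGf _)
  refine ⟨A', i1, i2, i3, e, h,
    PrimeSpectrum.comap (Ideal.Quotient.lift _ ψ fun z hz => ?_) (IsLocalRing.closedPoint Di), hee, ?_⟩
  · obtain ⟨a, rfl⟩ := Ideal.mem_span_singleton'.1 hz
    rw [map_mul, map_sub, map_one, hψ, map_one, sub_self, mul_zero]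
  · refine PrimeSpectrum.ext (Ideal.ext fun c => ?_)
    show ψ (G' (c, 0)) ∈ maximalIdeal Di ↔ _
    rw [hψ, ← Ideal.Quotient.eq_zero_iff_mem, ← hσ]
    exact Eq.congr_left (DFunLike.congr_fun hf c)

end Groth.L27.EtSite

namespace Groth.L27.EtSite

/-- Extension of a piece along an integral extension. -/
theorem exists_piece_extend {A B₁ B C₁ C A' : Type u} [CommRing A] [CommRing B₁] [CommRing B] [CommRing C₁]
    [CommRing C] [CommRing A'] [Algebra A B₁] [Algebra A B] [Algebra B₁ B] [IsScalarTower A B₁ B]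
    [Algebra A A'] [Algebra B₁ C₁] [Algebra B C] (E : B ⊗[B₁] C₁ ≃ₐ[B] C) (Q : PrimeSpectrum C)
    (e₁ : B₁ ⊗[A] A') (he₁ : IsIdempotentElem e₁)
    (h₁ : C₁ →ₐ[B₁] (B₁ ⊗[A] A') ⧸ Ideal.span ({1 - e₁} : Set (B₁ ⊗[A] A')))
    (P₁ : PrimeSpectrum ((B₁ ⊗[A] A') ⧸ Ideal.span ({1 - e₁} : Set (B₁ ⊗[A] A'))))
    (hP₁ : PrimeSpectrum.comap h₁.toRingHom P₁ = PrimeSpectrum.comap
      (E.toRingEquiv.toRingHom.comp
        (Algebra.TensorProduct.includeRight : C₁ →ₐ[B₁] B ⊗[B₁] C₁).toRingHom) Q) :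
    ∃ (e : B ⊗[A] A') (h : C →ₐ[B] (B ⊗[A] A') ⧸ Ideal.span ({1 - e} : Set (B ⊗[A] A')))
      (P : PrimeSpectrum ((B ⊗[A] A') ⧸ Ideal.span ({1 - e} : Set (B ⊗[A] A')))), IsIdempotentElem e ∧
      PrimeSpectrum.comap (algebraMap B C) (PrimeSpectrum.comap h.toRingHom P) =
        PrimeSpectrum.comap (algebraMap B C) Q ∧
      PrimeSpectrum.comap (E.toRingEquiv.toRingHom.comp
        (Algebra.TensorProduct.includeRight : C₁ →ₐ[B₁] B ⊗[B₁] C₁).toRingHom)
          (PrimeSpectrum.comap h.toRingHom P) = PrimeSpectrum.comap (E.toRingEquiv.toRingHom.comp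
        (Algebra.TensorProduct.includeRight : C₁ →ₐ[B₁] B ⊗[B₁] C₁).toRingHom) Q := by
  let x := PrimeSpectrum.comap (algebraMap B C) Q
  let ι : C₁ →+* C := E.toRingEquiv.toRingHom.comp
    (Algebra.TensorProduct.includeRight : C₁ →ₐ[B₁] B ⊗[B₁] C₁).toRingHom
  let Q₁ := PrimeSpectrum.comap ι Q
  change PrimeSpectrum.comap h₁.toRingHom P₁ = Q₁ at hP₁
  let β : B₁ ⊗[A] A' →ₐ[B₁] B ⊗[A] A' :=
    Algebra.TensorProduct.map (IsScalarTower.toAlgHom B₁ B₁ B) (AlgHom.id A A')
  let e := β e₁
  let I₁ := Ideal.span ({1 - e₁} : Set (B₁ ⊗[A] A'))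
  let I := Ideal.span ({1 - e} : Set (B ⊗[A] A'))
  let βq : ((B₁ ⊗[A] A') ⧸ I₁) →ₐ[B₁] (B ⊗[A] A') ⧸ I :=
    Ideal.Quotient.liftₐ I₁ ((Ideal.Quotient.mkₐ B₁ I).comp β) fun z hz => by
      obtain ⟨w, rfl⟩ := Ideal.mem_span_singleton'.1 hz
      exact Ideal.Quotient.eq_zero_iff_mem.2 (Ideal.mem_span_singleton'.2 ⟨β w, by
        rw [map_mul, map_sub, map_one]; rfl⟩)
  let h : C →ₐ[B] (B ⊗[A] A') ⧸ I :=
    (Algebra.TensorProduct.lift (Algebra.ofId B _) (βq.comp h₁) fun _ _ => Commute.all _ _).comp E.symm.toAlgHom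
  have hhι : ∀ z, h (ι z) = βq (h₁ z) := fun z =>
    (congrArg (Algebra.TensorProduct.lift (Algebra.ofId B _) (βq.comp h₁) fun _ _ => Commute.all _ _)
      (E.symm_apply_apply ((1 : B) ⊗ₜ[B₁] z))).trans
      ((Algebra.TensorProduct.lift_tmul _ _ _ _ _).trans ((congrArg (· * _) (map_one _)).trans (one_mul _)))
  -- a prime over `x` and `P₁`
  let P₁' : PrimeSpectrum (B₁ ⊗[A] A') := PrimeSpectrum.comap (Ideal.Quotient.mk I₁) P₁
  obtain ⟨R₂, hR₂x, hR₂P⟩ := exists_prime_tensor (R := B₁) x P₁' (by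
    have h6 : PrimeSpectrum.comap (algebraMap B₁ B) x = PrimeSpectrum.comap (algebraMap B₁ C₁) Q₁ := by
      rw [← PrimeSpectrum.comap_comp_apply, ← PrimeSpectrum.comap_comp_apply]
      refine congrArg (PrimeSpectrum.comap · Q) (RingHom.ext fun b => ?_)
      show algebraMap B C (algebraMap B₁ B b) = E (1 ⊗ₜ algebraMap B₁ C₁ b)
      rw [← Algebra.TensorProduct.includeRight_apply, AlgHom.commutes]
      exact (E.commutes _).symm
    rw [h6, ← hP₁, ← PrimeSpectrum.comap_comp_apply, ← PrimeSpectrum.comap_comp_apply]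
    exact congrArg (PrimeSpectrum.comap · P₁) h₁.comp_algebraMap)
  let K : B ⊗[A] A' →ₐ[B] B ⊗[B₁] (B₁ ⊗[A] A') :=
    (Algebra.TensorProduct.cancelBaseChange A B₁ B B A').symm.toAlgHom
  have hK : ∀ z, K (β z) = (1 : B) ⊗ₜ[B₁] z := fun z => by
    refine (Algebra.TensorProduct.cancelBaseChange A B₁ B B A').symm_apply_eq.2 ?_
    induction z using TensorProduct.induction_on with
    | zero => simp
    | tmul b a =>
      rw [Algebra.TensorProduct.cancelBaseChange_tmul]
      show algebraMap B₁ B b ⊗ₜ[A] a = (b • (1 : B)) ⊗ₜ[A] a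
      rw [Algebra.algebraMap_eq_smul_one]
    | add y z hy hz => rw [map_add, TensorProduct.tmul_add, map_add, hy, hz]
  let ρ : B ⊗[A] A' →+* R₂.asIdeal.ResidueField :=
    { toFun := fun z => algebraMap (B ⊗[B₁] (B₁ ⊗[A] A')) R₂.asIdeal.ResidueField (K z)
      map_one' := (congrArg _ (map_one K)).trans (map_one _)
      map_mul' := fun a b => (congrArg _ (map_mul K a b)).trans (map_mul _ _ _)
      map_zero' := (congrArg _ (map_zero K)).trans (map_zero _)
      map_add' := fun a b => (congrArg _ (map_add K a b)).trans (map_add _ _ _) }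
  have hρe : ρ (1 - e) = 0 := by
    show algebraMap _ R₂.asIdeal.ResidueField (K (1 - β e₁)) = 0
    rw [Ideal.algebraMap_residueField_eq_zero, show (1 : B ⊗[A] A') - β e₁ = β (1 - e₁) by
      rw [map_sub, map_one], hK]
    have h7 : (1 - e₁) ∈ P₁'.asIdeal := by
      show Ideal.Quotient.mk I₁ (1 - e₁) ∈ P₁.asIdeal
      rw [Ideal.Quotient.eq_zero_iff_mem.2 (Ideal.mem_span_singleton_self _)]
      exact zero_mem _
    rw [← hR₂P] at h7
    exact h7
  let ρ' : (B ⊗[A] A') ⧸ I →+* R₂.asIdeal.ResidueField := Ideal.Quotient.lift I ρ fun z hz => by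
    obtain ⟨w, rfl⟩ := Ideal.mem_span_singleton'.1 hz
    rw [map_mul, hρe, mul_zero]
  let P := PrimeSpectrum.comap ρ' (IsLocalRing.closedPoint _)
  have hclosed : PrimeSpectrum.comap (algebraMap (B ⊗[B₁] (B₁ ⊗[A] A')) R₂.asIdeal.ResidueField)
      (IsLocalRing.closedPoint _) = R₂ :=
    PrimeSpectrum.ext (by simp [IsLocalRing.closedPoint, IsLocalRing.maximalIdeal_eq_bot,
      ← RingHom.ker_eq_comap_bot, Ideal.ker_algebraMap_residueField])
  refine ⟨e, h, P, he₁.map β, ?_⟩
  set Q' := PrimeSpectrum.comap h.toRingHom P with hQ'def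
  have hQ'x : PrimeSpectrum.comap (algebraMap B C) Q' = x := by
    rw [hQ'def, ← PrimeSpectrum.comap_comp_apply, show h.toRingHom.comp (algebraMap B C) = algebraMap B _ from
      h.comp_algebraMap, ← PrimeSpectrum.comap_comp_apply]
    rw [← hR₂x]
    conv_rhs => rw [← hclosed, ← PrimeSpectrum.comap_comp_apply]
    refine congrArg (PrimeSpectrum.comap · _) (RingHom.ext fun b => ?_)
    show algebraMap _ R₂.asIdeal.ResidueField (K (algebraMap B _ b)) = _
    rw [AlgHom.commutes]
    rfl
  have hQ'1 : PrimeSpectrum.comap ι Q' = Q₁ := by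
    rw [← hP₁, hQ'def]
    refine PrimeSpectrum.ext (Ideal.ext fun z => ?_)
    show ρ' (h (ι z)) ∈ (IsLocalRing.closedPoint R₂.asIdeal.ResidueField).asIdeal ↔ h₁ z ∈ P₁.asIdeal
    rw [hhι]
    obtain ⟨w, hw⟩ := Ideal.Quotient.mk_surjective (h₁ z)
    rw [← hw]
    show algebraMap _ R₂.asIdeal.ResidueField (K (β w)) ∈ _ ↔ _
    rw [hK]
    have h8 := SetLike.ext_iff.1 (congrArg PrimeSpectrum.asIdeal hR₂P) w
    refine Iff.trans ?_ h8
    exact SetLike.ext_iff.1 (congrArg PrimeSpectrum.asIdeal hclosed) _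
  exact ⟨hQ'x, hQ'1⟩

set_option synthInstance.maxHeartbeats 80000 in
theorem exists_etale_piece (A B C : Type u) [CommRing A] [CommRing B] [Algebra A B]
    [Algebra.IsIntegral A B] [CommRing C] [Algebra B C] [Algebra.Etale B C] (Q : PrimeSpectrum C) :
    ∃ (A' : Type u) (_ : CommRing A') (_ : Algebra A A') (_ : Algebra.Etale A A') (e : B ⊗[A] A')
      (h : C →ₐ[B] (B ⊗[A] A') ⧸ Ideal.span ({1 - e} : Set (B ⊗[A] A')))
      (P : PrimeSpectrum ((B ⊗[A] A') ⧸ Ideal.span ({1 - e} : Set (B ⊗[A] A')))),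
      IsIdempotentElem e ∧ PrimeSpectrum.comap h.toRingHom P = Q := by
  classical
  letI : Algebra A C := ((algebraMap B C).comp (algebraMap A B)).toAlgebra
  haveI : IsScalarTower A B C := IsScalarTower.of_algebraMap_eq' rfl
  obtain ⟨B₀, C₀, _, _, hB₀, hC₀, ⟨e₀⟩⟩ := Algebra.Etale.exists_subalgebra_fg (R := A) (A := B) (B := C)
  let x := PrimeSpectrum.comap (algebraMap B C) Q
  -- separate the finitely many primes in the fibre
  let Ω := PrimeSpectrum.comap (algebraMap B C) ⁻¹' {x}
  have hΩ : Ω.Finite := Algebra.QuasiFinite.finite_comap_preimage_singleton x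
  have hsep : ∀ Q' ∈ Ω, Q' ≠ Q → ∃ c : C, ¬ (c ∈ Q'.asIdeal ↔ c ∈ Q.asIdeal) := fun Q' _ hne => by
    by_contra h
    push Not at h
    exact hne (PrimeSpectrum.ext (Ideal.ext h))
  choose! c hc using hsep
  choose t ht using fun Q' => TensorProduct.exists_finset (e₀ (c Q'))
  obtain ⟨s₀, hs₀⟩ := hB₀
  let sset : Finset B := s₀ ∪ hΩ.toFinset.biUnion fun Q' => (t Q').image Prod.fst
  let B₁ : Subalgebra A B := Algebra.adjoin A (sset : Set B)
  have hle : B₀ ≤ B₁ := hs₀ ▸ Algebra.adjoin_mono (by simp [sset])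
  haveI : Module.Finite A B₁ := by
    haveI : Algebra.FiniteType A B₁ := B₁.fg_iff_finiteType.mp ⟨sset, rfl⟩
    haveI : Algebra.IsIntegral A B₁ := Algebra.IsIntegral.of_injective B₁.val Subtype.val_injective
    exact Algebra.IsIntegral.finite
  letI : Algebra B₀ B₁ := (Subalgebra.inclusion hle).toRingHom.toAlgebra
  haveI : IsScalarTower B₀ B₁ B := IsScalarTower.of_algebraMap_eq fun _ => rfl
  let C₁ := B₁ ⊗[B₀] C₀
  let E : B ⊗[B₁] C₁ ≃ₐ[B] C := (Algebra.TensorProduct.cancelBaseChange B₀ B₁ B B C₀).trans e₀.symm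
  let ι : C₁ →+* C := E.toRingEquiv.toRingHom.comp
    (Algebra.TensorProduct.includeRight : C₁ →ₐ[B₁] B ⊗[B₁] C₁).toRingHom
  let Q₁ := PrimeSpectrum.comap ι Q
  obtain ⟨A', i1, i2, i3, e₁, h₁, P₁, he₁, hP₁⟩ := exists_etale_piece_finite A B₁ C₁ Q₁
  obtain ⟨e, h, P, he, hQ'x, hQ'1⟩ := exists_piece_extend E Q e₁ he₁ h₁ P₁ hP₁
  refine ⟨A', i1, i2, i3, e, h, P, he, ?_⟩
  set Q' := PrimeSpectrum.comap h.toRingHom P
  have hQ'x : Q' ∈ Ω := hQ'x
  change PrimeSpectrum.comap ι Q' = Q₁ at hQ'1
  by_contra hne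
  refine hc Q' hQ'x hne ?_
  have hrange : c Q' ∈ ι.range := by
    rw [← e₀.symm_apply_apply (c Q'), ht Q', map_sum]
    refine Subring.sum_mem _ fun i hi => ?_
    let b : B₁ := ⟨i.1, Algebra.subset_adjoin (Finset.mem_coe.2 (Finset.mem_union_right _
      (Finset.mem_biUnion.2 ⟨Q', hΩ.mem_toFinset.2 hQ'x, Finset.mem_image_of_mem _ hi⟩)))⟩
    refine ⟨b ⊗ₜ i.2, ?_⟩
    show e₀.symm (Algebra.TensorProduct.cancelBaseChange B₀ B₁ B B C₀ (1 ⊗ₜ (b ⊗ₜ i.2))) = _
    rw [Algebra.TensorProduct.cancelBaseChange_tmul]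
    congr 2
    show b.1 * 1 = i.1
    exact mul_one _
  obtain ⟨z, hz⟩ := hrange
  rw [← hz]
  exact (SetLike.ext_iff.1 (congrArg PrimeSpectrum.asIdeal hQ'1) z)

end Groth.L27.EtSite
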