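import Groth.Agent.L27.ExtZero.Recollement
import Groth.Agent.L27.ExtZero.Cont
import Groth.Prelude.Def_W4c1etweilhu916Glue
import Mathlib.CategoryTheory.Comma.Basic
import Mathlib.CategoryTheory.Limits.Preserves.Shapes.Pullbacks

/-! # The recollement functor of a closed immersion and its complement is an equivalence -/

set_option autoImplicit false
set_option linter.style.haveILetI false
set_option linter.unusedSectionVars false
set_option backward.isDefEq.respectTransparency.types false

universe u v w

open CategoryTheory CategoryTheory.Limits AlgebraicGeometry Opposite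

namespace Groth.L27.GlueEquiv

section Abstract

variable {A : Type w} [Category.{v} A] [HasPullbacks A] {B : Type w} [Category.{v} B]
  {C : Type w} [Category.{v} C] [HasZeroObject B] [HasZeroMorphisms B] [HasZeroMorphisms C]
  {i' : A ⥤ B} {i : B ⥤ A} (adjI : i' ⊣ i) {j' : A ⥤ C} {j : C ⥤ A} (adjJ : j' ⊣ j)

/-- The glued object of a triple. -/
noncomputable abbrev glue (X : Comma (𝟭 B) (j ⋙ i')) : A :=
  pullback (i.map X.hom) (adjI.unit.app (j.obj X.right))

variable (hci : ∀ G, IsIso (adjI.counit.app G)) (hcj : ∀ H, IsIso (adjJ.counit.app H))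
  (hzero : ∀ G, IsZero (j'.obj (i.obj G)))
  (hcons : ∀ {F F' : A} (φ : F ⟶ F'), IsIso (i'.map φ) → IsIso (j'.map φ) → IsIso φ)
  [PreservesLimitsOfShape WalkingCospan i'] [PreservesLimitsOfShape WalkingCospan j']

include hci in
lemma isIso_unit_i (F : A) : IsIso (i'.map (adjI.unit.app F)) := by
  haveI := hci (i'.obj F)
  haveI : IsIso (i'.map (adjI.unit.app F) ≫ adjI.counit.app (i'.obj F)) := by
    rw [adjI.left_triangle_components F]
    exact IsIso.id _
  exact IsIso.of_isIso_comp_right _ (adjI.counit.app (i'.obj F))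

include hci in
lemma isIso_left (X : Comma (𝟭 B) (j ⋙ i')) :
    IsIso (i'.map (pullback.fst (i.map X.hom) (adjI.unit.app (j.obj X.right)))) := by
  haveI := isIso_unit_i adjI hci (j.obj X.right)
  exact ((IsPullback.of_hasPullback _ _).map i').isIso_fst_of_isIso

include hzero in
lemma isIso_right (X : Comma (𝟭 B) (j ⋙ i')) :
    IsIso (j'.map (pullback.snd (i.map X.hom) (adjI.unit.app (j.obj X.right)))) := by
  haveI : IsIso (j'.map (i.map X.hom)) :=
    ⟨(hzero _).to_ _, (hzero _).eq_of_src _ _, (hzero _).eq_of_src _ _⟩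
  exact ((IsPullback.of_hasPullback _ _).map j').isIso_snd_of_isIso

lemma fst_adj (X : Comma (𝟭 B) (j ⋙ i')) :
    (i'.map (pullback.fst (i.map X.hom) (adjI.unit.app (j.obj X.right))) ≫ adjI.counit.app X.left) ≫
      X.hom = i'.map (pullback.snd (i.map X.hom) (adjI.unit.app (j.obj X.right))) := by
  rw [Category.assoc]
  refine (congrArg (i'.map _ ≫ ·) (adjI.counit.naturality X.hom).symm).trans ?_
  show i'.map _ ≫ i'.map (i.map X.hom) ≫ adjI.counit.app _ = _
  rw [← Category.assoc, ← Functor.map_comp, pullback.condition, Functor.map_comp, Category.assoc]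
  exact (congrArg (_ ≫ ·) (adjI.left_triangle_components _)).trans (Category.comp_id _)

/-- The triple of an object. -/
@[simps]
def triple (_adjI : i' ⊣ i) : A ⥤ Comma (𝟭 B) (j ⋙ i') where
  obj F :=
    { left := i'.obj F
      right := j'.obj F
      hom := i'.map (adjJ.unit.app F) }
  map {F G} φ :=
    { left := i'.map φ
      right := j'.map φ
      w := by
        dsimp
        rw [← Functor.map_comp, ← Functor.map_comp]
        congr 1
        exact adjJ.unit.naturality φ }
  map_id F := by ext <;> simp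
  map_comp φ ψ := by ext <;> simp

/-- The comparison with the glued object. -/
noncomputable def toGlue {F : A} {X : Comma (𝟭 B) (j ⋙ i')} (a : i'.obj F ⟶ X.left)
    (b : j'.obj F ⟶ X.right) (w : a ≫ X.hom = i'.map (adjJ.unit.app F ≫ j.map b)) :
    F ⟶ glue adjI X :=
  pullback.lift (adjI.unit.app F ≫ i.map a) (adjJ.unit.app F ≫ j.map b) (by
    rw [Category.assoc, ← Functor.map_comp, w]
    exact (adjI.unit.naturality (adjJ.unit.app F ≫ j.map b)).symm)

lemma toGlue_fst {F : A} {X : Comma (𝟭 B) (j ⋙ i')} (a : i'.obj F ⟶ X.left)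
    (b : j'.obj F ⟶ X.right) (w : a ≫ X.hom = i'.map (adjJ.unit.app F ≫ j.map b)) :
    i'.map (toGlue adjI adjJ a b w) ≫
      (i'.map (pullback.fst (i.map X.hom) (adjI.unit.app (j.obj X.right))) ≫ adjI.counit.app X.left) =
        a := by
  rw [← Category.assoc, ← Functor.map_comp, toGlue, pullback.lift_fst, Functor.map_comp, Category.assoc]
  refine (congrArg (i'.map (adjI.unit.app F) ≫ ·) (adjI.counit.naturality a)).trans ?_
  exact (Category.assoc _ _ _).symm.trans
    ((congrArg (· ≫ a) (adjI.left_triangle_components F)).trans (Category.id_comp a))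

lemma toGlue_snd {F : A} {X : Comma (𝟭 B) (j ⋙ i')} (a : i'.obj F ⟶ X.left)
    (b : j'.obj F ⟶ X.right) (w : a ≫ X.hom = i'.map (adjJ.unit.app F ≫ j.map b)) :
    j'.map (toGlue adjI adjJ a b w) ≫
      (j'.map (pullback.snd (i.map X.hom) (adjI.unit.app (j.obj X.right))) ≫ adjJ.counit.app X.right) =
        b := by
  rw [← Category.assoc, ← Functor.map_comp, toGlue, pullback.lift_snd, Functor.map_comp, Category.assoc]
  refine (congrArg (j'.map (adjJ.unit.app F) ≫ ·) (adjJ.counit.naturality b)).trans ?_
  exact (Category.assoc _ _ _).symm.trans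
    ((congrArg (· ≫ b) (adjJ.left_triangle_components F)).trans (Category.id_comp b))

lemma unit_w (F : A) : 𝟙 (i'.obj F) ≫ ((triple adjJ adjI).obj F).hom =
    i'.map (adjJ.unit.app F ≫ j.map (𝟙 (j'.obj F))) :=
  (Category.id_comp _).trans (congrArg i'.map
    ((Category.comp_id _).symm.trans (congrArg (adjJ.unit.app F ≫ ·) (j.map_id _).symm)))

/-- The comparison map of an object with the glued object of its triple. -/
noncomputable def unitGlue (F : A) : F ⟶ glue adjI ((triple adjJ adjI).obj F) :=
  toGlue adjI adjJ (X := (triple adjJ adjI).obj F) (𝟙 (i'.obj F)) (𝟙 (j'.obj F))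
    (unit_w adjI adjJ _)

include hci hcj hzero hcons in
theorem isIso_unitGlue (F : A) : IsIso (unitGlue adjI adjJ F) := by
  haveI := hci ((triple adjJ adjI).obj F).left
  haveI := hcj ((triple adjJ adjI).obj F).right
  haveI := isIso_left adjI hci ((triple adjJ adjI).obj F)
  haveI := isIso_right adjI hzero ((triple adjJ adjI).obj F)
  haveI : IsIso (i'.map (pullback.fst (i.map ((triple adjJ adjI).obj F).hom)
      (adjI.unit.app (j.obj ((triple adjJ adjI).obj F).right))) ≫
      adjI.counit.app ((triple adjJ adjI).obj F).left) := IsIso.comp_isIso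
  haveI : IsIso (j'.map (pullback.snd (i.map ((triple adjJ adjI).obj F).hom)
      (adjI.unit.app (j.obj ((triple adjJ adjI).obj F).right))) ≫
      adjJ.counit.app ((triple adjJ adjI).obj F).right) := IsIso.comp_isIso
  haveI : @IsIso B _ (i'.obj F) ((triple adjJ adjI).obj F).left (𝟙 (i'.obj F)) := IsIso.id _
  haveI : @IsIso C _ (j'.obj F) ((triple adjJ adjI).obj F).right (𝟙 (j'.obj F)) := IsIso.id _
  exact hcons _ (IsIso.of_isIso_fac_right (toGlue_fst adjI adjJ (X := (triple adjJ adjI).obj F) _ _ _))
    (IsIso.of_isIso_fac_right (toGlue_snd adjI adjJ (X := (triple adjJ adjI).obj F) _ _ _))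

include hci hcj hzero hcons in
theorem isEquivalence : (triple adjJ adjI).IsEquivalence := by
  haveI hiso := isIso_unitGlue adjI adjJ hci hcj hzero hcons
  refine { faithful := ⟨fun {F F'} g g' h => ?_⟩, full := ⟨fun {F F'} φ => ?_⟩, essSurj := ⟨fun X => ?_⟩ }
  · have h1 : i'.map g = i'.map g' := congrArg CommaMorphism.left h
    have h2 : j'.map g = j'.map g' := congrArg CommaMorphism.right h
    rw [← cancel_mono (unitGlue adjI adjJ F')]
    apply pullback.hom_ext
    · refine ((Category.assoc _ _ _).trans (congrArg (g ≫ ·) (pullback.lift_fst _ _ _))).trans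
        (Eq.trans ?_ ((Category.assoc _ _ _).trans (congrArg (g' ≫ ·) (pullback.lift_fst _ _ _))).symm)
      refine (Category.assoc _ _ _).symm.trans (Eq.trans ?_ (Category.assoc _ _ _))
      refine congrArg (· ≫ _) ((adjI.unit.naturality g).trans (Eq.trans ?_ (adjI.unit.naturality g').symm))
      exact congrArg (adjI.unit.app F ≫ i.map ·) h1
    · refine ((Category.assoc _ _ _).trans (congrArg (g ≫ ·) (pullback.lift_snd _ _ _))).trans
        (Eq.trans ?_ ((Category.assoc _ _ _).trans (congrArg (g' ≫ ·) (pullback.lift_snd _ _ _))).symm)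
      refine (Category.assoc _ _ _).symm.trans (Eq.trans ?_ (Category.assoc _ _ _))
      refine congrArg (· ≫ _) ((adjJ.unit.naturality g).trans (Eq.trans ?_ (adjJ.unit.naturality g').symm))
      exact congrArg (adjJ.unit.app F ≫ j.map ·) h2
  · let a : i'.obj F ⟶ i'.obj F' := φ.left
    let b : j'.obj F ⟶ j'.obj F' := φ.right
    have w : a ≫ ((triple adjJ adjI).obj F').hom = i'.map (adjJ.unit.app F ≫ j.map b) :=
      φ.w.trans (i'.map_comp _ _).symm
    let c := unitGlue adjI adjJ F'
    let g : F ⟶ F' := toGlue adjI adjJ (X := (triple adjJ adjI).obj F') a b w ≫ inv c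
    have hg : g ≫ c = toGlue adjI adjJ (X := (triple adjJ adjI).obj F') a b w := by simp [g, c]
    refine ⟨g, CommaMorphism.ext ?_ ?_⟩
    · show i'.map g = a
      have e := toGlue_fst adjI adjJ (X := (triple adjJ adjI).obj F') (𝟙 (i'.obj F')) (𝟙 (j'.obj F'))
        (unit_w adjI adjJ _)
      have e2 := toGlue_fst adjI adjJ (X := (triple adjJ adjI).obj F') a b w
      rw [← hg, Functor.map_comp, Category.assoc] at e2
      exact ((Category.comp_id _).symm.trans (congrArg (i'.map g ≫ ·) e.symm)).trans e2
    · show j'.map g = b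
      have e := toGlue_snd adjI adjJ (X := (triple adjJ adjI).obj F') (𝟙 (i'.obj F')) (𝟙 (j'.obj F'))
        (unit_w adjI adjJ _)
      have e2 := toGlue_snd adjI adjJ (X := (triple adjJ adjI).obj F') a b w
      rw [← hg, Functor.map_comp, Category.assoc] at e2
      exact ((Category.comp_id _).symm.trans (congrArg (j'.map g ≫ ·) e.symm)).trans e2
  · haveI := hci X.left
    haveI := hcj X.right
    haveI := isIso_left adjI hci X
    haveI := isIso_right adjI hzero X
    haveI : IsIso (i'.map (pullback.fst (i.map X.hom) (adjI.unit.app (j.obj X.right))) ≫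
        adjI.counit.app X.left) := IsIso.comp_isIso
    haveI : IsIso (j'.map (pullback.snd (i.map X.hom) (adjI.unit.app (j.obj X.right))) ≫
        adjJ.counit.app X.right) := IsIso.comp_isIso
    let p : glue adjI X ⟶ j.obj X.right := pullback.snd (i.map X.hom) (adjI.unit.app (j.obj X.right))
    let eL : i'.obj (glue adjI X) ≅ X.left :=
      asIso (i'.map (pullback.fst (i.map X.hom) (adjI.unit.app (j.obj X.right))) ≫ adjI.counit.app X.left)
    let eR : j'.obj (glue adjI X) ≅ X.right :=
      asIso (j'.map (pullback.snd (i.map X.hom) (adjI.unit.app (j.obj X.right))) ≫ adjJ.counit.app X.right)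
    refine ⟨glue adjI X, ⟨Comma.isoMk eL eR ?_⟩⟩
    refine (fst_adj adjI X).trans (Eq.trans ?_ (i'.map_comp _ _))
    refine congrArg i'.map (Eq.symm ?_)
    show adjJ.unit.app (glue adjI X) ≫ j.map (j'.map p ≫ adjJ.counit.app X.right) = p
    rw [Functor.map_comp]
    refine (Category.assoc _ _ _).symm.trans
      ((congrArg (· ≫ j.map (adjJ.counit.app X.right)) (adjJ.unit.naturality p).symm).trans ?_)
    exact (Category.assoc _ _ _).trans
      ((congrArg (p ≫ ·) (adjJ.right_triangle_components _)).trans (Category.comp_id p))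

end Abstract

variable {X Z U : Scheme.{u}} (i : Z ⟶ X) [IsClosedImmersion i] (j : U ⟶ X) [IsOpenImmersion j]
  (hZU : Set.range j.base = (Set.range i.base)ᶜ)

include hZU in
lemma isZero_pull_push (G : EtCoh.Ab Z) :
    IsZero ((EtCoh.pull j).obj ((EtCoh.push i).obj G)) := by
  refine EtSite.isZero_of_stalks _ fun x => ?_
  obtain ⟨Ω, _, _, ξ, hξ⟩ := EtSite.exists_geometric_point x
  refine ⟨Ω, inferInstance, inferInstance, ξ, hξ, ?_⟩
  refine IsZero.of_iso ?_ ((EtSite.stalkPullIso j ξ).app ((EtCoh.push i).obj G))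
  refine EtSite.isZero_stalk_push i G (ξ ≫ j) ?_
  have : (ξ ≫ j).base default ∈ Set.range j.base := ⟨ξ.base default, rfl⟩
  rw [hZU] at this
  exact this

include hZU in
lemma isIso_of_pulls {F F' : EtCoh.Ab X} (φ : F ⟶ F') (h1 : IsIso ((EtCoh.pull i).map φ))
    (h2 : IsIso ((EtCoh.pull j).map φ)) : IsIso φ := by
  have key : ∀ (Ω : Type u) [Field Ω] [IsSepClosed Ω] (ξ : Spec (CommRingCat.of Ω) ⟶ X),
      IsIso ((EtCoh.stalk ξ).map φ) := by
    intro Ω _ _ ξ
    by_cases hx : ξ.base default ∈ Set.range j.base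
    · have hr : Set.range ξ ⊆ Set.range j := by
        rintro - ⟨z, rfl⟩; rwa [Subsingleton.elim z default]
      obtain ⟨v, rfl⟩ : ∃ v, v ≫ j = ξ := ⟨IsOpenImmersion.lift j ξ hr, IsOpenImmersion.lift_fac j ξ hr⟩
      exact (NatIso.isIso_map_iff (EtSite.stalkPullIso j v) _).1
        (inferInstanceAs (IsIso ((EtCoh.stalk v).map ((EtCoh.pull j).map _))))
    · have hr : Set.range ξ ⊆ Set.range i := by
        rintro - ⟨z, rfl⟩
        rw [hZU, Set.mem_compl_iff, not_not] at hx
        rwa [Subsingleton.elim z default]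
      obtain ⟨w, rfl⟩ : ∃ w, w ≫ i = ξ := by
        obtain ⟨z, hz⟩ := hr ⟨default, rfl⟩
        haveI : Surjective (pullback.snd i ξ) := ⟨fun y => by
          obtain ⟨t, -, ht⟩ := Scheme.Pullback.exists_preimage_pullback (f := i) (g := ξ) z y
            (by rw [hz, Subsingleton.elim y default])
          exact ⟨t, ht⟩⟩
        haveI : IsIso (pullback.snd i ξ) := isIso_of_isClosedImmersion_of_surjective _
        exact ⟨inv (pullback.snd i ξ) ≫ pullback.fst i ξ, by
          rw [Category.assoc, pullback.condition, IsIso.inv_hom_id_assoc]⟩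
      exact (NatIso.isIso_map_iff (EtSite.stalkPullIso i w) _).1
        (inferInstanceAs (IsIso ((EtCoh.stalk w).map ((EtCoh.pull i).map _))))
  haveI : Mono φ := (EtSite.mono_iff_stalks φ).2 fun Ω _ _ ξ =>
    haveI := key Ω ξ
    (ConcreteCategory.bijective_of_isIso ((EtCoh.stalk ξ).map φ)).1
  haveI : Epi φ := (EtSite.epi_iff_stalks φ).2 fun Ω _ _ ξ =>
    haveI := key Ω ξ
    (ConcreteCategory.bijective_of_isIso ((EtCoh.stalk ξ).map φ)).2
  exact isIso_of_mono_of_epi φ

include hZU in
theorem isEquivalence_recollTriple : (EtCore.recollTriple i j).IsEquivalence := by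
  haveI := EtSite.preservesFiniteLimits_pull i
  haveI := EtSite.preservesFiniteLimits_pull j
  haveI : AlgebraicGeometry.Etale j := inferInstance
  haveI : EtShriek.JCont j := ExtZero.jCont j
  have hcj : ∀ H, IsIso ((EtCoh.pullPushAdj j).counit.app H) := fun H => by
    haveI := (ExtZero.isIso_counit_of_mono j).1
    infer_instance
  exact isEquivalence (EtCoh.pullPushAdj i) (EtCoh.pullPushAdj j)
    (fun G => EtSite.isIso_counit i (EtSite.propA_of_isIntegralHom i) G) hcj
    (fun G => isZero_pull_push i j hZU G) (fun φ => isIso_of_pulls i j hZU φ)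

end Groth.L27.GlueEquiv
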