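import Groth.Agent.L27.EtSite.Points
import Groth.Prelude.Def_EtGm
import Mathlib.RingTheory.Etale.StandardEtale
import Mathlib.FieldTheory.IsAlgClosed.AlgebraicClosure
import Mathlib.AlgebraicGeometry.Morphisms.Etale
import Mathlib.RingTheory.Spectrum.Prime.Basic

/-! # Etale local existence of roots of units -/

universe u

open CategoryTheory CategoryTheory.Limits AlgebraicGeometry Opposite Polynomial

namespace Groth.L27.EtSite

/-- The standard etale pair `(X ^ n - a, 1)`. -/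
noncomputable def kummerPair {A : Type u} [CommRing A] (n : ℕ) (hn : 0 < n) (hu : IsUnit (n : A))
    (a : Aˣ) : StandardEtalePair A where
  f := X ^ n - C (a : A)
  monic_f := monic_X_pow_sub_C _ hn.ne'
  g := 1
  cond := by
    refine ⟨C ((↑hu.unit⁻¹ : A) * (↑a⁻¹ : A)) * X, C (-(↑a⁻¹ : A)), 0, ?_⟩
    obtain ⟨m, rfl⟩ : ∃ m, n = m + 1 := ⟨n - 1, by omega⟩
    have h1 : C ((m + 1 : ℕ) : A) * C ((↑hu.unit⁻¹ : A)) = 1 := by
      rw [← C_mul, IsUnit.mul_val_inv, C_1]
    have h2 : C (a : A) * C (↑a⁻¹ : A) = 1 := by rw [← C_mul, Units.mul_inv, C_1]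
    simp only [derivative_sub, derivative_X_pow, derivative_C, sub_zero, Nat.add_sub_cancel, pow_zero,
      C_mul, C_neg]
    linear_combination (X ^ (m + 1) * C (↑a⁻¹ : A)) * h1 + h2

/-- Units have `n`-th roots etale locally, for `n` invertible. -/
theorem exists_root {U : Scheme.{u}} (n : ℕ) (hn : IsUnit (n : Γ(U, ⊤))) (a : Γ(U, ⊤)ˣ) (x : U) :
    ∃ (V : Scheme.{u}) (g : V ⟶ U) (_ : AlgebraicGeometry.Etale g) (v : V) (b : Γ(V, ⊤)ˣ),
      g.base v = x ∧ g.appTop (a : Γ(U, ⊤)) = (b : Γ(V, ⊤)) ^ n := by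
  obtain ⟨R, j, _, hx⟩ := U.exists_affine_mem_range_and_range_subset (U := ⊤) (x := x) trivial
  obtain ⟨⟨x₀, hx₀⟩, -⟩ := hx
  let e : Γ(U, ⊤) →+* R := (j.appTop ≫ (Scheme.ΓSpecIso R).hom).hom
  let a' : Rˣ := Units.map e.toMonoidHom a
  have hu : IsUnit (n : R) := by
    have := hn.map e
    rwa [map_natCast] at this
  have hn0 : 0 < n := by
    refine Nat.pos_of_ne_zero fun h => ?_
    subst h
    rw [Nat.cast_zero, isUnit_zero_iff] at hu
    exact x₀.isPrime.ne_top ((Ideal.eq_top_iff_one _).2 (by rw [← hu]; exact zero_mem _))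
  let P := kummerPair n hn0 hu a'
  let φ : R ⟶ CommRingCat.of P.Ring := CommRingCat.ofHom (algebraMap R P.Ring)
  have : AlgebraicGeometry.Etale (Spec.map φ) :=
    HasRingHomProperty.Spec_iff.2 (RingHom.etale_algebraMap.2 inferInstance)
  let K := AlgebraicClosure (FractionRing (R ⧸ x₀.asIdeal))
  let alg : Algebra R K :=
    ((algebraMap (FractionRing (R ⧸ x₀.asIdeal)) K).comp
      ((algebraMap (R ⧸ x₀.asIdeal) (FractionRing (R ⧸ x₀.asIdeal))).comp
        (Ideal.Quotient.mk x₀.asIdeal))).toAlgebra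
  obtain ⟨z, hz⟩ := IsAlgClosed.exists_pow_nat_eq (algebraMap R K (a' : R)) hn0
  have hmap : P.HasMap z := ⟨by simp [P, kummerPair, hz], by simp [P, kummerPair]⟩
  let ψ := P.lift z hmap
  let v : Spec (CommRingCat.of P.Ring) := ⟨RingHom.ker ψ.toRingHom, RingHom.ker_isPrime _⟩
  have hv : (Spec.map φ).base v = x₀ := by
    apply PrimeSpectrum.ext
    ext r
    change ψ (algebraMap R P.Ring r) = 0 ↔ _
    rw [AlgHom.commutes]
    change algebraMap (FractionRing (R ⧸ x₀.asIdeal)) K (algebraMap (R ⧸ x₀.asIdeal) _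
      (Ideal.Quotient.mk x₀.asIdeal r)) = 0 ↔ _
    rw [map_eq_zero_iff _ (RingHom.injective _),
      map_eq_zero_iff _ (IsFractionRing.injective (R ⧸ x₀.asIdeal) _), Ideal.Quotient.eq_zero_iff_mem]
  have hX : P.X ^ n = algebraMap R P.Ring (a' : R) := by
    have h : aeval P.X (Polynomial.X ^ n - C (a' : R)) = 0 := P.hasMap_X.1
    rw [map_sub, map_pow, aeval_X, aeval_C, sub_eq_zero] at h
    exact h
  have hXu : IsUnit P.X :=
    (isUnit_pow_iff hn0.ne').1 (hX ▸ (a'.isUnit.map (algebraMap R P.Ring)))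
  refine ⟨Spec (CommRingCat.of P.Ring), Spec.map φ ≫ j, inferInstance, v,
    Units.map (Scheme.ΓSpecIso (CommRingCat.of P.Ring)).inv.hom.toMonoidHom hXu.unit, ?_, ?_⟩
  · exact (Scheme.Hom.comp_apply _ _ _).trans ((congrArg _ hv).trans hx₀)
  · have h1 : (Spec.map φ ≫ j).appTop (a : Γ(U, ⊤)) =
        (Spec.map φ).appTop ((Scheme.ΓSpecIso R).inv (a' : R)) := by
      rw [Scheme.Hom.comp_appTop, CommRingCat.comp_apply]
      congr 1
      exact (Iso.hom_inv_id_apply (Scheme.ΓSpecIso R) _).symm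
    rw [h1, ← CommRingCat.comp_apply, ← Scheme.ΓSpecIso_inv_naturality, CommRingCat.comp_apply]
    change (Scheme.ΓSpecIso (CommRingCat.of P.Ring)).inv.hom (algebraMap R P.Ring (a' : R)) = _
    rw [← hX, map_pow]
    rfl

end Groth.L27.EtSite
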