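import Groth.Agent.L27.EtSite.PropA
import Groth.Agent.L20.Weight.IsolateNonSep
import Mathlib.AlgebraicGeometry.Morphisms.Finite

/-! # Separated locally quasi-finite morphisms have property (A) -/

universe u

open CategoryTheory CategoryTheory.Limits AlgebraicGeometry TopologicalSpace

set_option backward.isDefEq.respectTransparency.types false
set_option linter.style.haveILetI false

namespace Groth.L27.EtSite

theorem propA_of_lqf {X Y : Scheme.{u}} (f : X ⟶ Y) [IsSeparated f] [LocallyQuasiFinite f]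
    [LocallyOfFiniteType f] : BigSite.PropA f := by
  intro U g _ u
  obtain ⟨V₀, v₀, y₀, hv₀, hy₀, κ, -, Q, pt, -, hQ, hcov⟩ :=
    Groth.L20.Weight.exists_isolate_nonsep f (f (g u)) {g u} (fun x _ => f.quasiFiniteAt x)
  obtain ⟨w₀, hw₁, hw₂⟩ := Scheme.Pullback.exists_preimage_pullback (f := f) (g := v₀) (g u) y₀ hy₀.symm
  obtain ⟨a, ha⟩ := hcov w₀ hw₂ (Finset.mem_singleton.2 hw₁)
  obtain ⟨hmem, hfin, -, -, -, -, -⟩ := hQ a
  let P := Q a
  let f' : (P : Scheme.{u}) ⟶ V₀ := P.ι ≫ pullback.snd f v₀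
  haveI : IsFinite f' := hfin
  haveI : IsFinite P.ι := MorphismProperty.of_postcomp (W := @IsFinite) (W' := @IsSeparated) P.ι
    (pullback.snd f v₀) inferInstance hfin
  haveI : IsClosedImmersion P.ι := IsClosedImmersion.of_isPreimmersion P.ι
    P.ι.isClosedMap.isClosed_range
  let e := P.ι ≫ pullback.fst f v₀
  have hP : e ⟨w₀, ha ▸ hmem⟩ = g u := by
    rw [Scheme.Hom.comp_apply]; exact hw₁
  obtain ⟨z, hz, -⟩ := Scheme.Pullback.exists_preimage_pullback (f := g) (g := e) u ⟨w₀, ha ▸ hmem⟩ hP.symm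
  obtain ⟨V, v, hv, W, hW, h, hh, w, hw⟩ := propA_of_isIntegralHom f' (pullback g e) (pullback.snd g e) z
  let i₀ : pullback f' v ⟶ pullback (pullback.snd f v₀) v :=
    pullback.map f' v (pullback.snd f v₀) v P.ι (𝟙 _) (𝟙 _) (Category.comp_id _)
      ((Category.comp_id _).trans (Category.id_comp _).symm)
  have hsq : IsPullback (pullback.fst f' v) i₀ P.ι (pullback.fst (pullback.snd f v₀) v) := by
    have h1 : pullback.fst f' v ≫ P.ι = i₀ ≫ pullback.fst (pullback.snd f v₀) v := (pullback.lift_fst _ _ _).symm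
    have h2 : i₀ ≫ pullback.snd (pullback.snd f v₀) v = pullback.snd f' v :=
      (pullback.lift_snd _ _ _).trans (Category.comp_id _)
    refine IsPullback.of_bot ?_ h1 (IsPullback.of_hasPullback (pullback.snd f v₀) v)
    rw [h2]
    exact IsPullback.of_hasPullback f' v
  haveI : IsOpenImmersion i₀ := MorphismProperty.of_isPullback (P := @IsOpenImmersion) hsq inferInstance
  haveI : IsClosedImmersion i₀ := MorphismProperty.of_isPullback (P := @IsClosedImmersion) hsq inferInstance
  let i : (W : Scheme.{u}) ⟶ pullback f (v ≫ v₀) := W.ι ≫ i₀ ≫ (pullbackLeftPullbackSndIso f v₀ v).hom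
  haveI : IsClosedImmersion W.ι := IsClosedImmersion.of_isPreimmersion W.ι (by rwa [Scheme.Opens.range_ι])
  haveI : IsClosedImmersion i := inferInstance
  refine ⟨V, v ≫ v₀, inferInstance, i.opensRange, i.isClosedEmbedding.isClosed_range,
    i.isoOpensRange.inv ≫ h ≫ pullback.fst g e, ?_, ?_⟩
  · rw [Category.assoc, Category.assoc, pullback.condition, reassoc_of% hh]
    rw [← Scheme.Hom.isoOpensRange_inv_comp i, Category.assoc]
    refine congrArg (i.isoOpensRange.inv ≫ ·) ?_
    simp [i, e, i₀, pullback.map]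
    exact congrArg (W.ι ≫ ·) (((pullback.lift_fst_assoc _ _ _ _).trans (Category.assoc _ _ _)).symm)
  · refine ⟨i.isoOpensRange.hom w, ?_⟩
    rw [← Scheme.Hom.comp_apply, Iso.hom_inv_id_assoc, Scheme.Hom.comp_apply, hw, hz]

end Groth.L27.EtSite
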