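import Groth.Agent.L27.EtSite.EtalePiece
import Groth.Agent.L27.EtSite.Points
import Mathlib.FieldTheory.IsSepClosed

/-! # Idempotents over etale neighbourhoods separate the points of geometric fibres -/

universe u

open CategoryTheory CategoryTheory.Limits TensorProduct IsLocalRing

set_option linter.style.haveILetI false

namespace Groth.L27.EtSite

variable {A B S Ω : Type u} [CommRing A] [CommRing B] [CommRing S] [IsLocalRing S]
  [IsSepClosed (ResidueField S)] [Field Ω] [Algebra A B] [Algebra A S] [Algebra A Ω]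

/-- Geometric fibres do not change beyond the strict henselization. -/
theorem comap_map_injective [Algebra.IsIntegral A B] (j : ResidueField S →+* Ω) (φS : S →ₐ[A] Ω)
    (hj : ∀ s, φS s = j (residue S s)) :
    Function.Injective
      (PrimeSpectrum.comap (Algebra.TensorProduct.map (AlgHom.id B B) φS).toRingHom) := by
  intro P P' hPP'
  let ks := ResidueField S
  let m : B ⊗[A] S →+* B ⊗[A] Ω := (Algebra.TensorProduct.map (AlgHom.id B B) φS).toRingHom
  let q : ℕ := ringExpChar ks
  haveI : ExpChar ks q := inferInstance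
  let ι : Ω →+* B ⊗[A] Ω := (Algebra.TensorProduct.includeRight : Ω →ₐ[A] B ⊗[A] Ω).toRingHom
  -- every element of `B` is radical over `S`
  have hb : ∀ b : B, ∃ (n : ℕ) (s : S), ((b ^ q ^ n) ⊗ₜ[A] (1 : S) - (1 : B) ⊗ₜ[A] s) ∈ P.asIdeal.comap m := by
    intro b
    let E := P.asIdeal.ResidueField
    let π : B ⊗[A] Ω →+* E := algebraMap _ _
    letI iks : Algebra ks E := (π.comp (ι.comp j)).toAlgebra
    letI : Algebra A ks := ((residue S).comp (algebraMap A S)).toAlgebra
    haveI : IsScalarTower A ks E := IsScalarTower.of_algebraMap_eq fun a => by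
      show algebraMap A E a = π (ι (j (residue S (algebraMap A S a))))
      rw [← hj, φS.commutes, IsScalarTower.algebraMap_apply A (B ⊗[A] Ω) E]
      exact congrArg π ((Algebra.TensorProduct.includeRight : Ω →ₐ[A] B ⊗[A] Ω).commutes a).symm
    let ψ : B →ₐ[A] E :=
      { toRingHom := π.comp (Algebra.TensorProduct.includeLeftRingHom : B →+* B ⊗[A] Ω)
        commutes' := fun a => (IsScalarTower.algebraMap_apply A (B ⊗[A] Ω) E a).symm }
    have hint : IsIntegral ks (ψ b) := ((Algebra.IsIntegral.isIntegral (R := A) b).map ψ).tower_top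
    let K := integralClosure ks E
    haveI : Algebra.IsIntegral ks K := ⟨fun x => (isIntegral_algHom_iff K.val Subtype.val_injective).1 x.2⟩
    haveI : Algebra.IsAlgebraic ks K := inferInstance
    haveI : IsPurelyInseparable ks K := inferInstance
    obtain ⟨n, c, hc⟩ := IsPurelyInseparable.pow_mem ks q (⟨ψ b, hint⟩ : K)
    obtain ⟨s, rfl⟩ := residue_surjective c
    refine ⟨n, s, ?_⟩
    show m _ ∈ P.asIdeal
    rw [← Ideal.algebraMap_residueField_eq_zero (I := P.asIdeal)]
    show π (m _) = 0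
    have hm1 : m ((b ^ q ^ n) ⊗ₜ[A] (1 : S)) = Algebra.TensorProduct.includeLeftRingHom (b ^ q ^ n) := by
      simp [m, Algebra.TensorProduct.map_tmul]
    have hm2 : m ((1 : B) ⊗ₜ[A] s) = ι (j (residue S s)) := by
      simp [m, ι, Algebra.TensorProduct.map_tmul, hj]
    rw [map_sub, map_sub, hm1, hm2]
    have h1 : algebraMap ks E (residue S s) = ψ b ^ q ^ n := congrArg Subtype.val hc
    show π (Algebra.TensorProduct.includeLeftRingHom (b ^ q ^ n)) - algebraMap ks E (residue S s) = 0
    rw [h1, map_pow, map_pow]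
    exact sub_self _
  -- radicality over `Ω`
  let I : Ideal (B ⊗[A] Ω) := P.asIdeal ⊓ P'.asIdeal
  have hexp : ExpChar ((B ⊗[A] Ω) ⧸ I) q := by
    haveI : Nontrivial ((B ⊗[A] Ω) ⧸ I) := Ideal.Quotient.nontrivial_iff.2 fun h =>
      P.isPrime.ne_top (top_le_iff.1 (h.ge.trans inf_le_left))
    exact expChar_of_injective_ringHom (((Ideal.Quotient.mk I).comp (ι.comp j))).injective q
  have hw : ∀ w : B ⊗[A] Ω, ∃ (n : ℕ) (ω : Ω), Ideal.Quotient.mk I (w ^ q ^ n) = Ideal.Quotient.mk I (ι ω) := by
    intro w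
    induction w using TensorProduct.induction_on with
    | zero => exact ⟨0, 0, by simp⟩
    | tmul b ω =>
      obtain ⟨n, s, hs⟩ := hb b
      have hs' : ((b ^ q ^ n) ⊗ₜ[A] (1 : S) - (1 : B) ⊗ₜ[A] s) ∈ P'.asIdeal.comap m := by
        rw [show P'.asIdeal.comap m = P.asIdeal.comap m from (congrArg PrimeSpectrum.asIdeal hPP').symm]
        exact hs
      refine ⟨n, φS s * ω ^ q ^ n, ?_⟩
      rw [Ideal.Quotient.eq]
      have he : (b ⊗ₜ[A] ω) ^ q ^ n - ι (φS s * ω ^ q ^ n) =
          m ((b ^ q ^ n) ⊗ₜ[A] (1 : S) - (1 : B) ⊗ₜ[A] s) * ((1 : B) ⊗ₜ[A] (ω ^ q ^ n)) := by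
        simp [m, ι, Algebra.TensorProduct.map_tmul, Algebra.TensorProduct.tmul_pow, sub_mul]
      rw [he]
      exact I.mul_mem_right _ ⟨hs, hs'⟩
    | add x y hx hy =>
      obtain ⟨n, ω, h1⟩ := hx
      obtain ⟨n', ω', h2⟩ := hy
      refine ⟨n + n', ω ^ q ^ n' + ω' ^ q ^ n, ?_⟩
      haveI := hexp
      simp only [map_pow, map_add] at h1 h2 ⊢
      rw [add_pow_expChar_pow, pow_add, pow_mul, h1, mul_comm (q ^ n), pow_mul, h2]
  apply PrimeSpectrum.ext
  ext w
  obtain ⟨n, ω, h⟩ := hw w
  rw [Ideal.Quotient.eq] at h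
  have hq : q ^ n ≠ 0 := pow_ne_zero n (expChar_pos ks q).ne'
  have key : ∀ J : PrimeSpectrum (B ⊗[A] Ω), I ≤ J.asIdeal → (w ∈ J.asIdeal ↔ ω = 0) := by
    intro J hJ
    constructor
    · intro hw'
      by_contra hω
      have h3 : ι ω ∈ J.asIdeal := by
        have := J.asIdeal.sub_mem (J.asIdeal.pow_mem_of_mem hw' _ (Nat.pos_of_ne_zero hq)) (hJ h)
        simpa using this
      exact J.isPrime.ne_top (Ideal.eq_top_of_isUnit_mem _ h3 ((Ne.isUnit hω).map ι))
    · rintro rfl
      have h3 : w ^ q ^ n ∈ J.asIdeal := by simpa using hJ h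
      exact J.isPrime.mem_of_pow_mem _ h3
  exact (key P inf_le_left).trans (key P' inf_le_right).symm

attribute [local instance] Algebra.TensorProduct.rightAlgebra

theorem exists_sep_idem (A B Ω : Type u) [CommRing A] [CommRing B] [Field Ω] [IsSepClosed Ω] [Algebra A Ω]
    [Algebra A B] [Algebra.IsIntegral A B] (P P' : PrimeSpectrum (B ⊗[A] Ω)) (hne : P ≠ P') :
    ∃ (A' : Type u) (_ : CommRing A') (_ : Algebra A A') (_ : Algebra.Etale A A') (φ : A' →ₐ[A] Ω)
      (e : B ⊗[A] A'), IsIdempotentElem e ∧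
        Algebra.TensorProduct.map (AlgHom.id B B) φ e ∉ P.asIdeal ∧
        Algebra.TensorProduct.map (AlgHom.id B B) φ e ∈ P'.asIdeal := by
  classical
  let p := RingHom.ker (algebraMap A Ω)
  haveI : p.IsPrime := RingHom.ker_isPrime _
  let R := Localization.AtPrime p
  have hunit : ∀ y : p.primeCompl, IsUnit (algebraMap A Ω y) := fun y => Ne.isUnit fun h => y.2 h
  let r : R →+* Ω := IsLocalization.lift hunit
  have hr : ∀ a, r (algebraMap A R a) = algebraMap A Ω a := IsLocalization.lift_eq hunit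
  haveI : IsLocalHom r := ⟨fun x hx => by
    by_contra hnu
    obtain ⟨a, t, rfl⟩ := IsLocalization.exists_mk'_eq p.primeCompl x
    have ha : a ∈ p := by
      by_contra ha
      exact hnu ((IsLocalization.AtPrime.isUnit_mk'_iff R p a t).2 ha)
    refine hx.ne_zero ?_
    rw [IsLocalization.lift_mk', show algebraMap A Ω a = 0 from ha, zero_mul]⟩
  obtain ⟨S, _, _, _, _, hS⟩ := Groth.L05.Henselization.exists_isStrictHenselization R
  haveI := hS.henselian
  haveI hsc : IsSepClosure (ResidueField R) (ResidueField S) := hS.isSepClosure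
  haveI : IsSepClosed (ResidueField S) := hsc.sep_closed
  haveI : Algebra.IsSeparable (ResidueField R) (ResidueField S) := hsc.separable
  letI : Algebra A S := ((algebraMap R S).comp (algebraMap A R)).toAlgebra
  haveI : IsScalarTower A R S := IsScalarTower.of_algebraMap_eq' rfl
  have hind : EtPBC.IsIndEtale A S :=
    Groth.L27.IndEtale.trans A R S (isIndEtale_localization A p.primeCompl R)
      (Groth.L05.Henselization.isIndEtale_of_isStrictHenselization R S)
  letI : Algebra (ResidueField R) Ω := (IsLocalRing.ResidueField.lift r).toAlgebra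
  let j : ResidueField S →ₐ[ResidueField R] Ω := IsSepClosed.lift
  let φS : S →ₐ[A] Ω :=
    { toRingHom := j.toRingHom.comp (residue S)
      commutes' := fun a => (j.commutes (residue R (algebraMap A R a))).trans (hr a) }
  let m : B ⊗[A] S →ₐ[B] B ⊗[A] Ω := Algebra.TensorProduct.map (AlgHom.id B B) φS
  -- separate at a finite stage
  obtain ⟨x, hx⟩ : ∃ x, ¬ (m x ∈ P.asIdeal ↔ m x ∈ P'.asIdeal) := by
    by_contra h
    push Not at h
    exact hne (comap_map_injective j.toRingHom φS (fun _ => rfl) (PrimeSpectrum.ext (Ideal.ext h)))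
  obtain ⟨t, ht⟩ := TensorProduct.exists_finset x
  let B₁ : Subalgebra A B := Algebra.adjoin A ((t.image Prod.fst : Finset B) : Set B)
  haveI : Module.Finite A B₁ := by
    haveI : Algebra.FiniteType A B₁ := B₁.fg_iff_finiteType.mp ⟨_, rfl⟩
    haveI : Algebra.IsIntegral A B₁ := Algebra.IsIntegral.of_injective B₁.val Subtype.val_injective
    exact Algebra.IsIntegral.finite
  haveI : Module.Finite S (B₁ ⊗[A] S) :=
    Module.Finite.equiv (Algebra.TensorProduct.commRight A S B₁).toLinearEquiv
  let i₁ : B₁ ⊗[A] S →ₐ[A] B ⊗[A] S := Algebra.TensorProduct.map B₁.val (AlgHom.id A S)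
  let m₁ : B₁ ⊗[A] S →+* B ⊗[A] Ω := m.toRingHom.comp i₁.toRingHom
  obtain ⟨x₁, hx₁⟩ : ∃ x₁, i₁ x₁ = x := by
    refine ⟨∑ i ∈ t.attach, (⟨i.1.1, Algebra.subset_adjoin (Finset.mem_coe.2
      (Finset.mem_image_of_mem _ i.2))⟩ : B₁) ⊗ₜ i.1.2, ?_⟩
    rw [map_sum, ht, ← Finset.sum_attach t]
    rfl
  have hmax : ∀ J : PrimeSpectrum (B ⊗[A] Ω), (J.asIdeal.comap m₁).IsMaximal := fun J => by
    refine Ideal.isMaximal_of_isIntegral_of_isMaximal_comap (R := S) _ ?_
    have h1 : (J.asIdeal.comap m₁).comap (algebraMap S (B₁ ⊗[A] S)) = maximalIdeal S := by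
      ext s
      show m (i₁ ((1 : B₁) ⊗ₜ[A] s)) ∈ J.asIdeal ↔ _
      have h2 : m (i₁ ((1 : B₁) ⊗ₜ[A] s)) =
          (Algebra.TensorProduct.includeRight : Ω →ₐ[A] B ⊗[A] Ω) (φS s) := by
        simp [m, i₁, Algebra.TensorProduct.map_tmul]
      rw [h2, ← IsLocalRing.residue_eq_zero_iff]
      constructor
      · intro h
        by_contra h0
        exact J.isPrime.ne_top (Ideal.eq_top_of_isUnit_mem _ h (((Ne.isUnit h0).map j).map _))
      · intro h
        rw [show φS s = j (residue S s) from rfl, h, map_zero, map_zero]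
        exact zero_mem _
    rw [h1]
    infer_instance
  have hQ : P.asIdeal.comap m₁ ≠ P'.asIdeal.comap m₁ := fun h => hx (by
    have := SetLike.ext_iff.1 h x₁
    rw [← hx₁]
    exact this)
  obtain ⟨ι, _, es, hes, hloc⟩ := Groth.L05.exists_idem_local_of_finite (A := S) (B₁ ⊗[A] S)
  obtain ⟨i, hi⟩ : ∃ i, es i ∉ P.asIdeal.comap m₁ := by
    by_contra h
    push Not at h
    exact (hmax P).ne_top ((Ideal.eq_top_iff_one _).2 (hes.complete ▸ Ideal.sum_mem _ fun i _ => h i))
  have hi' : es i ∈ P'.asIdeal.comap m₁ := by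
    by_contra hi'
    haveI := hloc i
    have hin : ∀ J : PrimeSpectrum (B ⊗[A] Ω), es i ∉ J.asIdeal.comap m₁ →
        J.asIdeal.comap m₁ = (maximalIdeal ((B₁ ⊗[A] S) ⧸ Ideal.span {1 - es i})).comap (Ideal.Quotient.mk _) := by
      intro J hJ
      haveI := hmax J
      have hle : Ideal.span {1 - es i} ≤ J.asIdeal.comap m₁ := by
        rw [Ideal.span_le, Set.singleton_subset_iff]
        refine (Ideal.IsMaximal.isPrime' _).mem_or_mem ?_ |>.resolve_left hJ
        rw [mul_sub, mul_one, (hes.idem i).eq, sub_self]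
        exact zero_mem _
      have hmm : ((J.asIdeal.comap m₁).map (Ideal.Quotient.mk (Ideal.span {1 - es i}))).IsMaximal :=
        Ideal.IsMaximal.map_of_surjective_of_ker_le Ideal.Quotient.mk_surjective (by rwa [Ideal.mk_ker])
      rw [← IsLocalRing.eq_maximalIdeal hmm,
        Ideal.comap_map_of_surjective _
        Ideal.Quotient.mk_surjective, ← RingHom.ker_eq_comap_bot, Ideal.mk_ker, sup_eq_left.2 hle]
    exact hQ ((hin P hi).trans (hin P' hi').symm)
  -- descend the idempotent to an etale stage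
  let e₀ := i₁ (es i)
  have he₀ : IsIdempotentElem e₀ := (hes.idem i).map i₁
  let G : B × B →ₐ[B] B ⊗[A] S :=
    { toFun := fun z => algebraMap B _ z.1 * e₀ + algebraMap B _ z.2 * (1 - e₀)
      map_one' := by simp [← Algebra.TensorProduct.one_def]
      map_mul' := fun a b => by
        simp only [Prod.fst_mul, Prod.snd_mul, map_mul]
        linear_combination (-(algebraMap B (B ⊗[A] S) a.1 * algebraMap B (B ⊗[A] S) b.1) -
          algebraMap B (B ⊗[A] S) a.2 * algebraMap B (B ⊗[A] S) b.2 +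
          algebraMap B (B ⊗[A] S) a.1 * algebraMap B (B ⊗[A] S) b.2 +
          algebraMap B (B ⊗[A] S) a.2 * algebraMap B (B ⊗[A] S) b.1) * he₀.eq
      map_zero' := by simp
      map_add' := fun a b => by simp only [Prod.fst_add, Prod.snd_add, map_add]; ring
      commutes' := fun b => by simp only [Prod.algebraMap_apply, Algebra.algebraMap_self, RingHom.id_apply]; ring }
  haveI := finitePresentation_prod B B B
  obtain ⟨A', i1, i2, i3, φ, G', hG'⟩ := exists_stage hind G
  have key : Algebra.TensorProduct.map (AlgHom.id B B) (φS.comp φ) (G' (1, 0)) = m e₀ := by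
    have hcomp : ∀ z : B ⊗[A] A', Algebra.TensorProduct.map (AlgHom.id B B) (φS.comp φ) z =
        m (Algebra.TensorProduct.map (AlgHom.id B B) φ z) := fun z => by
      induction z using TensorProduct.induction_on with
      | zero => simp
      | tmul b a => rfl
      | add y z hy hz => simp only [map_add, hy, hz]
    rw [hcomp, hG']
    refine congrArg m ?_
    show algebraMap B _ (1 : B) * e₀ + algebraMap B _ (0 : B) * (1 - e₀) = e₀
    simp [← Algebra.TensorProduct.one_def]
  refine ⟨A', i1, i2, i3, φS.comp φ, G' (1, 0), IsIdempotentElem.map (show IsIdempotentElem ((1, 0) : B × B) from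
    Prod.ext (one_mul 1) (mul_zero 0)) G', ?_, ?_⟩
  · rw [key]; exact hi
  · rw [key]; exact hi'

end Groth.L27.EtSite
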